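import Cfsg.Agent.H956.IF.Central
import Cfsg.Agent.H30.IF.Frob_m3
import Cfsg.Agent.H383.Cube.DC_m3
import Cfsg.Agent.H209.EPX.Defs_m3
import Cfsg.Agent.H74.SpN
import Cfsg.Agent.ClassicalGeometry.TwoFamilies
import Cfsg.Agent.H79.MinIdxSp2.Final
import Cfsg.Agent.H989.Fx.Ty_m3
import Cfsg.Agent.LieClassical.OrthForms
import Cfsg.Agent.H75.Transfer
import Cfsg.Agent.AutOrth.Gen
import Cfsg.Agent.LieClassical.OrthFinite
import Cfsg.Agent.ClassicalGeometry.OrthAut1
import Cfsg.Agent.S2119
import Mathlib.GroupTheory.SpecificGroups.Alternating.MaximalSubgroups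
import Mathlib
import Cfsg.Agent.S0725
import Cfsg.Agent.S0713
import Cfsg.Agent.LieClassical.HermPerfect
import Cfsg.Agent.H510.CS.Irr_m3
import Cfsg.Agent.S0277
import Cfsg.Agent.H450.Bs.GenU_m3
import Cfsg.Agent.ClassicalGeometry.PSUAutBasic
import Cfsg.Agent.CpAut.Fix
import Cfsg.Agent.H950.UHerm
import Cfsg.Agent.H16.BR.Idx
import Cfsg.Agent.H203.IF.Heis
import Cfsg.Agent.S0242
import Cfsg.Agent.S0199
import Cfsg.Agent.S0215
import Cfsg.Agent.S0806
import Cfsg.Agent.GH.Cov.SLTwoFacts
import Cfsg.Agent.H452.FprPsl2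
import Cfsg.Agent.H123.Cls.ListCover_m3
import Mathlib.Algebra.Group.Pointwise.Set.Basic
import Mathlib.GroupTheory.GroupAction.Pointwise
import Cfsg.Agent.H763.Co3.C0_mg
import Cfsg.Agent.H897.IF.ENum
import Cfsg.Agent.FastGrp
import Cfsg.Agent.Prune
set_option linter.all false

section
prune_inst 0x7fb0e8f8abb82ddedfff7e7fa698cffc39801fffa6dff9433fe0a9ef0b9f030209456b8d09e010fe0e62601410b87803f97eceffe26bd87ffffd1df41ffbee0fa5e7b50811d4883407340fff03f0778a7f3fffffffffffffffffffffffffffbeffbdffffffff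

-- part: H800/IFx/Gen
section
set_option linter.all false
open scoped Cfsg.Agent.FastGrp

/-!
# S5719: general lemmas (helper800)

* `not_abel` : `A` is not abelian;
* `cent_bound` : an involution `t ∈ A`: `|C_T(t)|^6 < n |C_A(t)|^6`.
-/

set_option autoImplicit false
set_option linter.unusedSectionVars false

namespace Cfsg.Agent.H800.IFx

open Cfsg Cfsg.Agent.H209.Fxy

section

variable {T : Type*} [Group T] [Finite T] {A : Subgroup T} {Γ : Subgroup (MulAut T)}

/-- **`A` is not abelian** (Burnside). -/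
theorem not_abel [IsSimpleGroup T] (hna : ∃ a b : T, a * b ≠ b * a) (h : IF A Γ)
    (hab : ∀ a ∈ A, ∀ b ∈ A, a * b = b * a) : False := by
  have hA1 : Nat.card A ≠ 1 := by
    intro h1
    exact h.ne_bot (Subgroup.card_eq_one.1 h1)
  obtain ⟨r, hr, hrA⟩ := Nat.exists_prime_and_dvd hA1
  have hfr : Fact r.Prime := ⟨hr⟩
  obtain ⟨R⟩ : Nonempty (Sylow r A) := inferInstance
  -- all `r`-elements of `A` lie in `R`
  have hmem : ∀ x : A, (∃ k : ℕ, x ^ r ^ k = 1) → x ∈ (R : Subgroup A) := by
    rintro x ⟨k, hk⟩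
    have hn : (R : Subgroup A).Normal := ⟨fun y hy g => by
      have : g * y * g⁻¹ = y := by
        apply Subtype.ext
        change (g : T) * y * (g : T)⁻¹ = y
        rw [hab g g.2 y y.2, mul_inv_cancel_right]
      rwa [this]⟩
    have hz : IsPGroup r (Subgroup.zpowers x) := by
      intro y
      obtain ⟨y, hy⟩ := y
      obtain ⟨j, rfl⟩ := Subgroup.mem_zpowers_iff.1 hy
      refine ⟨k, Subtype.ext ?_⟩
      change (x ^ j) ^ r ^ k = 1
      rw [← zpow_natCast, ← zpow_mul, mul_comm, zpow_mul, zpow_natCast, hk, one_zpow]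
    have hs : IsPGroup r ((R : Subgroup A) ⊔ Subgroup.zpowers x : Subgroup A) :=
      R.isPGroup'.to_sup_of_normal_left hz
    have := R.3 hs le_sup_left
    rw [← this]
    exact le_sup_right (a := (R : Subgroup A)) (Subgroup.mem_zpowers x)
  set R' : Subgroup T := (R : Subgroup A).map A.subtype with hR'
  have hR'A : R' ≤ A := by
    rintro _ ⟨y, -, rfl⟩
    exact y.2
  have hmem' : ∀ x ∈ A, (∃ k : ℕ, x ^ r ^ k = 1) → x ∈ R' := by
    rintro x hx ⟨k, hk⟩
    exact ⟨⟨x, hx⟩, hmem ⟨x, hx⟩ ⟨k, Subtype.ext hk⟩, rfl⟩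
  have hpow : ∀ x ∈ R', ∃ k : ℕ, x ^ r ^ k = 1 := by
    rintro _ ⟨y, hy, rfl⟩
    obtain ⟨k, hk⟩ := R.isPGroup' ⟨y, hy⟩
    exact ⟨k, congrArg (fun z : (R : Subgroup A) => ((z : A) : T)) hk⟩
  have hne : R' ≠ ⊥ := by
    intro h1
    rw [hR', Subgroup.map_eq_bot_iff_of_injective _ A.subtype_injective] at h1
    exact R.ne_bot_of_dvd_card hrA h1
  have hnorm : ∀ x : T, (∀ k ∈ R', x * k * x⁻¹ ∈ R') → x ∈ A := fun x hx =>
    Cfsg.Agent.H680.Fxy.IF.norm h hR'A (fun σ hσ k hk => by
      obtain ⟨j, hj⟩ := hpow k hk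
      exact hmem' _ ((h.inv σ hσ k).2 (hR'A hk)) ⟨j, by rw [← map_pow, hj, map_one]⟩) hne hx
  -- `R'` is a Sylow subgroup of `T`
  have hR'p : IsPGroup r R' := R.isPGroup'.map _
  obtain ⟨P, hP⟩ := hR'p.exists_le_sylow
  have hPR : (P : Subgroup T) = R' := by
    by_contra hcon
    have hlt : R' < (P : Subgroup T) := lt_of_le_of_ne hP (Ne.symm hcon)
    -- normalizers grow in `P`
    have h1 : R'.subgroupOf P ≠ ⊤ := by
      rw [Ne, Subgroup.subgroupOf_eq_top]
      exact fun h2 => hlt.not_ge h2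
    have hnil : Group.IsNilpotent P := P.isPGroup'.isNilpotent
    have h2 := Group.normalizerCondition_of_isNilpotent (G := P) (R'.subgroupOf P) (lt_top_iff_ne_top.2 h1)
    obtain ⟨x, hx1, hx2⟩ := SetLike.exists_of_lt h2
    apply hx2
    rw [Subgroup.mem_subgroupOf]
    obtain ⟨j, hj⟩ := P.isPGroup' x
    refine hmem' _ (hnorm _ ?_) ⟨j, congrArg (fun z : P => (z : T)) hj⟩
    intro k hk
    have h3 := (Subgroup.mem_normalizer_iff.1 hx1 ⟨k, hP hk⟩).1 (by rw [Subgroup.mem_subgroupOf]; exact hk)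
    exact h3
  -- Burnside
  have hNC : Subgroup.normalizer ((P : Subgroup T) : Set T) ≤ Subgroup.centralizer ((P : Subgroup T) : Set T) := by
    intro x hx
    have hxA : x ∈ A := hnorm x fun k hk => by
      rw [← hPR] at hk ⊢
      exact (Subgroup.mem_normalizer_iff.1 hx k).1 hk
    rw [Subgroup.mem_centralizer_iff]
    intro y hy
    rw [SetLike.mem_coe, hPR] at hy
    exact hab y (hR'A hy) x hxA
  have hcomp := MonoidHom.ker_transferSylow_isComplement' P hNC
  have hcard := hcomp.card_mul_card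
  have hPne : Nat.card P ≠ 1 := by
    intro h1
    apply hne
    rw [← hPR]
    exact Subgroup.card_eq_one.1 h1
  rcases (inferInstance : (MonoidHom.transferSylow P hNC).ker.Normal).eq_bot_or_eq_top with h1 | h1
  · rw [h1, Subgroup.card_bot, one_mul] at hcard
    have h2 : (P : Subgroup T) = ⊤ := Subgroup.eq_top_of_card_eq _ hcard
    obtain ⟨a, b, hab'⟩ := hna
    apply hab'
    have h3 : ∀ x : T, x ∈ A := fun x => hR'A (by rw [← hPR, h2]; exact Subgroup.mem_top x)
    exact hab a (h3 a) b (h3 b)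
  · rw [h1, Subgroup.card_top] at hcard
    have h2 : 0 < Nat.card T := Nat.card_pos
    exact hPne (Nat.eq_of_mul_eq_mul_left h2 (by rw [hcard, mul_one]))

/-- an involution `t` of `A`: `|C_T(t)|^6 < n |C_A(t)|^6` -/
theorem cent_bound (hconj : ∀ t : T, orderOf (MulAut.conj t) = orderOf t) (h : IF A Γ) {t : T} (ht : t ∈ A)
    (h2 : orderOf t = 2) :
    Nat.card (Subgroup.centralizer ({t} : Set T)) ^ 6 <
      A.index * Nat.card (A ⊓ Subgroup.centralizer ({t} : Set T) : Subgroup T) ^ 6 := by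
  refine Cfsg.Agent.H680.Fxy.IF.semireg h (σ := MulAut.conj t) ((h.conj t).2 ht) (by rw [hconj, h2]) ?_
  intro b hb
  rw [Subgroup.mem_centralizer_singleton_iff] at hb
  rw [MulAut.conj_apply, ← hb, mul_inv_cancel_right]

/-- the centralizer in `A`, by an isomorphism with a known group -/
theorem card_cent_equiv {B : Type*} [Group B] (e : A ≃* B) {t : T} (ht : t ∈ A) :
    Nat.card (A ⊓ Subgroup.centralizer ({t} : Set T) : Subgroup T) =
      Nat.card (Subgroup.centralizer ({e ⟨t, ht⟩} : Set B)) := by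
  refine Nat.card_congr ⟨fun x => ⟨e ⟨x, x.2.1⟩, ?_⟩, fun y => ⟨(e.symm y : A), (e.symm y).2, ?_⟩, ?_, ?_⟩
  · have h1 := Subgroup.mem_centralizer_singleton_iff.1 x.2.2
    rw [Subgroup.mem_centralizer_singleton_iff, ← map_mul, ← map_mul]
    congr 1
    exact Subtype.ext h1
  · have h1 := Subgroup.mem_centralizer_singleton_iff.1 y.2
    refine Subgroup.mem_centralizer_singleton_iff.2 ?_
    have h2 : e.symm y * (⟨t, ht⟩ : A) = (⟨t, ht⟩ : A) * e.symm y := by
      apply e.injective
      rw [map_mul, map_mul, e.apply_symm_apply]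
      exact h1
    exact congrArg Subtype.val h2
  · intro x
    apply Subtype.ext
    simp
  · intro y
    apply Subtype.ext
    simp

end

end Cfsg.Agent.H800.IFx
end

-- part: H460/IFO/Base
section
set_option linter.all false
open scoped Cfsg.Agent.FastGrp

/-!
# S5719, `|A|` odd: base lemmas (helper460)

`IF A Γ`, `|A|` odd:
* `ne_conj` : the involutions of `Γ` are not inner;
* `comap_lt` : `(A.comap j).index ^ 6 < A.index` for `j : K →* T` with image fixed by an involution `σ ∈ Γ`;
* `odd_comap` : `|A.comap j|` is odd (`j` injective);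
* `two_pow_lt` : `2 ^ m ∣ |K|` gives `(2 ^ m) ^ 6 < A.index`;
* `index_le_card` : `A.index ≤ |T|`.
-/

set_option autoImplicit false
set_option linter.unusedSectionVars false

namespace Cfsg.Agent.H460.IFO

open Subgroup Cfsg.Agent.H209.Fxy

universe u v

variable {T : Type u} [Group T] {A : Subgroup T} {Γ : Subgroup (MulAut T)}

/-- `|A|` odd: the involutions of `Γ` are not inner. -/
theorem ne_conj (h : IF A Γ) (hO : Odd (Nat.card A)) {σ : MulAut T} (hσ : σ ∈ Γ) (h2 : orderOf σ = 2) (a : T) :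
    σ ≠ MulAut.conj a := by
  rintro rfl
  have ha := (h.conj a).1 hσ
  have h1 : orderOf (MulAut.conj a) ∣ orderOf a := orderOf_map_dvd MulAut.conj a
  have h3 : orderOf a ∣ Nat.card A := by
    have := orderOf_dvd_natCard (⟨a, ha⟩ : A)
    rwa [Subgroup.orderOf_mk] at this
  rw [h2] at h1
  exact (Nat.not_even_iff_odd.2 hO) (even_iff_two_dvd.2 (h1.trans h3))

/-- an outer involution of `Γ` -/
theorem exists_outer (h : IF A Γ) (hO : Odd (Nat.card A)) : ∃ σ ∈ Γ, orderOf σ = 2 ∧ ∀ a : T, σ ≠ MulAut.conj a := by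
  obtain ⟨σ, hσ, h2, -⟩ := h.ex
  exact ⟨σ, hσ, h2, ne_conj h hO hσ h2⟩

variable {K : Type v} [Group K]

/-- **A group `K` fixed by the involution `σ`** (through `j : K →* T`): `|K : K ∩ A| ^ 6 < |T : A|`. -/
theorem comap_lt [Finite T] (h : IF A Γ) {σ : MulAut T} (hσ : σ ∈ Γ) (h2 : orderOf σ = 2) (j : K →* T)
    (hj : ∀ k, σ (j k) = j k) : (A.comap j).index ^ 6 < A.index := by
  rw [Subgroup.index_comap]
  refine (Cfsg.Agent.H680.Fxy.IF.E1 h hσ h2 ?_).2
  rintro _ ⟨k, rfl⟩
  exact hj k

theorem odd_comap [Finite T] (hO : Odd (Nat.card A)) {j : K →* T} (hi : Function.Injective j) :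
    Odd (Nat.card (A.comap j)) := by
  have h1 : Nat.card (A.comap j) ∣ Nat.card A := by
    have h2 : Nat.card (A.comap j) = Nat.card ((A.comap j).map j) :=
      Nat.card_congr ((A.comap j).equivMapOfInjective j hi).toEquiv
    rw [h2]
    exact Subgroup.card_dvd_of_le (Subgroup.map_comap_le j A)
  exact hO.of_dvd_nat h1

theorem index_le_card [Finite T] (A : Subgroup T) : A.index ≤ Nat.card T :=
  Nat.le_of_dvd Nat.card_pos A.index_dvd_card

/-- a subgroup of odd order has index at least the 2-part -/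
theorem two_pow_le_index [Finite K] {X : Subgroup K} (hX : Odd (Nat.card X)) {m : ℕ} (hm : 2 ^ m ∣ Nat.card K) :
    2 ^ m ≤ X.index := by
  have h1 : 2 ^ m ∣ X.index := by
    rw [← Subgroup.card_mul_index X] at hm
    exact (Nat.Coprime.pow_left m (Nat.coprime_two_left.2 hX)).dvd_of_dvd_mul_left hm
  exact Nat.le_of_dvd (Nat.pos_of_ne_zero X.index_ne_zero_of_finite) h1

/-- **The 2-part**: `K` fixed by the involution `σ ∈ Γ`, `2 ^ m ∣ |K|`, `|A|` odd: `(2 ^ m) ^ 6 < |T : A|`. -/
theorem two_pow_lt [Finite T] (h : IF A Γ) (hO : Odd (Nat.card A)) {σ : MulAut T} (hσ : σ ∈ Γ) (h2 : orderOf σ = 2)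
    (j : K →* T) (hi : Function.Injective j) (hj : ∀ k, σ (j k) = j k) {m : ℕ} (hm : 2 ^ m ∣ Nat.card K) :
    (2 ^ m) ^ 6 < A.index := by
  have : Finite K := Finite.of_injective j hi
  exact (Nat.pow_le_pow_left (two_pow_le_index (odd_comap hO hi) hm) 6).trans_lt (comap_lt h hσ h2 j hj)

/-- the same with `|T|` -/
theorem false_of_two_pow [Finite T] (h : IF A Γ) (hO : Odd (Nat.card A)) {σ : MulAut T} (hσ : σ ∈ Γ)
    (h2 : orderOf σ = 2) (j : K →* T) (hi : Function.Injective j) (hj : ∀ k, σ (j k) = j k) {m : ℕ}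
    (hm : 2 ^ m ∣ Nat.card K) (hT : Nat.card T ≤ (2 ^ m) ^ 6) : False :=
  absurd ((two_pow_lt h hO hσ h2 j hi hj hm).trans_le (index_le_card A)) (not_lt.2 hT)

end Cfsg.Agent.H460.IFO
end

-- part: H820/IF/JFourA
section
set_option linter.all false
open scoped Cfsg.Agent.FastGrp

/-!
# S5719, the group `J4`: the arithmetic of the maximal subgroups (helper820)

Abstract form: `T` is a simple group of order `|J4|`; an involution `u` is of class 2A if `|C(u)| = 21799895040` and of
class 2B if `|C(u)| = 1816657920`.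

* `fx_ge` : `f(t) |t^T| ≥ n |S|` if `S` is a set of conjugates of `t` in `A`;
* `ncard_conj` : the number of `N`-conjugates of `a`;
* `case_z`, `case_V`, `case_D`, `case_X` : the four maximal 2-local subgroups; `case_ord` : small or bad orders.
-/

set_option autoImplicit false
set_option linter.unusedSectionVars false

namespace Cfsg.Agent.H820.IFJ

open MulAction Subgroup Cfsg.Agent.H284 Cfsg.Agent.H209.Fxy Cfsg.Agent.H999.IFB Cfsg.Agent.H809.IFC

section general

variable {T : Type*} [Group T] [Finite T] {A : Subgroup T} {Γ : Subgroup (MulAut T)}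

theorem card_inf_mul (A C : Subgroup T) : Nat.card (A ⊓ C : Subgroup T) * A.relIndex C = Nat.card C := by
  rw [← Subgroup.inf_relIndex_right A C, Subgroup.relIndex,
    ← Nat.card_congr (Subgroup.subgroupOfEquivOfLe (inf_le_right : A ⊓ C ≤ C)).toEquiv]
  exact Subgroup.card_mul_index _

theorem card_inf_mul' (A C : Subgroup T) : Nat.card (A ⊓ C : Subgroup T) * C.relIndex A = Nat.card A := by
  rw [inf_comm]
  exact card_inf_mul C A

/-- the number of `N`-conjugates of `a` -/
theorem ncard_conj (N : Subgroup T) (a : T) :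
    Set.ncard {v : T | ∃ n ∈ N, n * a * n⁻¹ = v} = (centralizer ({a} : Set T)).relIndex N := by
  let _ : MulAction N T := MulAction.compHom T ((MulAut.conj : T →* MulAut T).comp N.subtype)
  have h1 : ∀ (n : N) (x : T), n • x = (n : T) * x * (n : T)⁻¹ := fun n x => rfl
  have h2 : {v : T | ∃ n ∈ N, n * a * n⁻¹ = v} = MulAction.orbit N a := by
    ext v
    constructor
    · rintro ⟨n, hn, rfl⟩
      exact ⟨⟨n, hn⟩, rfl⟩
    · rintro ⟨n, rfl⟩
      exact ⟨n, n.2, rfl⟩
  have h3 : (centralizer ({a} : Set T)).subgroupOf N = MulAction.stabilizer N a := by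
    ext n
    rw [Subgroup.mem_subgroupOf, Subgroup.mem_centralizer_singleton_iff, MulAction.mem_stabilizer_iff, h1,
      mul_inv_eq_iff_eq_mul]
  rw [h2, Subgroup.relIndex, h3, MulAction.index_stabilizer]

theorem conj_ne [IsSimpleGroup T] (hna : ∃ a b : T, a * b ≠ b * a) : Function.Injective (MulAut.conj : T →* MulAut T) :=
  Cfsg.Agent.H677.SE.conj_inj hna

/-- `f(t) |t^T| ≥ n |S|` -/
theorem fx_ge [IsSimpleGroup T] (h : IF A Γ) (hna : ∃ a b : T, a * b ≠ b * a) {t : T} (ht : t ∈ A) (h2 : orderOf t = 2)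
    {S : Set T} (hSA : ∀ s ∈ S, s ∈ A) (hS : ∀ s ∈ S, IsConj t s) :
    A.index * S.ncard ≤ fx A (MulAut.conj t) * (centralizer ({t} : Set T)).index := by
  obtain ⟨-, h4, -⟩ := IF.E2' h hna ht h2
  rw [← h4, (IF.fix_formula' h ((h.conj t).2 ht))]
  apply Nat.mul_le_mul_left
  rw [← Set.ncard_image_of_injective S (conj_ne hna)]
  apply Set.ncard_le_ncard
  · rintro _ ⟨s, hs, rfl⟩
    refine ⟨?_, (h.conj s).2 (hSA s hs)⟩
    obtain ⟨g, hg⟩ := isConj_iff.1 (hS s hs)
    refine ⟨g, ?_⟩
    rw [← hg, map_mul, map_mul, map_inv]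
  · exact Set.toFinite _

theorem le_fx [IsSimpleGroup T] (h : IF A Γ) (hna : ∃ a b : T, a * b ≠ b * a) {t : T} (ht : t ∈ A) (h2 : orderOf t = 2) :
    A.relIndex (centralizer ({t} : Set T)) ≤ fx A (MulAut.conj t) := by
  refine (IF.E1 h ((h.conj t).2 ht) (by rw [orderOf_conj hna, h2]) ?_).1
  intro b hb
  rw [Subgroup.mem_centralizer_singleton_iff] at hb
  rw [MulAut.conj_apply, ← hb, mul_inv_cancel_right]

end general

section jfour

variable {T : Type*} [Group T] [Finite T] [IsSimpleGroup T] {A : Subgroup T} {Γ : Subgroup (MulAut T)}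

theorem idx_A (hT : Nat.card T = 86775571046077562880) {t : T}
    (hc : Nat.card (centralizer ({t} : Set T)) = 21799895040) : (centralizer ({t} : Set T)).index = 3980549947 := by
  have h := Subgroup.card_mul_index (centralizer ({t} : Set T))
  rw [hc, hT] at h
  omega

theorem idx_B (hT : Nat.card T = 86775571046077562880) {t : T}
    (hc : Nat.card (centralizer ({t} : Set T)) = 1816657920) : (centralizer ({t} : Set T)).index = 47766599364 := by
  have h := Subgroup.card_mul_index (centralizer ({t} : Set T))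
  rw [hc, hT] at h
  omega

/-- `f(2A) ≤ 83` -/
theorem fA_le (h : IF A Γ) (hna : ∃ a b : T, a * b ≠ b * a) (hT : Nat.card T = 86775571046077562880) {t : T}
    (ht : t ∈ A) (h2 : orderOf t = 2) (hc : Nat.card (centralizer ({t} : Set T)) = 21799895040) :
    fx A (MulAut.conj t) ≤ 83 := by
  obtain ⟨-, -, h5, -⟩ := IF.E2' h hna ht h2
  rw [idx_A hT hc] at h5
  by_contra hcon
  have h6 : 84 ^ 5 ≤ fx A (MulAut.conj t) ^ 5 := Nat.pow_le_pow_left (by omega) 5
  omega

/-- `f(2B) ≤ 136` -/
theorem fB_le (h : IF A Γ) (hna : ∃ a b : T, a * b ≠ b * a) (hT : Nat.card T = 86775571046077562880) {t : T}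
    (ht : t ∈ A) (h2 : orderOf t = 2) (hc : Nat.card (centralizer ({t} : Set T)) = 1816657920) :
    fx A (MulAut.conj t) ≤ 136 := by
  obtain ⟨-, -, h5, -⟩ := IF.E2' h hna ht h2
  rw [idx_B hT hc] at h5
  by_contra hcon
  have h6 : 137 ^ 5 ≤ fx A (MulAut.conj t) ^ 5 := Nat.pow_le_pow_left (by omega) 5
  omega

/-- the count of 2A's -/
theorem count_A (h : IF A Γ) (hna : ∃ a b : T, a * b ≠ b * a) (hT : Nat.card T = 86775571046077562880) {t : T}
    (ht : t ∈ A) (h2 : orderOf t = 2) (hc : Nat.card (centralizer ({t} : Set T)) = 21799895040)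
    {S : Set T} (hSA : ∀ s ∈ S, s ∈ A) (hS : ∀ s ∈ S, IsConj t s) : 21799895040 * S.ncard ≤ 83 * Nat.card A := by
  have h3 := fx_ge h hna ht h2 hSA hS
  have h4 := fA_le h hna hT ht h2 hc
  rw [idx_A hT hc] at h3
  have h5 := Subgroup.card_mul_index A
  rw [hT] at h5
  have h6 : 0 < A.index := by have := h.big; omega
  have h7 : A.index * (21799895040 * S.ncard) ≤ A.index * (83 * Nat.card A) := by
    calc A.index * (21799895040 * S.ncard) = 21799895040 * (A.index * S.ncard) := by ring
      _ ≤ 21799895040 * (fx A (MulAut.conj t) * 3980549947) := Nat.mul_le_mul_left _ h3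
      _ ≤ 21799895040 * (83 * 3980549947) := Nat.mul_le_mul_left _ (Nat.mul_le_mul_right _ h4)
      _ = 83 * (Nat.card A * A.index) := by rw [h5]
      _ = A.index * (83 * Nat.card A) := by ring
  exact le_of_mul_le_mul_left h7 h6

/-- **`A = C(z)`** -/
theorem case_z (h : IF A Γ) (hna : ∃ a b : T, a * b ≠ b * a) (hT : Nat.card T = 86775571046077562880) {z : T}
    (hz : orderOf z = 2) (hc : Nat.card (centralizer ({z} : Set T)) = 21799895040)
    (hA : A = centralizer ({z} : Set T)) {S : Set T} (hSA : ∀ s ∈ S, s * z = z * s) (hS : ∀ s ∈ S, IsConj z s)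
    (hn : 84 ≤ S.ncard) : False := by
  have h1 := count_A h hna hT (t := z) (by rw [hA, Subgroup.mem_centralizer_singleton_iff]) hz hc (S := S)
    (fun s hs => by rw [hA, Subgroup.mem_centralizer_singleton_iff]; exact hSA s hs) hS
  rw [hA, hc] at h1
  omega

/-- **`A = N(D)`, `D` pure 2A of order 8** -/
theorem case_D (h : IF A Γ) (hna : ∃ a b : T, a * b ≠ b * a) (hT : Nat.card T = 86775571046077562880)
    (hA : Nat.card A = 660602880) {D : Subgroup T} (hD : D ≤ A) (hD8 : Nat.card D = 8) {z : T} (hzD : z ∈ D)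
    (hz : orderOf z = 2) (hc : Nat.card (centralizer ({z} : Set T)) = 21799895040)
    (hpure : ∀ u ∈ D, u ≠ 1 → IsConj z u) : False := by
  have h1 := count_A h hna hT (hD hzD) hz hc (S := {u : T | u ∈ D ∧ u ≠ 1}) (fun s hs => hD hs.1)
    (fun s hs => hpure s hs.1 hs.2)
  have h2 : {u : T | u ∈ D ∧ u ≠ 1} = (D : Set T) \ {1} := rfl
  have h3 : (D : Set T).ncard = 8 := hD8
  rw [h2, Set.ncard_sdiff_singleton_of_mem D.one_mem, h3, hA] at h1
  omega

/-- **`A = N(X)`, `|A : C_A(a)| = 155`** -/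
theorem case_X (h : IF A Γ) (hna : ∃ a b : T, a * b ≠ b * a) (hT : Nat.card T = 86775571046077562880)
    (hA : Nat.card A = 10239344640) {a : T} (haA : a ∈ A) (ha : orderOf a = 2)
    (hc : Nat.card (centralizer ({a} : Set T)) = 21799895040 ∨ Nat.card (centralizer ({a} : Set T)) = 1816657920)
    (hn : (centralizer ({a} : Set T)).relIndex A = 155) : False := by
  have h1 := card_inf_mul' A (centralizer ({a} : Set T))
  have h2 := card_inf_mul A (centralizer ({a} : Set T))
  rw [hn, hA] at h1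
  have h3 : Nat.card (A ⊓ centralizer ({a} : Set T) : Subgroup T) = 66060288 := by omega
  rw [h3] at h2
  rcases hc with hc | hc
  · have h4 := le_fx h hna haA ha
    have h5 := fA_le h hna hT haA ha hc
    omega
  · omega

/-- **`A = N(V)`** -/
theorem case_V (h : IF A Γ) (hna : ∃ a b : T, a * b ≠ b * a) (hT : Nat.card T = 86775571046077562880)
    {V : Subgroup T} (hAV : A = normalizer (V : Set T)) (hA : Nat.card A = 501397585920)
    (hcomm : ∀ x ∈ V, ∀ y ∈ V, x * y = y * x) (hsq : ∀ x ∈ V, x * x = 1) (hV : Nat.card V = 2 ^ 11)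
    {z t : T} (hz : z ∈ V) (ht : t ∈ V) (hz1 : z ≠ 1) (ht1 : t ≠ 1) (hzt : ¬ IsConj z t)
    (hcz : Nat.card (centralizer ({z} : Set T)) = 21799895040)
    (hct : Nat.card (centralizer ({t} : Set T)) = 1816657920)
    (hoz : Set.ncard {v : T | ∃ n ∈ normalizer (V : Set T), n * z * n⁻¹ = v} = 1771)
    (hot : Set.ncard {v : T | ∃ n ∈ normalizer (V : Set T), n * t * n⁻¹ = v} = 276)
    (hCt : centralizer ({t} : Set T) ≤ normalizer (V : Set T)) : False := by
  have hord : ∀ x ∈ V, x ≠ 1 → orderOf x = 2 := fun x hx hx1 =>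
    orderOf_eq_prime (by rw [pow_two, hsq x hx]) hx1
  have hVA : V ≤ A := by rw [hAV]; exact Subgroup.le_normalizer
  set Oz : Set T := {v : T | ∃ n ∈ normalizer (V : Set T), n * z * n⁻¹ = v} with hOz
  set Ot : Set T := {v : T | ∃ n ∈ normalizer (V : Set T), n * t * n⁻¹ = v} with hOt
  have hOzV : Oz ⊆ (V : Set T) \ {1} := by
    rintro _ ⟨n, hn, rfl⟩
    refine ⟨(Subgroup.mem_normalizer_iff.1 hn z).1 hz, ?_⟩
    intro h1
    apply hz1
    have h2 : n * z * n⁻¹ = 1 := h1
    calc z = n⁻¹ * (n * z * n⁻¹) * n := by group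
      _ = 1 := by rw [h2]; group
  have hOtV : Ot ⊆ (V : Set T) \ {1} := by
    rintro _ ⟨n, hn, rfl⟩
    refine ⟨(Subgroup.mem_normalizer_iff.1 hn t).1 ht, ?_⟩
    intro h1
    apply ht1
    have h2 : n * t * n⁻¹ = 1 := h1
    calc t = n⁻¹ * (n * t * n⁻¹) * n := by group
      _ = 1 := by rw [h2]; group
  have hdis : Disjoint Oz Ot := by
    rw [Set.disjoint_left]
    rintro v ⟨n, -, rfl⟩ ⟨m, -, hm⟩
    apply hzt
    rw [isConj_iff]
    refine ⟨m⁻¹ * n, ?_⟩
    calc m⁻¹ * n * z * (m⁻¹ * n)⁻¹ = m⁻¹ * (n * z * n⁻¹) * m := by group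
      _ = m⁻¹ * (m * t * m⁻¹) * m := by rw [hm]
      _ = t := by group
  have hVn : ((V : Set T) \ {1}).ncard = 2047 := by
    have h3 : (V : Set T).ncard = 2 ^ 11 := hV
    rw [Set.ncard_sdiff_singleton_of_mem V.one_mem, h3]
    norm_num
  have hun : Oz ∪ Ot = (V : Set T) \ {1} := by
    apply Set.eq_of_subset_of_ncard_le (Set.union_subset hOzV hOtV)
    rw [Set.ncard_union_eq hdis, hoz, hot, hVn]
  -- a pair `z', t z'`
  obtain ⟨w, hw, hw'⟩ : ∃ w ∈ Oz, t * w ∈ Oz := by
    by_contra hcon
    push Not at hcon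
    have h1 : (fun w => t * w) '' Oz ⊆ Ot := by
      rintro _ ⟨w, hw, rfl⟩
      have h2 : t * w ∈ (V : Set T) \ {1} := by
        refine ⟨V.mul_mem ht (hOzV hw).1, ?_⟩
        intro h3
        have h4 : w = t := by
          have h5 : t * w = 1 := h3
          calc w = t⁻¹ * (t * w) := by group
            _ = t⁻¹ := by rw [h5, mul_one]
            _ = t := inv_eq_of_mul_eq_one_right (hsq t ht)
        have h6 : t ∈ Ot := ⟨1, one_mem _, by group⟩
        rw [h4] at hw
        exact Set.disjoint_left.1 hdis hw h6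
      rw [← hun] at h2
      rcases h2 with h2 | h2
      · exact absurd h2 (hcon w hw)
      · exact h2
    have h2 := Set.ncard_le_ncard h1 (Set.toFinite _)
    rw [Set.ncard_image_of_injective _ (mul_right_injective t), hoz, hot] at h2
    omega
  -- the centralizers
  have hconj : ∀ v ∈ Oz, Nat.card (centralizer ({v} : Set T)) = 21799895040 ∧
      Nat.card (A ⊓ centralizer ({v} : Set T) : Subgroup T) = 283115520 := by
    rintro v hv
    have hv' := hv
    obtain ⟨n, hn, rfl⟩ := hv
    have h1 : centralizer ({n * z * n⁻¹} : Set T) = (centralizer ({z} : Set T)).map (MulAut.conj n).toMonoidHom := by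
      ext x
      rw [Subgroup.mem_centralizer_singleton_iff]
      constructor
      · intro hx
        refine ⟨n⁻¹ * x * n, ?_, ?_⟩
        · show n⁻¹ * x * n ∈ centralizer ({z} : Set T)
          rw [Subgroup.mem_centralizer_singleton_iff]
          calc n⁻¹ * x * n * z = n⁻¹ * (x * (n * z * n⁻¹)) * n := by group
            _ = n⁻¹ * (n * z * n⁻¹ * x) * n := by rw [hx]
            _ = z * (n⁻¹ * x * n) := by group
        · show n * (n⁻¹ * x * n) * n⁻¹ = x
          group
      · rintro ⟨y, hy, rfl⟩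
        have hy' : y * z = z * y := Subgroup.mem_centralizer_singleton_iff.1 hy
        show n * y * n⁻¹ * (n * z * n⁻¹) = n * z * n⁻¹ * (n * y * n⁻¹)
        calc n * y * n⁻¹ * (n * z * n⁻¹) = n * (y * z) * n⁻¹ := by group
          _ = n * (z * y) * n⁻¹ := by rw [hy']
          _ = _ := by group
    have h0 : Nat.card (centralizer ({n * z * n⁻¹} : Set T)) = 21799895040 := by
      rw [h1, Subgroup.card_map_of_injective (MulAut.conj n).injective, hcz]
    refine ⟨h0, ?_⟩
    have h2 : Set.ncard {v : T | ∃ m ∈ normalizer (V : Set T), m * (n * z * n⁻¹) * m⁻¹ = v} = 1771 := by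
      rw [← hoz]
      congr 1
      ext v
      constructor
      · rintro ⟨m, hm, rfl⟩
        exact ⟨m * n, mul_mem hm hn, by group⟩
      · rintro ⟨m, hm, rfl⟩
        exact ⟨m * n⁻¹, mul_mem hm (inv_mem hn), by group⟩
    rw [ncard_conj, ← hAV] at h2
    have h3 := card_inf_mul' A (centralizer ({n * z * n⁻¹} : Set T))
    rw [h2, hA] at h3
    omega
  obtain ⟨c1, c2⟩ := hconj w hw
  obtain ⟨c3, -⟩ := hconj _ hw'
  have hwA : w ∈ A := hVA (hOzV hw).1
  have htwA : t * w ∈ A := hVA (hOzV hw').1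
  have hw2 := hord w (hOzV hw).1 (hOzV hw).2
  have htw2 := hord (t * w) (hOzV hw').1 (hOzV hw').2
  -- `C(tw) ∩ C(w)` has order at most `2^19 * 45`
  have hle : centralizer ({t * w} : Set T) ⊓ centralizer ({w} : Set T) ≤
      centralizer ({t} : Set T) := by
    rintro x ⟨hx1, hx2⟩
    have hx1' : x * (t * w) = t * w * x := Subgroup.mem_centralizer_singleton_iff.1 hx1
    have hx2' : x * w = w * x := Subgroup.mem_centralizer_singleton_iff.1 hx2
    rw [Subgroup.mem_centralizer_singleton_iff]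
    have h3 : x * t * w = t * x * w := by
      calc x * t * w = x * (t * w) := by group
        _ = t * w * x := hx1'
        _ = t * (w * x) := by group
        _ = t * (x * w) := by rw [hx2']
        _ = t * x * w := by group
    exact mul_right_cancel h3
  have hd1 : Nat.card (centralizer ({t * w} : Set T) ⊓ centralizer ({w} : Set T) : Subgroup T) ∣ 1816657920 := by
    rw [← hct]
    exact Subgroup.card_dvd_of_le hle
  have hd2 : Nat.card (centralizer ({t * w} : Set T) ⊓ centralizer ({w} : Set T) : Subgroup T) ∣ 283115520 := by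
    rw [← c2]
    apply Subgroup.card_dvd_of_le
    refine le_inf (hle.trans ?_) inf_le_right
    rw [hAV]
    exact hCt
  have hd3 : Nat.card (centralizer ({t * w} : Set T) ⊓ centralizer ({w} : Set T) : Subgroup T) ∣ 23592960 := by
    have := Nat.dvd_gcd hd1 hd2
    have e : Nat.gcd 1816657920 283115520 = 23592960 := by norm_num
    rwa [e] at this
  have hd4 := Nat.le_of_dvd (by norm_num) hd3
  have hc1 := card_inf_mul (centralizer ({t * w} : Set T)) (centralizer ({w} : Set T))
  rw [c1] at hc1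
  have hc2 : 924 ≤ (centralizer ({t * w} : Set T)).relIndex (centralizer ({w} : Set T)) := by
    by_contra hcon
    have h3 : (centralizer ({t * w} : Set T)).relIndex (centralizer ({w} : Set T)) ≤ 923 := by omega
    have h4 := Nat.mul_le_mul hd4 h3
    rw [hc1] at h4
    omega
  -- the bound of E4
  have hne : t * w ≠ w := by
    intro h3
    exact ht1 (mul_eq_right.1 h3)
  have hcw : t * w * w = w * (t * w) := by
    rw [mul_assoc, hsq w (hOzV hw).1, mul_one, ← mul_assoc, hcomm w (hOzV hw).1 t ht, mul_assoc,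
      hsq w (hOzV hw).1, mul_one]
  obtain ⟨-, -, h5, -⟩ := IF.E4 h hna htwA hwA htw2 hw2 hne hcw
  rw [idx_A hT c3] at h5
  have h6 := le_fx h hna hwA hw2
  have h7 := card_inf_mul A (centralizer ({w} : Set T))
  rw [c1, c2] at h7
  have h8 : A.relIndex (centralizer ({w} : Set T)) = 77 := by omega
  rw [h8] at h6
  have h9 : 77 ^ 4 * 924 ≤ fx A (MulAut.conj w) ^ 4 *
      (centralizer ({t * w} : Set T)).relIndex (centralizer ({w} : Set T)) :=
    Nat.mul_le_mul (Nat.pow_le_pow_left h6 4) hc2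
  omega

/-- **the orders** -/
theorem case_ord (h : IF A Γ) (hna : ∃ a b : T, a * b ≠ b * a) (hT : Nat.card T = 86775571046077562880)
    {a : T} (haA : a ∈ A) (ha : orderOf a = 2)
    (hc : Nat.card (centralizer ({a} : Set T)) = 21799895040 ∨ Nat.card (centralizer ({a} : Set T)) = 1816657920)
    (hA : Nat.card A ≤ 13000000 ∨ Nat.card A = 141831360) : False := by
  have hidx := Subgroup.card_mul_index A
  rw [hT] at hidx
  obtain ⟨-, -, -, h5, -⟩ := IF.E2' h hna haA ha
  rcases hA with hA | hA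
  · have h6 : 6674000000000 ≤ A.index := by
      by_contra hcon
      have h7 : Nat.card A * A.index ≤ 13000000 * 6674000000000 := Nat.mul_le_mul hA (by omega)
      omega
    have h7 : 6674000000000 ^ 5 ≤ A.index ^ 5 := Nat.pow_le_pow_left h6 5
    rcases hc with hc | hc
    · rw [idx_A hT hc] at h5
      norm_num at h5 h7
      omega
    · rw [idx_B hT hc] at h5
      norm_num at h5 h7
      omega
  · rw [hA] at hidx
    have h6 : A.index = 611822174208 := by omega
    rcases hc with hc | hc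
    · rw [idx_A hT hc, h6] at h5
      norm_num at h5
    · have h7 := le_fx h hna haA ha
      have h8 := fB_le h hna hT haA ha hc
      have h9 := card_inf_mul A (centralizer ({a} : Set T))
      rw [hc] at h9
      have h10 : Nat.card (A ⊓ centralizer ({a} : Set T) : Subgroup T) ∣ 141831360 := by
        rw [← hA]; exact Subgroup.card_dvd_of_le inf_le_left
      have h11 : Nat.card (A ⊓ centralizer ({a} : Set T) : Subgroup T) ∣ 1816657920 := by
        rw [← hc]; exact Subgroup.card_dvd_of_le inf_le_right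
      have h12 := Nat.dvd_gcd h10 h11
      have e : Nat.gcd 141831360 1816657920 = 31680 := by norm_num
      rw [e] at h12
      have h13 := Nat.le_of_dvd (by norm_num) h12
      have h14 := Nat.mul_le_mul h13 (h7.trans h8)
      rw [h9] at h14
      omega

end jfour

end Cfsg.Agent.H820.IFJ
end

-- part: H546/IF/OddBase
section
set_option linter.all false
open scoped Cfsg.Agent.FastGrp

/-!
# S5719, `|A|` odd: the criterion with the centralisers of the outer involutions (helper546)

`A` of odd order, `σ ∈ Γ` of order two: `σ` is outer, `|C_T(σ)|₂ ≤ f(σ)` and `|C_T(σ)| ≤ f(σ) |A|`; with `f(σ) ^ 6 |A| < |T|`.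

* `exists_outer` : the outer involution and the inequalities;
* `killO_of` : it is enough that `2 ^ k ∣ |C_T(σ)|`, `c ≤ |C_T(σ)|` for the outer involutions `σ`, and `|T| ≤ c 2 ^ (5 k)`;
* `killO_cube` : the same with `CubeBound T` and `|T| ^ 2 ≤ 2 ^ (15 k)`;
* `killO_three` : the same with `|T| ≤ 3 * 2 ^ (6 k)`;
* `killO_inner` : no outer automorphisms;
* `KillO.congr` : transport.
-/

set_option autoImplicit false
set_option linter.unusedSectionVars false

namespace Cfsg.Agent.H546.IFO

open MulAction Subgroup Cfsg.Agent.H209.Fxy Cfsg.Agent.H999.IFB Cfsg.Agent.H383.Cube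

universe u v

section

variable {T : Type u} [Group T]

theorem KillO.congr {T' : Type v} [Group T'] (e : T ≃* T') (h : KillO T) : KillO T' := by
  intro A Γ hA ho
  refine h _ _ (hA.map e.symm) ?_
  rwa [Nat.card_congr (A.equivMapOfInjective e.symm.toMonoidHom e.symm.injective).toEquiv.symm]

/-- the property of the outer involutions of `T` -/
def OutP (T : Type u) [Group T] (P : MulAut T → Prop) : Prop :=
  ∀ σ : MulAut T, orderOf σ = 2 → (∀ x, σ ≠ MulAut.conj x) → P σ

/-- `2 ^ k` divides `|C_T(σ)|` if `σ` centralises a subgroup `B` of order `2 ^ k` -/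
theorem dvd_fix [Finite T] {σ : MulAut T} {k : ℕ} {B : Subgroup T} (hB : ∀ b ∈ B, σ b = b) (hc : 2 ^ k ∣ Nat.card B) :
    2 ^ k ∣ Nat.card (fix σ) :=
  hc.trans (Subgroup.card_dvd_of_le (fun b hb => hB b hb))

end

variable {T : Type u} [Group T] [Finite T] {A : Subgroup T} {Γ : Subgroup (MulAut T)}

/-- **The outer involution.** -/
theorem exists_outer [IsSimpleGroup T] (hna : ∃ a b : T, a * b ≠ b * a) (h : IF A Γ) (hodd : Odd (Nat.card A)) :
    ∃ σ ∈ Γ, orderOf σ = 2 ∧ (∀ x, σ ≠ MulAut.conj x) ∧ 3 ≤ Nat.card A ∧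
      (∀ k : ℕ, 2 ^ k ∣ Nat.card (fix σ) → 2 ^ k ≤ fx A σ) ∧
      (∃ d : ℕ, d ∣ Nat.card A ∧ d ∣ Nat.card (fix σ) ∧ Nat.card (fix σ) ≤ fx A σ * d) ∧
      fx A σ ^ 6 * Nat.card A < Nat.card T := by
  obtain ⟨σ, hσ, h2, -⟩ := h.ex
  have hout : ∀ x, σ ≠ MulAut.conj x := by
    rintro x rfl
    have hx : x ∈ A := (h.conj x).1 hσ
    rw [orderOf_conj hna] at h2
    have h3 : 2 ∣ Nat.card A := by
      rw [← h2, ← Subgroup.orderOf_mk x hx]
      exact orderOf_dvd_natCard _
    exact (Nat.not_even_iff_odd.2 hodd) (even_iff_two_dvd.2 h3)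
  have ha : 0 < Nat.card A := Nat.card_pos
  have ha3 : 3 ≤ Nat.card A := by
    by_contra hlt
    have h1 : Nat.card A = 1 := by
      obtain ⟨m, hm⟩ := hodd
      omega
    exact h.ne_bot (Subgroup.card_eq_one.1 h1)
  have hE := (IF.E1 h hσ h2 (B := fix σ) (fun b hb => hb)).1
  have hmul : A.relIndex (fix σ) * Nat.card (A ⊓ fix σ : Subgroup T) = Nat.card (fix σ) := by
    rw [mul_comm, Subgroup.relIndex, ← (A.subgroupOf (fix σ)).card_mul_index]
    congr 1
    rw [← Subgroup.inf_subgroupOf_right A (fix σ)]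
    exact (Nat.card_congr (Subgroup.subgroupOfEquivOfLe inf_le_right).toEquiv).symm
  have hdA : Nat.card (A ⊓ fix σ : Subgroup T) ∣ Nat.card A := Subgroup.card_dvd_of_le inf_le_left
  have hdC : Nat.card (A ⊓ fix σ : Subgroup T) ∣ Nat.card (fix σ) := Subgroup.card_dvd_of_le inf_le_right
  refine ⟨σ, hσ, h2, hout, ha3, ?_, ⟨_, hdA, hdC, ?_⟩, ?_⟩
  · intro k hk
    refine le_trans ?_ hE
    have hcop : Nat.Coprime (2 ^ k) (Nat.card (A ⊓ fix σ : Subgroup T)) :=
      Nat.Coprime.pow_left _ (Nat.coprime_two_left.2 (hodd.of_dvd_nat hdA))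
    rw [← hmul] at hk
    refine Nat.le_of_dvd ?_ (hcop.dvd_of_dvd_mul_right hk)
    rcases Nat.eq_zero_or_pos (A.relIndex (fix σ)) with h0 | h0
    · rw [h0, zero_mul] at hmul
      have : 0 < Nat.card (fix σ) := Nat.card_pos
      omega
    · exact h0
  · rw [← hmul]
    exact Nat.mul_le_mul_right _ hE
  · have h3 := h.small σ hσ h2
    have h4 := A.card_mul_index
    calc fx A σ ^ 6 * Nat.card A < A.index * Nat.card A := Nat.mul_lt_mul_of_pos_right h3 ha
      _ = Nat.card T := by rw [mul_comm, h4]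

/-- the numerical part -/
theorem killO_num [IsSimpleGroup T] (hna : ∃ a b : T, a * b ≠ b * a)
    (h : OutP T fun σ => ∃ k : ℕ, 2 ^ k ∣ Nat.card (fix σ) ∧
      Nat.card T ^ 6 ≤ Nat.card (fix σ) ^ 6 * (2 ^ (6 * k)) ^ 5) : KillO T := by
  intro A Γ hA hodd
  obtain ⟨σ, hσ, h2, hout, -, hk, ⟨d, hd, -, hc⟩, hlt⟩ := exists_outer hna hA hodd
  obtain ⟨k, h3, h4⟩ := h σ h2 hout
  have h5 := hk k h3
  set f := fx A σ
  set a := Nat.card A
  have ha : 0 < a := Nat.card_pos
  have hda : d ≤ a := Nat.le_of_dvd ha hd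
  have h6 : Nat.card (fix σ) ≤ f * a := hc.trans (Nat.mul_le_mul_left _ hda)
  have h7 : (2 ^ (6 * k)) ≤ f ^ 6 := by
    rw [mul_comm, pow_mul]
    exact Nat.pow_le_pow_left h5 6
  have h8 : Nat.card (fix σ) ^ 6 * (2 ^ (6 * k)) ^ 5 ≤ (f ^ 6 * a) ^ 6 := by
    calc Nat.card (fix σ) ^ 6 * (2 ^ (6 * k)) ^ 5 ≤ (f * a) ^ 6 * (f ^ 6) ^ 5 :=
          Nat.mul_le_mul (Nat.pow_le_pow_left h6 6) (Nat.pow_le_pow_left h7 5)
      _ = (f ^ 6 * a) ^ 6 := by ring
  have h9 : (f ^ 6 * a) ^ 6 < Nat.card T ^ 6 := Nat.pow_lt_pow_left hlt (by norm_num)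
  omega

/-- **The criterion** with the cube bound: `|T| ^ 2 ≤ 2 ^ (15 k)`. -/
theorem killO_cube [IsSimpleGroup T] (hna : ∃ a b : T, a * b ≠ b * a) (hcube : CubeBound T) {k : ℕ}
    (h : OutP T fun σ => 2 ^ k ∣ Nat.card (fix σ)) (hn : Nat.card T ^ 2 ≤ 2 ^ (15 * k)) : KillO T := by
  refine killO_num hna fun σ h2 hout => ⟨k, h σ h2 hout, ?_⟩
  have h1 : Nat.card T < Nat.card (fix σ) ^ 3 := hcube σ h2
  calc Nat.card T ^ 6 = Nat.card T ^ 2 * (Nat.card T ^ 2) ^ 2 := by ring
    _ ≤ (Nat.card (fix σ) ^ 3) ^ 2 * (2 ^ (15 * k)) ^ 2 :=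
        Nat.mul_le_mul (Nat.pow_le_pow_left h1.le 2) (Nat.pow_le_pow_left hn 2)
    _ = Nat.card (fix σ) ^ 6 * (2 ^ (6 * k)) ^ 5 := by
      rw [← pow_mul, ← pow_mul, ← pow_mul]
      congr 2
      ring

/-- **The criterion** `|T| ≤ 3 * 2 ^ (6 k)`. -/
theorem killO_three [IsSimpleGroup T] (hna : ∃ a b : T, a * b ≠ b * a) {k : ℕ}
    (h : OutP T fun σ => 2 ^ k ∣ Nat.card (fix σ)) (hn : Nat.card T ≤ 3 * 2 ^ (6 * k)) : KillO T := by
  intro A Γ hA hodd
  obtain ⟨σ, hσ, h2, hout, h3, hk, -, hlt⟩ := exists_outer hna hA hodd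
  have h5 := hk k (h σ h2 hout)
  have h7 : (2 ^ (6 * k)) ≤ fx A σ ^ 6 := by
    rw [mul_comm, pow_mul]
    exact Nat.pow_le_pow_left h5 6
  have h8 := Nat.mul_le_mul h3 h7
  rw [mul_comm (Nat.card A)] at h8
  omega

end Cfsg.Agent.H546.IFO
end

-- part: H804/IF/P4Inv
section
prune_inst 0x4f17075444d2210000000051462001c63fa00010200088c0004610f0606c8cc6a09022820a8b00519d8a200042035006813100110424800000e200000011d058100000400b1480088a20000000000400000000000000000000000000000000000200000000
set_option linter.all false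
open scoped Cfsg.Agent.FastGrp

-- part: H804/IF/P4
section
/-!
# S5719, the cell `PSp_4(q)`, `q` odd: setting (helper804, helper172)

`Ctx π` : `π : Sp B →* T` is onto with kernel `{1, -1}`, `B` alternating nondegenerate on a space of order `q ^ 4`,
`q` odd.
-/

set_option autoImplicit false
set_option linter.unusedSectionVars false

namespace Cfsg.Agent.H804.P4

open Subgroup Cfsg.Agent.H74.Psp Cfsg.Agent.H209.Fxy

/-- The setting. -/
structure Ctx {F V T : Type*} [Field F] [AddCommGroup V] [Module F V] [Group T] {B : V →ₗ[F] V →ₗ[F] F}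
    (π : Sp B →* T) : Prop where
  hB : Symp B
  hV : Nat.card V = Nat.card F ^ 4
  h2 : (2 : F) ≠ 0
  surj : Function.Surjective π
  neg : π (negOne B) = 1
  ker : ∀ g : Sp B, π g = 1 → g = 1 ∨ g = negOne B
  card : Nat.card (Sp B) = Nat.card F ^ 4 * ((Nat.card F ^ 2 - 1) * (Nat.card F ^ 4 - 1))

/-- The case `A` contains an involution of type `t₁`. -/
def CaseA : Prop := ∀ {F V T : Type} [Field F] [Finite F] [AddCommGroup V] [Module F V] [Finite V] [Group T] [Finite T]
  [IsSimpleGroup T] {B : V →ₗ[F] V →ₗ[F] F} {π : Sp B →* T} (_ : Ctx π) {A : Subgroup T} {Γ : Subgroup (MulAut T)}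
  (_ : IF A Γ) (v v' : V) (_ : B v v' = 1) (_ : π (inv2 B v v') ∈ A), False

/-- Rank at least two. -/
def CaseB2 : Prop := ∀ {F V T : Type} [Field F] [Finite F] [AddCommGroup V] [Module F V] [Finite V] [Group T] [Finite T]
  [IsSimpleGroup T] {B : V →ₗ[F] V →ₗ[F] F} {π : Sp B →* T} (_ : Ctx π) {A : Subgroup T} {Γ : Subgroup (MulAut T)}
  (_ : IF A Γ) (_ : ∀ v v' : V, B v v' = 1 → π (inv2 B v v') ∉ A) (s t : T) (_ : s ∈ A) (_ : t ∈ A)
  (_ : orderOf s = 2) (_ : orderOf t = 2) (_ : s * t = t * s) (_ : s ≠ t), False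

end Cfsg.Agent.H804.P4
end

-- part: H804/IF/P4Inv
section
/-!
# S5719, `PSp_4(q)`, `q` odd: the involutions (helper804)

* `Ctx.inv_type` : an involution of `T` is the image of an `inv2 B v v'` or of a `j` with `j * j = -1`;
* `anti` : `i² = j² = (i j)² = -1` imply `i j = - j i`;
* `exists_pair` : `j² = -1`: there is a hyperbolic pair `v, v'` such that `j v, j v'` is orthogonal to it.
-/

set_option autoImplicit false
set_option linter.unusedSectionVars false

namespace Cfsg.Agent.H804.P4

open Subgroup Module Cfsg.Agent.H74.Psp Cfsg.Agent.H209.Fxy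

section

variable {F V : Type*} [Field F] [AddCommGroup V] [Module F V] {B : V →ₗ[F] V →ₗ[F] F}

theorem smul_neg' (g : Sp B) (x : V) : g • (-x) = -(g • x) := map_neg (g : V ≃ₗ[F] V) x

theorem smul_sub' (g : Sp B) (x y : V) : g • (x - y) = g • x - g • y := map_sub (g : V ≃ₗ[F] V) x y

theorem sq_iff {j : Sp B} : j * j = negOne B ↔ ∀ x : V, j • j • x = -x := by
  constructor
  · intro h x
    rw [← mul_smul, h, negOne_smul]
  · intro h
    apply Sp.ext'
    intro x
    rw [mul_smul, h, negOne_smul]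

theorem negOne_mul_self : negOne B * negOne B = 1 := by
  apply Sp.ext'
  intro x
  rw [mul_smul, negOne_smul, negOne_smul, neg_neg, one_smul]

theorem negOne_comm (g : Sp B) : negOne B * g = g * negOne B := by
  apply Sp.ext'
  intro x
  rw [mul_smul, mul_smul, negOne_smul, negOne_smul, smul_neg']

theorem anti {i j : Sp B} (hi : i * i = negOne B) (hj : j * j = negOne B) (hij : (i * j) * (i * j) = negOne B)
    (x : V) : i • j • x = -(j • i • x) := by
  rw [sq_iff] at hi hj hij
  have h1 := hij (j • x)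
  simp only [mul_smul, hj, smul_neg'] at h1
  -- i j i (-x) = - j x
  have h2 : i • j • i • x = j • x := by
    have := congrArg Neg.neg h1
    simpa only [_root_.neg_neg] using this
  rw [← h2, hi]

/-- `B x (j y)` is symmetric -/
theorem sym (hB : Symp B) {j : Sp B} (hj : j * j = negOne B) (x y : V) : B x (j • y) = B y (j • x) := by
  rw [← B_smul_smul j x (j • y), sq_iff.1 hj, map_neg, skew hB (j • x) y, neg_neg]

theorem exists_noniso (hB : Symp B) (h2 : (2 : F) ≠ 0) {j : Sp B} (hj : j * j = negOne B) (W : Set V)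
    (hadd : ∀ x ∈ W, ∀ y ∈ W, x + y ∈ W) {x y : V} (hx : x ∈ W) (hy : y ∈ W) (hxy : B x (j • y) ≠ 0) :
    ∃ z ∈ W, B z (j • z) ≠ 0 := by
  by_contra! hcon
  have h1 := hcon _ (hadd _ hx _ hy)
  rw [smul_add', map_add, map_add, LinearMap.add_apply, LinearMap.add_apply, hcon x hx, hcon y hy, zero_add,
    add_zero, sym hB hj y x, ← two_mul] at h1
  exact (mul_ne_zero h2 hxy) h1

end

section

variable {F V : Type*} [Field F] [Finite F] [AddCommGroup V] [Module F V] [Finite V] {B : V →ₗ[F] V →ₗ[F] F}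

/-- sums of two squares in a finite field of odd order -/
theorem exists_two_sq (h2 : (2 : F) ≠ 0) (c : F) : ∃ a b : F, a ^ 2 + b ^ 2 = c := by
  classical
  have := Fintype.ofFinite F
  have hodd : Fintype.card F % 2 = 1 := by
    rcases Nat.mod_two_eq_zero_or_one (Fintype.card F) with h | h
    · exfalso
      apply h2
      have h3 : ringChar F = 2 := by
        rwa [FiniteField.even_card_iff_char_two.symm] at h
      have := ringChar.Nat.cast_ringChar (R := F)
      rw [h3] at this
      exact_mod_cast this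
    · exact h
  obtain ⟨a, b, hab⟩ := FiniteField.exists_root_sum_quadratic (R := F) (f := Polynomial.X ^ 2)
    (g := Polynomial.X ^ 2 - Polynomial.C c) (by rw [Polynomial.degree_X_pow]; rfl)
    (by rw [Polynomial.degree_X_pow_sub_C (by norm_num)]; rfl) hodd
  refine ⟨a, b, ?_⟩
  simp only [Polynomial.eval_pow, Polynomial.eval_X, Polynomial.eval_sub, Polynomial.eval_C] at hab
  linear_combination hab

variable (hB : Symp B) (h2 : (2 : F) ≠ 0)
include hB h2

/-- an adapted hyperbolic pair -/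
theorem exists_pair (hV : Nat.card V = Nat.card F ^ 4) {j : Sp B} (hj : j * j = negOne B) :
    ∃ v v' : V, B v v' = 1 ∧ B v (j • v) = 0 ∧ B v (j • v') = 0 ∧ B v' (j • v') = 0 := by
  have hjj := sq_iff.1 hj
  -- a vector `x` with `B x (j x) ≠ 0`
  have hnt : Nontrivial V := by
    rw [← Finite.one_lt_card_iff_nontrivial, hV]
    exact Nat.one_lt_pow (by norm_num) Finite.one_lt_card
  obtain ⟨x0, hx0⟩ := exists_ne (0 : V)
  obtain ⟨x, hx⟩ : ∃ x : V, B x (j • x) ≠ 0 := by
    obtain ⟨y, hy⟩ := sep0 hB hx0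
    obtain ⟨z, -, hz⟩ := exists_noniso hB h2 hj Set.univ (fun _ _ _ _ => trivial) (x := x0) (y := -(j • y)) trivial trivial
      (by rw [smul_neg', hjj, neg_neg, hy]; exact one_ne_zero)
    exact ⟨z, hz⟩
  set α := B x (j • x) with hα
  have hxx : B x (α⁻¹ • (j • x)) = 1 := by rw [map_smul, smul_eq_mul, ← hα, inv_mul_cancel₀ hx]
  -- a vector `y` orthogonal to `x`, `j x`
  obtain ⟨y0, hy0⟩ : ∃ y0 : V, ∀ a b : F, y0 ≠ a • x + b • (j • x) := by
    by_contra! hcon
    have hs : Function.Surjective (fun p : F × F => p.1 • x + p.2 • (j • x)) := by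
      intro z
      obtain ⟨a, b, hab⟩ := hcon z
      exact ⟨(a, b), hab.symm⟩
    have h3 := Nat.card_le_card_of_surjective _ hs
    rw [hV, Nat.card_prod, ← pow_two] at h3
    have h4 : Nat.card F ^ 2 < Nat.card F ^ 4 := Nat.pow_lt_pow_right Finite.one_lt_card (by norm_num)
    omega
  obtain ⟨y1, a1, b1, hy1, hy2, hy3⟩ := decompV hB hxx y0
  have hy1' : y1 ≠ 0 := by
    rintro rfl
    apply hy0 a1 (b1 * α⁻¹)
    rw [hy1, zero_add, smul_smul]
  have hperp : ∀ z : V, B x z = 0 → B (j • x) z = 0 → B x (j • z) = 0 ∧ B (j • x) (j • z) = 0 := by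
    intro z h3 h4
    refine ⟨?_, by rw [B_smul_smul, h3]⟩
    rw [sym hB hj, skew hB, h4, neg_zero]
  have hy3' : B (j • x) y1 = 0 := by
    have h3 : α⁻¹ * B (j • x) y1 = 0 := by
      rw [← smul_eq_mul, ← LinearMap.smul_apply, ← map_smul]
      exact hy3
    rcases mul_eq_zero.1 h3 with h4 | h4
    · exact absurd h4 (inv_ne_zero hx)
    · exact h4
  obtain ⟨w0, hw0⟩ := sep0 hB hy1'
  obtain ⟨w1, a2, b2, hw1, hw2, hw3⟩ := decompV hB hxx w0
  have hw3' : B (j • x) w1 = 0 := by
    have h3 : α⁻¹ * B (j • x) w1 = 0 := by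
      rw [← smul_eq_mul, ← LinearMap.smul_apply, ← map_smul]
      exact hw3
    rcases mul_eq_zero.1 h3 with h4 | h4
    · exact absurd h4 (inv_ne_zero hx)
    · exact h4
  have hyw : B y1 w1 = 1 := by
    rw [hw1] at hw0
    rw [map_add, map_add, map_smul, map_smul, orth_symm hB hy2, orth_symm hB hy3, smul_zero, smul_zero, add_zero,
      add_zero] at hw0
    exact hw0
  obtain ⟨y, ⟨hyx, hyjx⟩, hy⟩ := exists_noniso hB h2 hj {z : V | B x z = 0 ∧ B (j • x) z = 0}
    (fun a ha b hb => ⟨by rw [map_add, ha.1, hb.1, add_zero], by rw [map_add, ha.2, hb.2, add_zero]⟩)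
    (x := y1) (y := -(j • w1)) ⟨hy2, hy3'⟩
    ⟨by rw [map_neg, (hperp w1 hw2 hw3').1, neg_zero], by rw [map_neg, (hperp w1 hw2 hw3').2, neg_zero]⟩
    (by rw [smul_neg', hjj, neg_neg, hyw]; exact one_ne_zero)
  obtain ⟨a, b, hab⟩ := exists_two_sq h2 (-(B y (j • y)) * α⁻¹)
  obtain ⟨hyjy, hyjy'⟩ := hperp y hyx hyjx
  set v : V := a • x + b • (j • x) + y with hv
  have hjv : j • v = a • (j • x) - b • x + j • y := by
    rw [hv, smul_add', smul_add', smul_fsmul, smul_fsmul, hjj, smul_neg]
    abel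
  have e1 : B (j • x) x = -α := by rw [skew hB]
  have hvv : B v (j • v) = 0 := by
    rw [hjv, hv]
    simp only [map_add, map_sub, map_smul, LinearMap.add_apply, LinearMap.smul_apply, smul_eq_mul, hB.alt,
      hyjy, hyjy', orth_symm hB hyx, orth_symm hB hyjx, e1, ← hα]
    have h3 : (a ^ 2 + b ^ 2) * α = -(B y (j • y)) := by
      rw [hab, mul_assoc, inv_mul_cancel₀ hx, mul_one]
    linear_combination h3
  have hind : ∀ c : F, j • v ≠ c • v := by
    intro c hc
    have h3 : B y (j • v) = B y (j • y) := by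
      rw [hjv]
      simp only [map_add, map_sub, map_smul, smul_eq_mul, orth_symm hB hyx, orth_symm hB hyjx]
      ring
    have h4 : B y (c • v) = 0 := by
      rw [hv]
      simp only [map_add, map_smul, smul_eq_mul, orth_symm hB hyx, orth_symm hB hyjx, hB.alt]
      ring
    rw [hc, h4] at h3
    exact hy h3.symm
  have hv0 : v ≠ 0 := by
    intro h0
    apply hind 0
    rw [h0, smul_zero, smul_zero]
  have hind' : ∀ c : F, v ≠ c • (j • v) := by
    intro c hc
    apply hind (-c)
    have h3 := congrArg (fun z => j • z) hc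
    simp only [smul_fsmul, hjj, smul_neg] at h3
    rw [h3, neg_smul]
  clear_value v
  obtain ⟨v1, h3, h4⟩ := sep1 hB hind'
  -- `B (j v) v1 = 0`, `B v v1 = 1`
  set c : F := -(B v1 (j • v1)) * (2 : F)⁻¹ with hc
  have e2 : B v (j • v1) = 0 := by rw [sym hB hj, skew hB, h3, neg_zero]
  have e3 : B (j • v) (j • v1) = 1 := by rw [B_smul_smul, h4]
  have e4 : B v1 v = -1 := by rw [skew hB, h4]
  have e5 : B (j • v) v = 0 := orth_symm hB hvv
  refine ⟨v, v1 + c • (j • v), ?_, hvv, ?_, ?_⟩
  · rw [map_add, map_smul, hvv, h4, smul_zero, add_zero]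
  · rw [smul_add', smul_fsmul, hjj]
    simp only [map_add, LinearMap.map_smul, map_neg, smul_neg, hB.alt, e2, smul_zero, neg_zero, add_zero]
  · rw [smul_add', smul_fsmul, hjj]
    simp only [map_add, map_smul, map_neg, LinearMap.add_apply, LinearMap.smul_apply, smul_eq_mul, e3, e4, e5]
    rw [hc]
    field_simp
    ring

end

section

variable {F V T : Type*} [Field F] [Finite F] [AddCommGroup V] [Module F V] [Finite V] [Group T]
  {B : V →ₗ[F] V →ₗ[F] F} {π : Sp B →* T}

/-- involutions of `Sp B` -/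
theorem exists_inv2 (hB : Symp B) (h2 : (2 : F) ≠ 0) (hV : Nat.card V = Nat.card F ^ 4) {g : Sp B} (hg : g * g = 1)
    (h1 : g ≠ 1) (hn : g ≠ negOne B) : ∃ v v' : V, B v v' = 1 ∧ inv2 B v v' = g := by
  have hgg : ∀ x : V, g • g • x = x := fun x => by rw [← mul_smul, hg, one_smul]
  obtain ⟨x, hx⟩ : ∃ x : V, g • x ≠ x := by
    by_contra! hcon
    exact h1 (Sp.ext' fun x => by rw [hcon, one_smul])
  obtain ⟨y, hy⟩ : ∃ y : V, g • y ≠ -y := by
    by_contra! hcon
    exact hn (Sp.ext' fun x => by rw [hcon, negOne_smul])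
  set u : V := x - g • x with hu
  have hu0 : u ≠ 0 := fun h => hx (sub_eq_zero.1 h).symm
  have hgu : g • u = -u := by rw [hu, smul_sub', hgg]; abel
  set v : V := y + g • y with hv
  have hv0 : v ≠ 0 := fun h => hy (eq_neg_of_add_eq_zero_right h)
  have hgv : g • v = v := by rw [hv, smul_add', hgg]; abel
  obtain ⟨v0, hv0'⟩ := sep0 hB hv0
  obtain ⟨u0, hu0'⟩ := sep0 hB hu0
  set v' : V := (2 : F)⁻¹ • (v0 + g • v0) with hv'
  set u' : V := (2 : F)⁻¹ • (u0 - g • u0) with hu'
  have hgv' : g • v' = v' := by rw [hv', smul_fsmul, smul_add', hgg, add_comm]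
  have hgu' : g • u' = -u' := by
    rw [hu', smul_fsmul, smul_sub', hgg, ← smul_neg, neg_sub]
  have hvv : B v v' = 1 := by
    have h3 : B v (g • v0) = 1 := by
      nth_rw 1 [← hgv]
      rw [B_smul_smul, hv0']
    rw [hv', map_smul, map_add, h3, hv0', smul_eq_mul]
    field_simp
    norm_num
  have huu : B u u' = 1 := by
    have h3 : B u (g • u0) = -1 := by
      have h4 : u = g • (-u) := by rw [smul_neg', hgu, neg_neg]
      rw [h4, B_smul_smul, map_neg, LinearMap.neg_apply, hu0']
    rw [hu', map_smul, map_sub, h3, hu0', smul_eq_mul]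
    field_simp
    norm_num
  have hort : ∀ a b : V, g • a = a → g • b = -b → B a b = 0 := by
    intro a b ha hb
    have h3 := B_smul_smul g a b
    rw [ha, hb, map_neg] at h3
    have h4 : (2 : F) * B a b = 0 := by linear_combination -h3
    exact (mul_eq_zero.1 h4).resolve_left h2
  have h3 := hort v u hgv hgu
  have h4 := hort v u' hgv hgu'
  have h5 := hort v' u hgv' hgu
  have h6 := hort v' u' hgv' hgu'
  clear_value v' u'
  clear_value u v
  refine ⟨v, v', hvv, ?_⟩
  apply Sp.ext'
  intro z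
  obtain ⟨a, b, c, d, rfl⟩ := four hB hV hvv huu h3 h4 h5 h6 z
  have e1 : inv2 B v v' • v' = v' := by
    rw [inv2_smul hB hvv, hB.alt, skew hB v' v, hvv]
    module
  simp only [smul_add', smul_fsmul, inv2_v hB hvv, e1, inv2_orth hB hvv h3 h5, inv2_orth hB hvv h4 h6, hgv, hgv', hgu,
    hgu']

/-- **The involutions of `T`.** -/
theorem Ctx.inv_type (C : Ctx π) {t : T} (ht : orderOf t = 2) :
    (∃ v v' : V, B v v' = 1 ∧ π (inv2 B v v') = t) ∨ ∃ j : Sp B, j * j = negOne B ∧ π j = t := by
  obtain ⟨g, rfl⟩ := C.surj t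
  have h1 : π (g * g) = 1 := by rw [map_mul, ← pow_two, ← ht, pow_orderOf_eq_one]
  have h2 : π g ≠ 1 := by
    intro h
    rw [h, orderOf_one] at ht
    omega
  rcases C.ker _ h1 with h3 | h3
  · left
    obtain ⟨v, v', h4, h5⟩ := exists_inv2 C.hB C.h2 C.hV h3 (fun h => h2 (by rw [h, map_one]))
      (fun h => h2 (by rw [h, C.neg]))
    exact ⟨v, v', h4, by rw [h5]⟩
  · right
    exact ⟨g, h3, rfl⟩

theorem Ctx.eq_iff (C : Ctx π) {g h : Sp B} : π g = π h ↔ g = h ∨ g = negOne B * h := by
  constructor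
  · intro he
    have h1 : π (g * h⁻¹) = 1 := by rw [map_mul, he, ← map_mul, mul_inv_cancel, map_one]
    rcases C.ker _ h1 with h2 | h2
    · exact Or.inl (mul_inv_eq_one.1 h2)
    · exact Or.inr (mul_inv_eq_iff_eq_mul.1 h2)
  · rintro (rfl | rfl)
    · rfl
    · rw [map_mul, C.neg, one_mul]

theorem Ctx.negOne_ne (C : Ctx π) : negOne B ≠ 1 := by
  intro h
  have hnt : Nontrivial V := by
    rw [← Finite.one_lt_card_iff_nontrivial, C.hV]
    exact Nat.one_lt_pow (by norm_num) Finite.one_lt_card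
  obtain ⟨x, hx⟩ := exists_ne (0 : V)
  have h1 := congrArg (fun g : Sp B => g • x) h
  simp only [negOne_smul, one_smul] at h1
  have h3 : (2 : F) • x = 0 := by
    rw [two_smul F x]
    exact add_eq_zero_iff_eq_neg.2 h1.symm
  exact (smul_ne_zero C.h2 hx) h3

/-- the image of `j`, `j² = -1`, is an involution -/
theorem Ctx.orderOf_j (C : Ctx π) {j : Sp B} (hj : j * j = negOne B) : orderOf (π j) = 2 := by
  apply orderOf_eq_prime
  · rw [pow_two, ← map_mul, hj, C.neg]
  · intro h
    rcases C.ker _ h with rfl | rfl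
    · rw [mul_one] at hj
      exact C.negOne_ne hj.symm
    · rw [negOne_mul_self] at hj
      exact C.negOne_ne hj.symm

/-- Commuting involutions `s ≠ t` of type `t₂` with product of type `t₂`: anticommuting lifts. -/
theorem Ctx.anti_lifts (C : Ctx π) {i j : Sp B} (hi : i * i = negOne B) (hj : j * j = negOne B)
    (hne : π i ≠ π j) (hc : π i * π j = π j * π i)
    (hno : ∀ v v' : V, B v v' = 1 → π (inv2 B v v') ≠ π i * π j) : ∀ x : V, i • j • x = -(j • i • x) := by
  apply anti hi hj
  have h1 : orderOf (π i * π j) = 2 := by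
    apply orderOf_eq_prime
    · rw [pow_two]
      calc π i * π j * (π i * π j) = π i * (π j * π i) * π j := by group
        _ = (π i * π i) * (π j * π j) := by rw [← hc]; group
        _ = 1 := by rw [← map_mul, ← map_mul, hi, hj, C.neg, mul_one]
    · intro h
      apply hne
      have h2 : π j * π j = 1 := by rw [← map_mul, hj, C.neg]
      calc π i = π i * (π j * π j) := by rw [h2, mul_one]
        _ = (π i * π j) * π j := by group
        _ = π j := by rw [h, one_mul]
  rcases C.inv_type h1 with ⟨v, v', h2, h3⟩ | ⟨k, hk, h3⟩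
  · exact absurd h3 (hno v v' h2)
  · rw [← map_mul] at h3
    rcases C.eq_iff.1 h3 with rfl | rfl
    · exact hk
    · calc i * j * (i * j) = (negOne B * (i * j)) * (negOne B * (i * j)) := by
            rw [negOne_comm (i * j), mul_assoc (i * j), ← mul_assoc (negOne B) (i * j), negOne_comm (i * j),
              mul_assoc (i * j), negOne_mul_self, mul_one]
        _ = _ := hk

end

end Cfsg.Agent.H804.P4
end
end

-- part: H786/IF/Use
section
prune_inst 0x4f17071446d00120000180516620000257c00050200408c0004210f060a49c268090328410e8005195822808000050008131000100240000004200000000505010000160011400d88a20008000000400000000000000000000000000000000000200000000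
set_option linter.all false
open scoped Cfsg.Agent.FastGrp

/-!
# S5719, orthogonal groups, `q` odd: USE (helper786)

`use_one`, `use_t`, `use_fund` : an involution in `A` gives a fundamental involution in `A`.
-/

set_option autoImplicit false
set_option linter.unusedSectionVars false
set_option linter.unusedVariables false
set_option linter.unusedSimpArgs false

namespace Cfsg.Agent.H786.IF

open QuadraticMap Cfsg.Agent.LieClassical Cfsg.Agent.LieClassical.OrthCore Cfsg.Agent.LieClassical.OrthTrans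
  Cfsg.Agent.AutOrth.SemiSim Cfsg.Agent.AutOrth.Gen Cfsg.Agent.H989.Gs.Gen Cfsg.Agent.H989.Fx
open Cfsg.Agent.H209.Fxy (IF)

variable {F V : Type*} [Field F] [AddCommGroup V] [Module F V] {Q : QuadraticForm F V}

/-- the space of `-1` -/
def Vm (t : ↥(E Q)) : Submodule F V where
  carrier := {v | ap t v = -v}
  add_mem' {a b} ha hb := by
    change ap t (a + b) = -(a + b)
    rw [ap_add, show ap t a = -a from ha, show ap t b = -b from hb, neg_add]
  zero_mem' := by
    change ap t 0 = -0
    rw [neg_zero]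
    exact map_zero _
  smul_mem' c a ha := by
    change ap t (c • a) = -(c • a)
    rw [ap_smul, show ap t a = -a from ha, smul_neg]

/-- the space of `1` -/
def Vp (t : ↥(E Q)) : Submodule F V where
  carrier := {v | ap t v = v}
  add_mem' {a b} ha hb := by
    change ap t (a + b) = a + b
    rw [ap_add, show ap t a = a from ha, show ap t b = b from hb]
  zero_mem' := map_zero _
  smul_mem' c a ha := by
    change ap t (c • a) = c • a
    rw [ap_smul, show ap t a = a from ha]

theorem mem_Vm {t : ↥(E Q)} {v : V} : v ∈ Vm t ↔ ap t v = -v := Iff.rfl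

theorem mem_Vp {t : ↥(E Q)} {v : V} : v ∈ Vp t ↔ ap t v = v := Iff.rfl

theorem polar_mp (h2 : (2 : F) ≠ 0) {t : ↥(E Q)} {x y : V} (hx : x ∈ Vm t) (hy : y ∈ Vp t) : polar Q x y = 0 := by
  have h1 := polar_ap t x y
  rw [mem_Vm.1 hx, mem_Vp.1 hy, polar_neg_left] at h1
  have h3 : (2 : F) * polar Q x y = 0 := by linear_combination -h1
  exact (mul_eq_zero.1 h3).resolve_left h2

theorem decomp (h2 : (2 : F) ≠ 0) {t : ↥(E Q)} (ht : t * t = 1) (v : V) :
    ∃ a ∈ Vm t, ∃ b ∈ Vp t, v = a + b := by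
  have htt : ap t (ap t v) = v := by rw [← ap_mul, ht, ap_one]
  refine ⟨(2 : F)⁻¹ • (v - ap t v), ?_, (2 : F)⁻¹ • (v + ap t v), ?_, ?_⟩
  · rw [mem_Vm, ap_smul, ap_sub, htt, ← smul_neg, neg_sub]
  · rw [mem_Vp, ap_smul, ap_add, htt, add_comm]
  · rw [← smul_add]
    have : v - ap t v + (v + ap t v) = (2 : F) • v := by rw [two_smul]; abel
    rw [this, smul_smul, inv_mul_cancel₀ h2, one_smul]

theorem nd_Vm (h2 : (2 : F) ≠ 0) (hQ : Nondeg Q) {t : ↥(E Q)} (ht : t * t = 1) : Nd Q (Vm t) := by
  intro x hx H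
  apply hQ
  intro v
  obtain ⟨a, ha, b, hb, rfl⟩ := decomp h2 ht v
  rw [polar_add_right, H a ha, polar_mp h2 hx hb, add_zero]

theorem nd_Vp (h2 : (2 : F) ≠ 0) (hQ : Nondeg Q) {t : ↥(E Q)} (ht : t * t = 1) : Nd Q (Vp t) := by
  intro x hx H
  apply hQ
  intro v
  obtain ⟨a, ha, b, hb, rfl⟩ := decomp h2 ht v
  rw [polar_add_right, H b hb, polar_comm, polar_mp h2 ha hx, add_zero]

theorem finrank_VmVp [FiniteDimensional F V] (h2 : (2 : F) ≠ 0) {t : ↥(E Q)} (ht : t * t = 1) :
    Module.finrank F (Vm t) + Module.finrank F (Vp t) = Module.finrank F V := by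
  apply Submodule.finrank_add_eq_of_isCompl
  constructor
  · rw [Submodule.disjoint_def]
    intro x hx hx'
    have h1 := mem_Vm.1 hx
    rw [mem_Vp.1 hx'] at h1
    have h3 : (2 : F) • x = 0 := by rw [two_smul]; nth_rewrite 1 [h1]; exact neg_add_cancel x
    exact (smul_eq_zero.1 h3).resolve_left h2
  · rw [codisjoint_iff, eq_top_iff]
    intro v _
    obtain ⟨a, ha, b, hb, rfl⟩ := decomp h2 ht v
    exact Submodule.add_mem_sup ha hb

theorem S_neg_neg {u w : V} (hu : Q u = 0) (huw : polar Q u w = 0) : S Q (-u) (-w) = S Q u w := by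
  have h3 : polar Q u (-w) = 0 := by rw [polar_neg_right, huw, neg_zero]
  have := S_smul (Q := Q) (-1 : F) hu h3
  rwa [neg_one_smul, neg_one_smul, neg_neg] at this

/-- **the lower bound for `t² = 1`** -/
theorem lower_one [Finite F] [FiniteDimensional F V] (h2 : (2 : F) ≠ 0) (hQ : Nondeg Q) {t : ↥(E Q)} (ht : t * t = 1)
    (X : Subgroup ↥(E Q)) (hX : NF Q X) :
    Nat.card F ^ (psi (Module.finrank F (Vm t)) + psi (Module.finrank F (Vp t))) ≤
      X.relIndex (Subgroup.centralizer ({t} : Set ↥(E Q))) := by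
  have hfE : Finite ↥(E Q) := Cfsg.Agent.H786.IF.finite_E
  set C := Subgroup.centralizer ({t} : Set ↥(E Q)) with hC
  have hcomm : ∀ g ∈ C, g * t = t * g := by
    intro g hg
    rw [hC, Subgroup.mem_centralizer_iff] at hg
    exact (hg t rfl).symm
  have hmem : ∀ g : ↥(E Q), t * g * t⁻¹ = g → g ∈ C := by
    intro g hg
    rw [hC, Subgroup.mem_centralizer_iff]
    rintro _ rfl
    exact mul_inv_eq_iff_eq_mul.1 hg
  rw [pow_add]
  refine phi h2 _ C (Vm t) (nd_Vm h2 hQ ht) rfl ?_ ?_ _ ?_ X hX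
  · intro g hg w hw
    rw [mem_Vm] at hw ⊢
    rw [← ap_mul, ← hcomm g hg, ap_mul, hw, ap_neg]
  · intro u hu w hw hu0 huw
    apply hmem
    rw [S_conj, mem_Vm.1 hu, mem_Vm.1 hw, S_neg_neg hu0 huw]
  · intro Y hY
    have h1 := phi h2 (Module.finrank F (Vp t)) (C ⊓ Fix Q (Vm t)) (Vp t) (nd_Vp h2 hQ ht) rfl ?_ ?_ 1 ?_ Y hY
    · rwa [mul_one] at h1
    · intro g hg w hw
      rw [mem_Vp] at hw ⊢
      rw [← ap_mul, ← hcomm g hg.1, ap_mul, hw]
    · intro u hu w hw hu0 huw
      refine ⟨?_, ?_⟩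
      · apply hmem
        rw [S_conj, mem_Vp.1 hu, mem_Vp.1 hw]
      · intro v hv
        exact S_fix hu0 huw (by rw [polar_comm]; exact polar_mp h2 hv hu) (by rw [polar_comm]; exact polar_mp h2 hv hw)
    · intro Y' hY'
      exact Nat.one_le_iff_ne_zero.2 Subgroup.FiniteIndex.index_ne_zero

theorem even_of_t [FiniteDimensional F V] {t : V →ₗ[F] V} (hts : ∀ v, t (t v) = -v) (hQt : ∀ v, Q (t v) = Q v)
    (h2 : (2 : F) ≠ 0) (hQ : Nondeg Q) : ∃ M : ℕ, Module.finrank F V = 2 * M := by
  let B : LinearMap.BilinForm F V := (polarBilin Q).compl₂ t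
  have hB : ∀ x y, B x y = polar Q x (t y) := fun x y => rfl
  obtain ⟨m, hm⟩ := Cfsg.Agent.ClassicalGeometry.TwoFamilies.exists_finrank_eq_ker_add B (fun x => polar_self_t hts hQt h2 x)
  have hker : LinearMap.ker B = ⊥ := by
    rw [LinearMap.ker_eq_bot']
    intro x hx
    apply hQ
    intro y
    have h1 : B x (-t y) = 0 := by rw [hx]; rfl
    rw [hB, map_neg, hts, neg_neg] at h1
    exact h1
  rw [hker, finrank_bot, zero_add] at hm
  exact ⟨m, by rw [hm, two_mul]⟩

theorem sq_le_psit : ∀ M : ℕ, 2 ≤ M → M ^ 2 ≤ 5 * psit M := by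
  intro M
  induction M using Nat.strong_induction_on with
  | _ M ih =>
  intro hM
  match M, ih, hM with
  | 2, _, _ => decide
  | 3, _, _ => decide
  | (m + 4), ih, _ =>
    have h1 := ih (m + 2) (by omega) (by omega)
    have h3 : psit (m + 4) = m + 3 + psit (m + 2) := rfl
    rw [h3]
    linarith only [h1]

theorem psi_ge : ∀ n : ℕ, 5 ≤ n → (n - 3) ^ 2 + 7 ≤ 4 * psi n := by
  intro n
  induction n using Nat.strong_induction_on with
  | _ n ih =>
  intro hn
  match n, ih, hn with
  | 5, _, _ => decide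
  | 6, _, _ => decide
  | (m + 7), ih, _ =>
    have h1 := ih (m + 5) (by omega) (by omega)
    have h3 : psi (m + 7) = m + 3 + psi (m + 5) := rfl
    have e1 : m + 7 - 3 = m + 4 := by omega
    have e2 : m + 5 - 3 = m + 2 := by omega
    rw [h3, e1]
    rw [e2] at h1
    linarith only [h1]

/-- the numbers, `N ≥ 11` -/
theorem num_of (a b : ℕ) (ha : 1 ≤ a) (hb : 1 ≤ b) (hN : 11 ≤ a + b) : a * b + 1 ≤ 5 * (psi a + psi b) := by
  wlog hab : a ≤ b generalizing a b
  · have := this b a hb ha (by omega) (by omega)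
    rw [mul_comm a b, add_comm (psi a)]
    exact this
  have hb6 : 6 ≤ b := by omega
  obtain ⟨c, rfl⟩ : ∃ c, b = c + 6 := ⟨b - 6, by omega⟩
  have h1 := psi_ge (c + 6) (by omega)
  have e1 : c + 6 - 3 = c + 3 := by omega
  rw [e1] at h1
  by_cases h5 : 5 ≤ a
  · obtain ⟨d, rfl⟩ : ∃ d, a = d + 5 := ⟨a - 5, by omega⟩
    have h3 := psi_ge (d + 5) (by omega)
    have e2 : d + 5 - 3 = d + 2 := by omega
    rw [e2] at h3
    have h4 : 4 * ((d + 5) * (c + 6) + 1) ≤ 5 * ((d + 2) ^ 2 + 7 + ((c + 3) ^ 2 + 7)) := by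
      rcases le_total c d with h | h
      · obtain ⟨x, rfl⟩ := Nat.exists_eq_add_of_le h
        nlinarith only [hab]
      · obtain ⟨x, rfl⟩ := Nat.exists_eq_add_of_le h
        nlinarith only []
    linarith only [h1, h3, h4]
  · have ha0 : psi a = 0 := by
      interval_cases a <;> rfl
    rw [ha0, zero_add]
    by_cases hc1 : c = 1
    · subst hc1
      have : psi (1 + 6) = 6 := rfl
      rw [this]
      omega
    · have hc2 : 2 ≤ c := by
        by_contra hcon
        have : c = 0 := by omega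
        subst this
        omega
      have h4 : 4 * (a * (c + 6) + 1) ≤ 5 * ((c + 3) ^ 2 + 7) := by
        have h6 : a * (c + 6) ≤ 4 * (c + 6) := Nat.mul_le_mul_right _ (by omega)
        nlinarith only [hc2, h6]
      linarith only [h1, h4]

variable {T : Type*} [Group T] [Finite T] [IsSimpleGroup T] {A : Subgroup T} {Γ : Subgroup (MulAut T)}

/-- **`t² = 1`** -/
theorem use_one [Finite F] [FiniteDimensional F V] (h2 : (2 : F) ≠ 0) (hQ : Nondeg Q) (h : IF A Γ)
    (hna : ∃ a b : T, a * b ≠ b * a) (pi : ↥(E Q) →* T) (hpi : Function.Surjective pi) {t : ↥(E Q)} (ht : pi t ∈ A)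
    (ht1 : pi t ≠ 1) (htt : t * t = 1)
    (hnum : Module.finrank F (Vm t) * (Module.finrank F V - Module.finrank F (Vm t)) + 1 ≤
      5 * (psi (Module.finrank F (Vm t)) + psi (Module.finrank F (Vp t)))) : ∃ z, Fund Q z ∧ pi z ∈ A := by
  have hfE : Finite ↥(E Q) := Cfsg.Agent.H786.IF.finite_E
  by_contra hcon
  push Not at hcon
  have hX : NF Q (A.comap pi) := fun z hz hF => hcon z hF hz
  have h1 := lower_one h2 hQ htt (A.comap pi) hX
  have h3 := Cfsg.Agent.H847.IF.lift_E2 h hna pi hpi ht ht1 (by rw [htt, map_one])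
    (B := Subgroup.centralizer ({t} : Set ↥(E Q))) (by
      intro b hb
      rw [Subgroup.mem_centralizer_iff] at hb
      rw [hb t rfl])
  have h4 := Cfsg.Agent.H237.IF.class_sq_one h2 hQ t htt (Vm t) (fun v => mem_Vm)
  have hq : 1 < Nat.card F := Finite.one_lt_card
  have h5 : Nat.card F ^ (5 * (psi (Module.finrank F (Vm t)) + psi (Module.finrank F (Vp t)))) ≤
      (A.comap pi).relIndex (Subgroup.centralizer ({t} : Set ↥(E Q))) ^ 5 := by
    rw [mul_comm, pow_mul]
    exact Nat.pow_le_pow_left h1 5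
  have h6 := Nat.pow_le_pow_right (Nat.lt_of_lt_of_le Nat.zero_lt_one hq.le) hnum
  omega

/-- **`t² = -1`** -/
theorem use_t [Finite F] [FiniteDimensional F V] (h2 : (2 : F) ≠ 0) (hQ : Nondeg Q) (h4 : 4 ≤ Module.finrank F V)
    (h : IF A Γ) (hna : ∃ a b : T, a * b ≠ b * a) (pi : ↥(E Q) →* T) (hpi : Function.Surjective pi) {t : ↥(E Q)}
    (ht : pi t ∈ A) (ht1 : pi t ≠ 1) (htp : pi (t * t) = 1) (htt : ∀ v, ap t (ap t v) = -v) :
    ∃ z, Fund Q z ∧ pi z ∈ A := by
  have hfE : Finite ↥(E Q) := Cfsg.Agent.H786.IF.finite_E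
  by_contra hcon
  push Not at hcon
  have hX : NF Q (A.comap pi) := fun z hz hF => hcon z hF hz
  let τ : V →ₗ[F] V := ((t : V ≃ₗ[F] V) : V →ₗ[F] V)
  have hτ : ∀ v, τ v = ap t v := fun v => rfl
  have hts : ∀ v, τ (τ v) = -v := htt
  have hQt : ∀ v, Q (τ v) = Q v := fun v => Q_ap t v
  obtain ⟨M, hM⟩ := even_of_t hts hQt h2 hQ
  have hTop : Nd Q (⊤ : Submodule F V) := fun x _ hx => hQ x fun y => hx y trivial
  have h1 := phi_t hts hQt h2 hQ M ⊤ hTop (by rw [finrank_top, hM]) (fun w _ => trivial) (A.comap pi) hX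
  have h3 := Cfsg.Agent.H847.IF.lift_E2 h hna pi hpi ht ht1 htp (B := KT Q τ ⊤) (by
      intro b hb
      have : b * t = t * b := by
        apply ext_ap
        intro v
        rw [ap_mul, ap_mul]
        exact hb.1 v
      rw [this])
  have h5 := Cfsg.Agent.H237.IF.class_sq_neg h2 hQ M hM t htt
  have hq : 1 < Nat.card F := Finite.one_lt_card
  have h6 : Nat.card F ^ (5 * psit M) ≤ (A.comap pi).relIndex (KT Q τ ⊤) ^ 5 := by
    rw [mul_comm, pow_mul]
    exact Nat.pow_le_pow_left h1 5
  have h7 := Nat.pow_le_pow_right (Nat.lt_of_lt_of_le Nat.zero_lt_one hq.le) (sq_le_psit M (by omega))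
  omega

/-- an involution of the quotient lifts to `t² = 1`, `t ≠ ± 1`, or to `t² = -1` -/
theorem lift_cases (hQ : Nondeg Q) (hs : ∃ v : V, Q v ≠ 0) (hna : ∃ a b : T, a * b ≠ b * a) (pi : ↥(E Q) →* T)
    (hpi : Function.Surjective pi) (hk : KerScalar pi) {t : ↥(E Q)} (ht : orderOf (pi t) = 2) :
    (t * t = 1 ∧ Vm t ≠ ⊤ ∧ Vp t ≠ ⊤) ∨ ∀ v, ap t (ap t v) = -v := by
  have ht1 : pi t ≠ 1 := by
    intro h1
    rw [h1, orderOf_one] at ht
    omega
  have ht2 : pi (t * t) = 1 := by
    rw [map_mul, ← pow_two, ← ht, pow_orderOf_eq_one]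
  obtain ⟨c, hc⟩ := hk _ ht2
  have hc' : ∀ v, ap (t * t) v = c • v := hc
  obtain ⟨v, hv⟩ := hs
  have h1 := Q_ap (t * t) v
  rw [hc', QuadraticMap.map_smul, smul_eq_mul] at h1
  have h3 : c * c = 1 := mul_right_cancel₀ hv (by rw [h1, one_mul])
  rcases mul_self_eq_one_iff.1 h3 with h5 | h5
  · left
    have htt : t * t = 1 := by
      apply ext_ap
      intro w
      rw [hc', h5, one_smul, ap_one]
    refine ⟨htt, ?_, ?_⟩
    · intro htop
      apply ht1
      apply Cfsg.Agent.H999.IFB.center_of hna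
      intro x
      obtain ⟨g, rfl⟩ := hpi x
      rw [← map_mul, ← map_mul]
      congr 1
      apply ext_ap
      intro w
      have k1 : ∀ w, ap t w = -w := fun w => by
        have : w ∈ Vm t := by rw [htop]; trivial
        exact this
      rw [ap_mul, ap_mul, k1, k1, ap_neg]
    · intro htop
      apply ht1
      have : t = 1 := by
        apply ext_ap
        intro w
        have : w ∈ Vp t := by rw [htop]; trivial
        exact this
      rw [this, map_one]
  · right
    intro w
    rw [← ap_mul, hc', h5, neg_one_smul]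

/-- **USE**: an involution in `A` gives a fundamental involution in `A` (`dim V ≥ 11`) -/
theorem use_fund [Finite F] [FiniteDimensional F V] (h2 : (2 : F) ≠ 0) (hQ : Nondeg Q) (hN : 11 ≤ Module.finrank F V)
    (h : IF A Γ) (hna : ∃ a b : T, a * b ≠ b * a) (pi : ↥(E Q) →* T) (hpi : Function.Surjective pi)
    (hk : KerScalar pi) {t : ↥(E Q)} (ht : pi t ∈ A) (ho : orderOf (pi t) = 2) : ∃ z, Fund Q z ∧ pi z ∈ A := by
  have ht1 : pi t ≠ 1 := by
    intro h1
    rw [h1, orderOf_one] at ho
    omega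
  have ht2 : pi (t * t) = 1 := by
    rw [map_mul, ← pow_two, ← ho, pow_orderOf_eq_one]
  have hs : ∃ v : V, Q v ≠ 0 := by
    by_contra hcon
    push Not at hcon
    have hnt : Nontrivial V := Module.nontrivial_of_finrank_pos (R := F) (by omega)
    obtain ⟨x, hx⟩ := exists_ne (0 : V)
    apply hx
    apply hQ
    intro y
    simp only [QuadraticMap.polar, hcon, sub_zero]
  rcases lift_cases hQ hs hna pi hpi hk ho with ⟨htt, hm, hp⟩ | htt
  · apply use_one h2 hQ h hna pi hpi ht ht1 htt
    have h3 := finrank_VmVp h2 htt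
    have h5 : Module.finrank F (Vm t) < Module.finrank F V := Submodule.finrank_lt hm
    have h6 : Module.finrank F (Vp t) < Module.finrank F V := Submodule.finrank_lt hp
    have e1 : Module.finrank F V - Module.finrank F (Vm t) = Module.finrank F (Vp t) := by omega
    rw [e1]
    exact num_of _ _ (by omega) (by omega) (by omega)
  · exact use_t h2 hQ (by omega) h hna pi hpi ht ht1 ht2 htt

end Cfsg.Agent.H786.IF
end

-- part: H407/IF/Fin
section
prune_inst 0x4e0707004410010000000009401001c23c800040200088c00042101060008402a09022800080005094820000000050008130000000200000000200000000505010000040021400088820000000000400000000000000000000000000000000000200000000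
set_option linter.all false
open scoped Cfsg.Agent.FastGrp

-- part: H407/IF/KW
section
/-!
# S5719, symplectic groups in characteristic 2 (helper407): the subgroup `Sp(W)` of `Sp B`

`Dc W W'` : `V = W ⟂ W'`; `glue` : `Sp(W) →* Sp B`; `tv_of` : if `|Sp(W) : Sp(W) ∩ X|` is smaller than the minimal index then `X`
contains all transvections with centre in `W`.
-/

set_option autoImplicit false
set_option linter.unusedSectionVars false
set_option linter.unusedSimpArgs false

namespace Cfsg.Agent.H407.IF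

open Module Subgroup Cfsg.Agent.H74.Psp

variable {F V : Type*} [Field F] [AddCommGroup V] [Module F V] {B : V →ₗ[F] V →ₗ[F] F}

/-- `V = W ⟂ W'` -/
structure Dc (B : V →ₗ[F] V →ₗ[F] F) (W W' : Submodule F V) : Prop where
  compl : IsCompl W W'
  orth : ∀ w ∈ W, ∀ u ∈ W', B w u = 0

/-- the form on `W` -/
def BW (B : V →ₗ[F] V →ₗ[F] F) (W : Submodule F V) : W →ₗ[F] W →ₗ[F] F := B.compl₁₂ W.subtype W.subtype

variable {W W' : Submodule F V}

theorem Dc.exists_add (h : Dc B W W') (x : V) : ∃ w ∈ W, ∃ u ∈ W', x = w + u := by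
  have h1 : x ∈ W ⊔ W' := by rw [h.compl.sup_eq_top]; trivial
  obtain ⟨w, hw, u, hu, rfl⟩ := Submodule.mem_sup.1 h1
  exact ⟨w, hw, u, hu, rfl⟩

theorem Dc.symp (h : Dc B W W') (hB : Symp B) : Symp (BW B W) := by
  refine ⟨fun x => hB.alt x, fun x hx => ?_⟩
  apply Subtype.ext
  apply hB.nd
  intro y
  obtain ⟨w, hw, u, hu, rfl⟩ := h.exists_add y
  rw [map_add, h.orth x x.2 u hu, add_zero]
  exact hx ⟨w, hw⟩

/-- extension of an automorphism of `W` by the identity on `W'` -/
noncomputable def gl (h : Dc B W W') (g : W ≃ₗ[F] W) : V ≃ₗ[F] V :=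
  (Submodule.prodEquivOfIsCompl W W' h.compl).symm.trans
    ((LinearEquiv.prodCongr g (LinearEquiv.refl F W')).trans (Submodule.prodEquivOfIsCompl W W' h.compl))

theorem gl_apply (h : Dc B W W') (g : W ≃ₗ[F] W) (w : W) (u : W') : gl h g (w + u : V) = (g w : V) + u := by
  have h1 : (Submodule.prodEquivOfIsCompl W W' h.compl) (w, u) = (w + u : V) := by
    rw [Submodule.coe_prodEquivOfIsCompl']
  rw [← h1, gl, LinearEquiv.trans_apply, LinearEquiv.symm_apply_apply, LinearEquiv.trans_apply]
  show (Submodule.prodEquivOfIsCompl W W' h.compl) (g w, u) = _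
  rw [Submodule.coe_prodEquivOfIsCompl']

theorem B_add (hB : Symp B) (h : Dc B W W') (w x : W) (u y : W') :
    B (w + u : V) (x + y : V) = B w x + B u y := by
  rw [map_add, map_add, LinearMap.add_apply, LinearMap.add_apply, h.orth w w.2 y y.2,
    orth_symm hB (h.orth x x.2 u u.2), add_zero, zero_add]

/-- `Sp(W) →* Sp B` -/
noncomputable def glue (hB : Symp B) (h : Dc B W W') : Sp (BW B W) →* Sp B where
  toFun g := ⟨gl h g.1, fun x y => by
    obtain ⟨w, hw, u, hu, rfl⟩ := h.exists_add x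
    obtain ⟨w1, hw1, u1, hu1, rfl⟩ := h.exists_add y
    have e1 := gl_apply h g.1 ⟨w, hw⟩ ⟨u, hu⟩
    have e2 := gl_apply h g.1 ⟨w1, hw1⟩ ⟨u1, hu1⟩
    have e3 := B_add hB h ⟨w, hw⟩ ⟨w1, hw1⟩ ⟨u, hu⟩ ⟨u1, hu1⟩
    have e4 := B_add hB h (g.1 ⟨w, hw⟩) (g.1 ⟨w1, hw1⟩) ⟨u, hu⟩ ⟨u1, hu1⟩
    have e5 : B (g.1 ⟨w, hw⟩ : W) (g.1 ⟨w1, hw1⟩ : W) = B w w1 := g.2 ⟨w, hw⟩ ⟨w1, hw1⟩
    rw [e1, e2, e4, e5]
    exact e3.symm⟩
  map_one' := by
    apply Sp.ext'
    intro x
    obtain ⟨w, hw, u, hu, rfl⟩ := h.exists_add x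
    exact gl_apply h 1 ⟨w, hw⟩ ⟨u, hu⟩
  map_mul' a b := by
    apply Sp.ext'
    intro x
    obtain ⟨w, hw, u, hu, rfl⟩ := h.exists_add x
    have e1 := gl_apply h (a * b : Sp (BW B W)).1 ⟨w, hw⟩ ⟨u, hu⟩
    have e2 := gl_apply h b.1 ⟨w, hw⟩ ⟨u, hu⟩
    have e3 := gl_apply h a.1 (b.1 ⟨w, hw⟩) ⟨u, hu⟩
    show gl h (a * b : Sp (BW B W)).1 (w + u) = gl h a.1 (gl h b.1 (w + u))
    rw [show gl h b.1 (w + u) = _ from e2, e3]
    exact e1

theorem glue_smul (hB : Symp B) (h : Dc B W W') (g : Sp (BW B W)) (w : W) (u : W') :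
    glue hB h g • (w + u : V) = ((g • w : W) : V) + u := gl_apply h g.1 w u

theorem glue_t (hB : Symp B) (h : Dc B W W') (v : W) (c : F) : glue hB h (t (BW B W) v c) = t B v c := by
  apply Sp.ext'
  intro x
  obtain ⟨w, hw, u, hu, rfl⟩ := h.exists_add x
  have e1 := glue_smul hB h (t (BW B W) v c) ⟨w, hw⟩ ⟨u, hu⟩
  have e2 : t (BW B W) v c • (⟨w, hw⟩ : W) = ⟨w, hw⟩ + (c * B w v) • v := t_smul (h.symp hB) v c _
  rw [show glue hB h (t (BW B W) v c) • (w + u) = _ from e1, e2, t_smul hB, map_add, LinearMap.add_apply,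
    orth_symm hB (h.orth v v.2 u hu), add_zero]
  show w + (c * B w v) • (v : V) + u = _
  abel

/-- elements acting trivially on `W` with `(g - 1) V ≤ W'` commute with `Sp(W)` -/
theorem glue_comm (hB : Symp B) (h : Dc B W W') {g : Sp B} (h1 : ∀ w ∈ W, g • w = w)
    (h2 : LinearMap.range (nl g) ≤ W') : ∀ b ∈ (glue hB h).range, b * g = g * b := by
  rintro _ ⟨a, rfl⟩
  apply Sp.ext'
  intro x
  obtain ⟨w, hw, u, hu, rfl⟩ := h.exists_add x
  have e0 : g • u ∈ W' := by
    rw [smul_eq_add]
    exact W'.add_mem hu (h2 ⟨u, rfl⟩)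
  have e1 := glue_smul hB h a ⟨w, hw⟩ ⟨u, hu⟩
  have e2 := glue_smul hB h a ⟨w, hw⟩ ⟨g • u, e0⟩
  rw [mul_smul, mul_smul, smul_add, h1 w hw, show glue hB h a • (w + g • u) = _ from e2,
    show glue hB h a • (w + u) = _ from e1, smul_add, h1 _ (a • (⟨w, hw⟩ : W)).2]

section Card

variable [Finite F] [Finite V]

/-- **the case `q ≥ 3`** -/
theorem tv_of_three (hB : Symp B) (h : Dc B W W') {r : ℕ} (hr : 2 ≤ r) (hW : Nat.card W = Nat.card F ^ (2 * r))
    (hq : 3 ≤ Nat.card F) (hexc : ¬ (r = 2 ∧ Nat.card F = 3)) {X : Subgroup (Sp B)}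
    (hi : X.relIndex (glue hB h).range < Nat.card F ^ (2 * r - 1)) : ∀ v ∈ W, ∀ c : F, t B v c ∈ X := by
  by_contra hcon
  push Not at hcon
  obtain ⟨v, hv, c, hc⟩ := hcon
  have h1 := min_index (h.symp hB) (H := X.comap (glue hB h)) ⟨⟨v, hv⟩, fun hTv => hc (by
    have h3 := hTv c
    rw [mem_comap, glue_t] at h3
    exact h3)⟩ hr hW hq hexc
  rw [index_comap, hW] at h1
  set q := Nat.card F with hqd
  set i := X.relIndex (glue hB h).range with hid
  have h3 : q ^ (2 * r) = q * q ^ (2 * r - 1) := by rw [← pow_succ']; congr 1; omega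
  have h4 : 1 ≤ q ^ (2 * r - 1) := Nat.one_le_pow _ _ (by omega)
  obtain ⟨p, hp⟩ : ∃ p, q = p + 1 := ⟨q - 1, by omega⟩
  have h5 : q - 1 = p := by omega
  rw [h5, h3] at h1
  have h6 : (i + 1) * p ≤ q ^ (2 * r - 1) * p := Nat.mul_le_mul_right _ hi
  have h7 : q * q ^ (2 * r - 1) = q ^ (2 * r - 1) * p + q ^ (2 * r - 1) := by
    nth_rewrite 1 [hp]; ring
  rw [h7] at h1
  have h8 : (i + 1) * p = i * p + p := by ring
  omega

/-- **the case `q = 2`** -/
theorem tv_of_two (hB : Symp B) (h : Dc B W W') {r : ℕ} (hr : 3 ≤ r) (hq : Nat.card F = 2)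
    (hW : Nat.card W = 2 ^ (2 * r)) {X : Subgroup (Sp B)}
    (hi : X.relIndex (glue hB h).range < 2 ^ (r - 1) * (2 ^ r - 1)) : ∀ v ∈ W, ∀ c : F, t B v c ∈ X := by
  have hS := h.symp hB
  have hF : ∀ a : F, a = 0 ∨ a = 1 := by
    intro a
    by_contra hcon
    push Not at hcon
    classical
    have : Fintype F := Fintype.ofFinite F
    have h1 : ({0, 1, a} : Finset F).card ≤ Fintype.card F := Finset.card_le_univ _
    rw [Finset.card_insert_of_notMem, Finset.card_insert_of_notMem, Finset.card_singleton,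
      ← Nat.card_eq_fintype_card, hq] at h1
    · omega
    · simp [hcon.2.symm]
    · simp only [hcon.1.symm, _root_.Finset.mem_insert, _root_.zero_ne_one, _root_.Finset.mem_singleton, _root_.or_self, _root_.not_false_eq_true]
  have h11 : (1 : F) + 1 = 0 := by
    rcases hF (1 + 1) with h | h
    · exact h
    · exact absurd (add_eq_left.1 h) one_ne_zero
  have hneg : ∀ a : F, -a = a := by
    intro a
    rw [neg_eq_iff_add_eq_zero, ← two_mul, ← one_add_one_eq_two, h11, zero_mul]
  set! G : Subgroup (Sp (BW B W)) := _root_.Subgroup.closure (Set.range fun v : W => t (BW B W) v 1) with hG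
  let S : Cfsg.Agent.H79.MinIdxSp2.Sp2 F W G :=
    { two := hF
      B := fun x y => BW B W x y
      add_left := fun u v w => by rw [map_add, LinearMap.add_apply]
      symm := fun u v => by rw [skew hS, hneg]
      self := hS.alt
      nd := hS.nd
      inv := fun g v w => B_smul_smul (g : Sp (BW B W)) v w
      t := fun v => ⟨t (BW B W) v 1, subset_closure ⟨v, rfl⟩⟩
      t_smul := fun v x => by
        show t (BW B W) v 1 • x = _
        rw [t_smul hS, one_mul, skew hS, hneg]
      ext := fun g g' H => Subtype.ext (Sp.ext' H)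
      gen := by
        have e1 : (Set.range fun v : W => (⟨t (BW B W) v 1, subset_closure ⟨v, rfl⟩⟩ : G)) =
            ((↑) : G → Sp (BW B W)) ⁻¹' (Set.range fun v : W => t (BW B W) v 1) := by
          ext g
          constructor
          · rintro ⟨v, rfl⟩
            exact ⟨v, rfl⟩
          · rintro ⟨v, hv⟩
            exact ⟨v, Subtype.ext hv⟩
        rw [e1]
        exact Subgroup.closure_closure_coe_preimage }
  set! H := X.comap (glue hB h) with hH
  have hGH : G ≤ H := by
    by_contra hcon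
    have h1 : 1 < Nat.card (G ⧸ H.subgroupOf G) := by
      have h3 : (H.subgroupOf G).index ≠ 1 := by
        rw [Ne, index_eq_one]
        intro h4
        exact hcon (subgroupOf_eq_top.1 h4)
      have h5 : (H.subgroupOf G).index ≠ 0 := index_ne_zero_of_finite
      rw [Subgroup.index] at h3 h5
      omega
    have h3 := (S.le_card (X := G ⧸ H.subgroupOf G) hr hW h1 :)
    have h4 : Nat.card (G ⧸ H.subgroupOf G) ≤ H.index := by
      have h5 : H.relIndex G ≤ H.relIndex ⊤ := relIndex_le_of_le_right le_top (by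
        rw [relIndex_top_right]
        exact index_ne_zero_of_finite)
      rw [relIndex_top_right] at h5
      exact h5
    have h6 : H.index = X.relIndex (glue hB h).range := index_comap _ _
    omega
  intro v hv c
  have h1 : t (BW B W) ⟨v, hv⟩ c ∈ H := by
    rcases hF c with rfl | rfl
    · rw [t_zero hS]
      exact H.one_mem
    · exact hGH (subset_closure ⟨⟨v, hv⟩, rfl⟩)
  rw [hH, mem_comap, glue_t] at h1
  exact h1

end Card

end Cfsg.Agent.H407.IF
end

-- part: H407/IF/End
section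
/-!
# S5719, symplectic groups in characteristic 2 (helper407): a transvection in `X`

`tv_all` : if `X` satisfies `Hyp` and contains a transvection then it contains all transvections.
`exists_E` : an involution of rank at most 2 is a Siegel element.
-/

set_option autoImplicit false
set_option linter.unusedSectionVars false
set_option linter.unusedSimpArgs false

namespace Cfsg.Agent.H407.IF

open Module Subgroup Cfsg.Agent.H74.Psp

variable {F V : Type*} [Field F] [AddCommGroup V] [Module F V] {B : V →ₗ[F] V →ₗ[F] F}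

/-- the orthogonal complement of a hyperbolic pair -/
def hyp2 (B : V →ₗ[F] V →ₗ[F] F) (v v' : V) : Submodule F V := LinearMap.ker (B v) ⊓ LinearMap.ker (B v')

theorem mem_hyp2 {v v' x : V} : x ∈ hyp2 B v v' ↔ B v x = 0 ∧ B v' x = 0 := Iff.rfl

theorem dc_hyp2 (hB : Symp B) {v v' : V} (hvv : B v v' = 1) : Dc B (hyp2 B v v') (Submodule.span F {v, v'}) := by
  have hv'v : B v' v = -1 := by rw [skew hB, hvv]
  constructor
  · constructor
    · rw [Submodule.disjoint_def]
      intro x hx hx'
      obtain ⟨a, b, rfl⟩ := Submodule.mem_span_pair.1 hx'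
      obtain ⟨h1, h2⟩ := mem_hyp2.1 hx
      rw [map_add, map_smul, map_smul, hB.alt, hvv, smul_zero, zero_add, smul_eq_mul, mul_one] at h1
      rw [map_add, map_smul, map_smul, hB.alt, hv'v, smul_zero, add_zero, smul_eq_mul, mul_neg, mul_one,
        neg_eq_zero] at h2
      rw [h1, h2, zero_smul, zero_smul, add_zero]
    · rw [codisjoint_iff, Submodule.eq_top_iff']
      intro x
      obtain ⟨u, a, b, rfl, h1, h2⟩ := decompV hB hvv x
      exact Submodule.add_mem_sup (mem_hyp2.2 ⟨h1, h2⟩) (Submodule.mem_span_pair.2 ⟨a, b, rfl⟩)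
  · intro w hw u hu
    obtain ⟨a, b, rfl⟩ := Submodule.mem_span_pair.1 hu
    obtain ⟨h1, h2⟩ := mem_hyp2.1 hw
    rw [map_add, map_smul, map_smul, orth_symm hB h1, orth_symm hB h2, smul_zero, smul_zero, add_zero]

section Card

variable [Finite F] [Finite V]

theorem linInd_pair (hB : Symp B) {v v' : V} (hvv : B v v' = 1) : LinearIndependent F ![v, v'] := by
  rw [LinearIndependent.pair_iff]
  intro a b h
  have h1 := congrArg (B v) h
  have h3 := congrArg (fun x => B x v') h
  simp only [map_add, map_smul, hB.alt, hvv, smul_eq_mul, mul_one, mul_zero, zero_add, map_zero,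
    LinearMap.add_apply, LinearMap.smul_apply, LinearMap.zero_apply, add_zero] at h1 h3
  exact ⟨h3, h1⟩

theorem card_hyp2 (hB : Symp B) {m : ℕ} (hm : 1 ≤ m) (hV : Nat.card V = Nat.card F ^ (2 * m)) {v v' : V}
    (hvv : B v v' = 1) : Nat.card (hyp2 B v v') = Nat.card F ^ (2 * (m - 1)) := by
  have h1 := card_orth hB (linInd_pair hB hvv)
  have h3 : Nat.card {x : V // ∀ i, B ((![v, v'] : Fin 2 → V) i) x = 0} = Nat.card (hyp2 B v v') := by
    refine Nat.card_congr (Equiv.subtypeEquivRight fun x => ?_)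
    rw [Fin.forall_fin_two]
    rfl
  rw [h3, hV] at h1
  have h4 : 0 < Nat.card F ^ 2 := Nat.pow_pos Nat.card_pos
  refine Nat.eq_of_mul_eq_mul_right h4 ?_
  rw [h1, ← pow_add]
  congr 1
  omega

/-- a transvection has rank one -/
theorem t_mem_SI (hB : Symp B) (h2 : (2 : F) = 0) {v : V} (hv : v ≠ 0) {c : F} (hc : c ≠ 0) : t B v c ∈ SI B 1 := by
  refine ⟨?_, ?_⟩
  · rw [t_mul hB, ← two_mul, h2, zero_mul, t_zero hB]
  · have h1 : LinearMap.range (nl (t B v c)) = Submodule.span F {v} := by
      ext x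
      rw [Submodule.mem_span_singleton]
      constructor
      · rintro ⟨y, rfl⟩
        rw [nl_apply, t_smul hB]
        exact ⟨c * B y v, by abel⟩
      · rintro ⟨a, rfl⟩
        obtain ⟨y, hy⟩ := sep0 hB hv
        refine ⟨(-(a * c⁻¹)) • y, ?_⟩
        rw [nl_apply, t_smul hB, map_smul, LinearMap.smul_apply, skew hB, hy, smul_eq_mul]
        have : c * (-(a * c⁻¹) * -1) = a := by field_simp
        rw [this]
        abel
    rw [h1, finrank_span_singleton hv]

theorem t_ne_one (hB : Symp B) {v : V} (hv : v ≠ 0) {c : F} (hc : c ≠ 0) : t B v c ≠ 1 := by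
  intro h
  obtain ⟨y, hy⟩ := sep0 hB hv
  have h1 : t B v c • y = y := by rw [h, one_smul]
  rw [t_smul hB, skew hB, hy, add_eq_left, smul_eq_zero] at h1
  rcases h1 with h1 | h1
  · apply hc
    simpa using h1
  · exact hv h1

/-- one step: a transvection in `X` gives the transvections with orthogonal centres -/
theorem tv_step (hB : Symp B) (h2 : (2 : F) = 0) {m : ℕ} (hm : 3 ≤ m) (hV : Nat.card V = Nat.card F ^ (2 * m))
    (hm4 : Nat.card F = 2 → 4 ≤ m) {X : Subgroup (Sp B)} (hX : Hyp X) {v : V} {c : F} (hv : v ≠ 0) (hc : c ≠ 0)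
    (ht : t B v c ∈ X) {x : V} (hvx : B v x = 0) (hx : ∀ a : F, v ≠ a • x) : ∀ b : F, t B x b ∈ X := by
  obtain ⟨y, hy1, hy2⟩ := sep1 hB hx
  -- `B v y = 1`, `B x y = 0`
  have hd := dc_hyp2 hB hy2
  have hcard := card_hyp2 hB (by omega) hV hy2
  have hq2 : 2 ≤ Nat.card F := Finite.one_lt_card
  have hidx : X.relIndex (glue hB hd).range ^ 5 < 4 * Nat.card F ^ (1 * (2 * m - 1 + 1)) := by
    refine lt_of_lt_of_le (hX.e2 (t B v c) ht (t_ne_one hB hv hc) (t_mem_SI hB h2 hv hc).1 _ ?_)
      (index_le hB h2 hV (by omega) (t_mem_SI hB h2 hv hc))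
    apply glue_comm hB hd
    · intro w hw
      obtain ⟨h1, -⟩ := mem_hyp2.1 hw
      rw [t_smul_orth hB v c h1]
    · rintro _ ⟨z, rfl⟩
      rw [nl_apply, t_smul hB, add_sub_cancel_left]
      exact Submodule.smul_mem _ _ (Submodule.subset_span (by simp))
  have e0 : 1 * (2 * m - 1 + 1) = 2 * m := by omega
  rw [e0] at hidx
  have hxm : x ∈ hyp2 B v y := mem_hyp2.2 ⟨hvx, orth_symm hB hy1⟩
  rcases Nat.lt_or_ge 2 (Nat.card F) with hq | hq
  · -- `q ≥ 4`
    have hq4 : 4 ≤ Nat.card F := by
      by_contra hcon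
      have h3 : Nat.card F = 3 := by omega
      have : Fintype F := Fintype.ofFinite F
      have h4 : (3 : F) = 0 := by
        have := FiniteField.cast_card_eq_zero F
        rw [← Nat.card_eq_fintype_card, h3] at this
        exact_mod_cast this
      have h5 : (1 : F) = 0 := by
        have : (3 : F) - 2 = 1 := by norm_num
        rw [← this, h4, h2, sub_zero]
      exact one_ne_zero h5
    refine tv_of_three hB hd (r := m - 1) (by omega) hcard (by omega) (by omega) ?_ x hxm
    by_contra hcon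
    push Not at hcon
    have h3 : (Nat.card F ^ (2 * (m - 1) - 1)) ^ 5 ≤ X.relIndex (glue hB hd).range ^ 5 := Nat.pow_le_pow_left hcon 5
    have h4 : 4 * Nat.card F ^ (2 * m) ≤ (Nat.card F ^ (2 * (m - 1) - 1)) ^ 5 := by
      calc 4 * Nat.card F ^ (2 * m) ≤ Nat.card F * Nat.card F ^ (2 * m) := Nat.mul_le_mul_right _ hq4
        _ = Nat.card F ^ (2 * m + 1) := (pow_succ' _ _).symm
        _ ≤ Nat.card F ^ ((2 * (m - 1) - 1) * 5) := Nat.pow_le_pow_right (by omega) (by omega)
        _ = (Nat.card F ^ (2 * (m - 1) - 1)) ^ 5 := pow_mul _ _ _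
    omega
  · have hq' : Nat.card F = 2 := by omega
    have hm' := hm4 hq'
    rw [hq'] at hcard hidx
    refine tv_of_two hB hd (r := m - 1) (by omega) hq' hcard ?_ x hxm
    by_contra hcon
    push Not at hcon
    have h3 : (2 ^ (m - 1 - 1) * (2 ^ (m - 1) - 1)) ^ 5 ≤ X.relIndex (glue hB hd).range ^ 5 := Nat.pow_le_pow_left hcon 5
    have h5 : 2 ^ (m - 1 - 1) * 2 ^ (m - 1 - 1) ≤ 2 ^ (m - 1 - 1) * (2 ^ (m - 1) - 1) := by
      apply Nat.mul_le_mul_left
      have h6 : 2 ^ (m - 1) = 2 * 2 ^ (m - 1 - 1) := by rw [← pow_succ']; congr 1; omega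
      have h7 : 1 ≤ 2 ^ (m - 1 - 1) := Nat.one_le_pow _ _ (by norm_num)
      omega
    have h4 : 4 * 2 ^ (2 * m) ≤ (2 ^ (m - 1 - 1) * (2 ^ (m - 1) - 1)) ^ 5 := by
      calc 4 * 2 ^ (2 * m) = 2 ^ (2 + 2 * m) := by rw [pow_add]; norm_num
        _ ≤ 2 ^ ((m - 1 - 1 + (m - 1 - 1)) * 5) := Nat.pow_le_pow_right (by norm_num) (by omega)
        _ = (2 ^ (m - 1 - 1) * 2 ^ (m - 1 - 1)) ^ 5 := by rw [pow_mul, pow_add]
        _ ≤ (2 ^ (m - 1 - 1) * (2 ^ (m - 1) - 1)) ^ 5 := Nat.pow_le_pow_left h5 5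
    omega

/-- **all transvections** -/
theorem tv_all (hB : Symp B) (h2 : (2 : F) = 0) {m : ℕ} (hm : 3 ≤ m) (hV : Nat.card V = Nat.card F ^ (2 * m))
    (hm4 : Nat.card F = 2 → 4 ≤ m) {X : Subgroup (Sp B)} (hX : Hyp X) {v : V} {c : F} (hv : v ≠ 0) (hc : c ≠ 0)
    (ht : t B v c ∈ X) (x : V) : Tv X x := by
  by_cases hx0 : x = 0
  · rw [hx0]
    exact Tv.zero hB
  -- `z` orthogonal to `v` and `x`, outside of the span
  obtain ⟨z, hz1, hz2, hz3⟩ : ∃ z, B v z = 0 ∧ B x z = 0 ∧ ∀ a b : F, z ≠ a • v + b • x := by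
    by_contra hcon
    push Not at hcon
    have h1 : ∀ z : {z : V // B v z = 0 ∧ B x z = 0}, ∃ p : F × F, (z : V) = p.1 • v + p.2 • x := by
      intro z
      obtain ⟨a, b, h⟩ := hcon z z.2.1 z.2.2
      exact ⟨(a, b), h⟩
    choose f hf using h1
    have h3 : Nat.card {z : V // B v z = 0 ∧ B x z = 0} ≤ Nat.card (F × F) :=
      Nat.card_le_card_of_injective f fun a b hab => Subtype.ext (by rw [hf a, hf b, hab])
    rw [Nat.card_prod] at h3
    -- lower bound
    have h4 : Nat.card V ≤ Nat.card ({z : V // B v z = 0 ∧ B x z = 0}) * Nat.card (F × F) := by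
      let φ : V →+ F × F := { toFun := fun z => (B v z, B x z), map_zero' := by simp, map_add' := by intro a b; simp }
      have h5 := AddSubgroup.index_mul_card φ.ker
      rw [AddSubgroup.index_ker] at h5
      have h6 : Nat.card φ.ker = Nat.card {z : V // B v z = 0 ∧ B x z = 0} := by
        refine Nat.card_congr (Equiv.subtypeEquivRight fun z => ?_)
        rw [AddMonoidHom.mem_ker]
        show (B v z, B x z) = 0 ↔ _
        rw [Prod.mk_eq_zero]
      rw [← h5, h6, mul_comm]
      exact Nat.mul_le_mul_left _ (Nat.card_le_card_of_injective _ Subtype.val_injective)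
    rw [Nat.card_prod, hV] at h4
    have hq2 : 2 ≤ Nat.card F := Finite.one_lt_card
    have h7 : Nat.card F ^ (2 * m) ≤ Nat.card F ^ 4 := by
      calc Nat.card F ^ (2 * m) ≤ _ := h4
        _ ≤ (Nat.card F * Nat.card F) * (Nat.card F * Nat.card F) := Nat.mul_le_mul_right _ h3
        _ = Nat.card F ^ 4 := by ring
    have h8 := (Nat.pow_le_pow_iff_right (a := Nat.card F) hq2).1 h7
    omega
  have hz0 : z ≠ 0 := by
    intro h
    apply hz3 0 0
    rw [h, zero_smul, zero_smul, add_zero]
  have h1 := tv_step hB h2 hm hV hm4 hX hv hc ht hz1 (by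
    intro a ha
    by_cases ha0 : a = 0
    · rw [ha0, zero_smul] at ha
      exact hv ha
    · apply hz3 a⁻¹ 0
      rw [ha, smul_smul, inv_mul_cancel₀ ha0, one_smul, zero_smul, add_zero])
  exact tv_step hB h2 hm hV hm4 hX hz0 one_ne_zero (h1 1) (orth_symm hB hz2) (by
    intro a ha
    apply hz3 0 a
    rw [ha, zero_smul, zero_add])

end Card

/-! ### involutions of rank at most 2 -/

/-- `x ↦ B x (g x - x)` is additive and semilinear -/
theorem qf_add (h2 : (2 : F) = 0) (hB : Symp B) {g : Sp B} (hg : g * g = 1) (x y : V) :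
    B (x + y) (nl g (x + y)) = B x (nl g x) + B y (nl g y) := by
  have h1 : B x (nl g y) = B y (nl g x) := by
    rw [← nl_sym hg, skew hB, ← map_neg, negself h2]
  rw [map_add, map_add, map_add, LinearMap.add_apply, LinearMap.add_apply, h1]
  have h3 : B y (nl g x) + B y (nl g x) = 0 := by rw [← two_mul, h2, zero_mul]
  linear_combination h3

theorem isSq [Finite F] (h2 : (2 : F) = 0) (a : F) : ∃ c, a = c ^ 2 := by
  have h1 : ringChar F = 2 := by
    have hd : ringChar F ∣ 2 := (ringChar.spec F 2).1 (by exact_mod_cast h2)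
    rcases (Nat.dvd_prime Nat.prime_two).1 hd with h | h
    · exfalso
      have : CharP F 1 := by
        rw [← h]
        exact ringChar.charP F
      exact one_ne_zero (α := F) (by
        have := CharP.cast_eq_zero F 1
        rwa [Nat.cast_one] at this)
    · exact h
  obtain ⟨c, hc⟩ := FiniteField.isSquare_of_char_two h1 a
  exact ⟨c, by rw [hc, pow_two]⟩

/-- **an involution of rank at most 2 is a Siegel element** -/
theorem exists_E [Finite F] [Finite V] (h2 : (2 : F) = 0) (hB : Symp B) {g : Sp B} (hg : g * g = 1) (h1 : g ≠ 1)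
    (hr : finrank F (LinearMap.range (nl g)) ≤ 2) :
    (∃ (v : V) (c : F), v ≠ 0 ∧ c ≠ 0 ∧ g = t B v c) ∨ ∃ (w u : V) (c : F), B w u = 0 ∧ g = E B w u c := by
  have hq : ∀ (c : F) (x : V), B (c • x) (nl g (c • x)) = c ^ 2 * B x (nl g x) := by
    intro c x
    rw [map_smul, map_smul, map_smul, LinearMap.smul_apply, smul_eq_mul, smul_eq_mul]
    ring
  by_cases hiso : ∃ x, nl g x ≠ 0 ∧ B x (nl g x) = 0
  · right
    obtain ⟨x0, hx0, hx0'⟩ := hiso
    set z := nl g x0 with hz
    obtain ⟨y, hy⟩ := sep0 hB hx0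
    have hyz : B y z = 1 := by
      rw [skew hB, hy, ← sub_eq_zero]
      linear_combination (-1 : F) * h2
    have hz0 : nl g z = 0 := nl_nl h2 hg x0
    have hline : ∀ x1, B x1 z = 0 → ∃ a : F, nl g x1 = a • z := by
      intro x1 hx1
      by_contra hcon
      push Not at hcon
      have hli : LinearIndependent F ![z, nl g x1] := by
        rw [LinearIndependent.pair_iff]
        intro a b hab
        have hb : b = 0 := by
          by_contra hb
          apply hcon (-(b⁻¹ * a))
          have h3 : nl g x1 = b⁻¹ • (b • nl g x1) := by rw [smul_smul, inv_mul_cancel₀ hb, one_smul]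
          have h4 : b • nl g x1 = -(a • z) := by
            rw [eq_neg_iff_add_eq_zero, add_comm]
            exact hab
          rw [h3, h4, smul_neg, smul_smul, neg_smul]
        rw [hb, zero_smul, add_zero, smul_eq_zero] at hab
        exact ⟨hab.resolve_right hx0, hb⟩
      have hsp : Submodule.span F (Set.range ![z, nl g x1]) = LinearMap.range (nl g) := by
        apply Submodule.eq_of_le_of_finrank_le
        · rw [Submodule.span_le]
          rintro _ ⟨i, rfl⟩
          fin_cases i
          · exact ⟨x0, rfl⟩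
          · exact ⟨x1, rfl⟩
        · rw [finrank_span_eq_card hli, Fintype.card_fin]
          exact hr
      have h3 : nl g y ∈ Submodule.span F (Set.range ![z, nl g x1]) := by
        rw [hsp]
        exact ⟨y, rfl⟩
      rw [Matrix.range_cons, Matrix.range_cons, Matrix.range_empty, Set.union_empty, Set.singleton_union,
        Submodule.mem_span_pair] at h3
      obtain ⟨a, b, hab⟩ := h3
      have h4 : B (y - (a • x0 + b • x1)) z = 0 := by
        rw [hz, ← nl_sym hg, map_sub, map_add, map_smul, map_smul, ← hab]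
        show B (_ - _) _ = 0
        rw [sub_self, map_zero, LinearMap.zero_apply]
      rw [map_sub, map_add, map_smul, map_smul, LinearMap.sub_apply, LinearMap.add_apply, LinearMap.smul_apply,
        LinearMap.smul_apply, hx0', hx1, smul_zero, smul_zero, add_zero, sub_zero, hyz] at h4
      exact one_ne_zero h4
    have hw : B z (nl g y) = 0 := by rw [← nl_sym hg, hz0, map_zero, LinearMap.zero_apply]
    refine ⟨z, nl g y, B y (nl g y), hw, ?_⟩
    apply nl_inj
    intro x
    -- `x = B x z • y + x1`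
    set! x1 := x - B x z • y with hx1
    have h3 : B x1 z = 0 := by
      rw [hx1, map_sub, map_smul, LinearMap.sub_apply, LinearMap.smul_apply, hyz, smul_eq_mul, mul_one, sub_self]
    obtain ⟨a, ha⟩ := hline x1 h3
    have h4 : B x1 (nl g y) = a := by
      rw [← nl_sym hg, ha, map_smul, LinearMap.smul_apply, hy, smul_eq_mul, mul_one]
    have hx : x = x1 + B x z • y := by rw [hx1]; abel
    have h5 : nl g x = a • z + B x z • nl g y := by
      nth_rewrite 1 [hx]
      rw [map_add, map_smul, ha]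
    have h6 : B x (nl g y) = a + B x z * B y (nl g y) := by
      nth_rewrite 1 [hx]
      rw [map_add, map_smul, LinearMap.add_apply, LinearMap.smul_apply, h4, smul_eq_mul]
    rw [nl_apply (E B z (nl g y) (B y (nl g y))), E_smul hB hw, h5, h6]
    have h7 : (B x z * B y (nl g y)) • z + (B x z * B y (nl g y)) • z = 0 := addself h2 _
    have h8 : x + B x z • nl g y + (a + B x z * B y (nl g y)) • z + (B y (nl g y) * B x z) • z - x =
        a • z + B x z • nl g y + ((B x z * B y (nl g y)) • z + (B x z * B y (nl g y)) • z) := by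
      rw [mul_comm (B y (nl g y))]
      module
    rw [h8, h7, add_zero]
  · left
    push Not at hiso
    obtain ⟨x, hx⟩ : ∃ x, nl g x ≠ 0 := by
      by_contra hcon
      push Not at hcon
      apply h1
      apply Sp.ext'
      intro x
      rw [smul_eq_add, hcon x, add_zero, one_smul]
    have hφ := hiso x hx
    have hline : ∀ x', ∃ a : F, nl g x' = a • nl g x := by
      intro x'
      obtain ⟨c, hc⟩ := isSq h2 (B x' (nl g x') * (B x (nl g x))⁻¹)
      refine ⟨c, ?_⟩
      by_contra hcon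
      have h3 : nl g (x' - c • x) ≠ 0 := by
        rw [map_sub, map_smul, sub_ne_zero]
        exact hcon
      apply hiso _ h3
      rw [sub_eq_add_neg, ← neg_smul, qf_add h2 hB hg, hq]
      have h4 : B x' (nl g x') = c ^ 2 * B x (nl g x) := by rw [← hc, mul_assoc, inv_mul_cancel₀ hφ, mul_one]
      rw [h4]
      linear_combination (c ^ 2 * B x (nl g x)) * h2
    refine ⟨nl g x, (B x (nl g x))⁻¹, hx, inv_ne_zero hφ, ?_⟩
    apply nl_inj
    intro x'
    obtain ⟨a, ha⟩ := hline x'
    have h3 : a * B x (nl g x) = B x' (nl g x) := by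
      have h4 : B x (nl g x') = B (nl g x) x' := (nl_sym hg x x').symm
      rw [ha, map_smul, smul_eq_mul] at h4
      rw [h4, skew hB, ← sub_eq_zero]
      linear_combination (-B x' (nl g x)) * h2
    rw [ha, nl_apply (t B (nl g x) _), t_smul hB, add_sub_cancel_left, ← h3]
    congr 1
    field_simp

end Cfsg.Agent.H407.IF
end

-- part: H407/IF/Asm
section
/-!
# S5719, `PSp_2m(q)`, `q` even, `m ≥ 3` (helper407): transfer and assembly

`hyp_of` : `IF A Γ` in `PSp m F` gives `Hyp` for the preimage of `A` in `Sp B`.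
`killE_of` : the cell from the two pieces `hD` (descent to rank at most 2) and `hT` (rank 2 gives a transvection).
-/

set_option autoImplicit false
set_option linter.unusedSectionVars false
set_option linter.unusedSimpArgs false

namespace Cfsg.Agent.H407.IF

open Module Subgroup Cfsg Cfsg.Agent.H74.Psp Cfsg.Agent.H209.Fxy ClassicalGeometry.SympBasic

universe u

variable {F : Type u} [Field F]

/-- `Sp B → PSp` -/
noncomputable def piS (F : Type u) [Field F] (m : ℕ) : Sp (sympBilin m F) →* PSp m F :=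
  (QuotientGroup.mk' (Subgroup.center (Matrix.symplecticGroup (Fin m) F))).comp
    (MulEquiv.ofBijective (toSp m) (toSp_bijective m)).symm.toMonoidHom

theorem piS_surj (m : ℕ) : Function.Surjective (piS F m) :=
  (QuotientGroup.mk'_surjective _).comp (MulEquiv.surjective _)

theorem piS_toSp (m : ℕ) (A : Matrix.symplecticGroup (Fin m) F) : piS F m (toSp m A) = QuotientGroup.mk' _ A := by
  show QuotientGroup.mk' _ ((MulEquiv.ofBijective (toSp m) (toSp_bijective m)).symm ((toSp m A :))) = _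
  congr 1
  exact (MulEquiv.ofBijective (toSp m) (toSp_bijective m)).symm_apply_apply A

theorem piS_inj (h2 : (2 : F) = 0) {m : ℕ} {g : Sp (sympBilin m F)} (h : piS F m g = 1) : g = 1 := by
  have hB := symp_sympBilin (F := F) m
  obtain ⟨A, rfl⟩ := (toSp_bijective (F := F) m).2 g
  rw [piS_toSp, QuotientGroup.mk'_apply, QuotientGroup.eq_one_iff] at h
  apply Sp.ext'
  intro v
  rw [one_smul]
  by_cases hv : v = 0
  · rw [hv, smul_zero]
  have h1 : t (sympBilin m F) (toSp m A • v) 1 = t (sympBilin m F) v 1 := by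
    rw [← conj_t hB]
    obtain ⟨T, hT⟩ := (toSp_bijective (F := F) m).2 (t (sympBilin m F) v 1)
    rw [← hT, ← map_mul, ← Subgroup.mem_center_iff.1 h T, map_mul, mul_inv_cancel_right]
  set w := toSp m A • v with hw
  obtain ⟨y, hy⟩ := sep0 hB hv
  have hyv : sympBilin m F y v = 1 := by
    rw [skew hB, hy, ← sub_eq_zero]
    linear_combination (-1 : F) * h2
  have h3 : t (sympBilin m F) w 1 • y = t (sympBilin m F) v 1 • y := by rw [h1]
  rw [t_smul hB, t_smul hB, one_mul, one_mul, hyv, one_smul, add_right_inj] at h3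
  -- `v = λ w`
  set l := sympBilin m F y w with hl
  have h4 : l * l = 1 := by
    have h5 := congrArg (sympBilin m F y) h3
    rw [map_smul, hyv, smul_eq_mul, ← hl] at h5
    exact h5
  have h5 : l = 1 := by
    have h6 : (l - 1) * (l - 1) = 0 := by linear_combination h4 + (1 - l) * h2
    rcases mul_eq_zero.1 h6 with h7 | h7 <;> exact sub_eq_zero.1 h7
  rw [h5, one_smul] at h3
  exact h3

/-- **`IF` gives `Hyp`** -/
theorem hyp_of [Finite F] (h2 : (2 : F) = 0) {m : ℕ} [IsSimpleGroup (PSp m F)] [Finite (PSp m F)]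
    {A : Subgroup (PSp m F)} {Γ : Subgroup (MulAut (PSp m F))} (h : IF A Γ) (hna : ∃ a b : PSp m F, a * b ≠ b * a) :
    Hyp (A.comap (piS F m)) := by
  constructor
  · intro t ht ht1 htt L hL
    refine Cfsg.Agent.H847.IF.lift_E2 h hna (piS F m) (piS_surj m) ht ?_ ?_ ?_
    · intro h1
      exact ht1 (piS_inj h2 h1)
    · rw [htt, map_one]
    · intro b hb
      rw [hL b hb]
  · intro t ht ht1 htt
    have ho : orderOf (piS F m t) = 2 := by
      apply orderOf_eq_prime _ (fun h1 => ht1 (piS_inj h2 h1))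
      rw [pow_two, ← map_mul, htt, map_one]
    obtain ⟨-, -, -, h4, -⟩ := Cfsg.Agent.H999.IFB.IF.E2' h hna ht ho
    have h5 : (centralizer ({piS F m t} : Set (PSp m F))).index ≤ (centralizer ({t} : Set (Sp (sympBilin m F)))).index := by
      rw [← index_comap_of_surjective _ (piS_surj m)]
      refine Nat.le_of_dvd (Nat.pos_of_ne_zero index_ne_zero_of_finite) (index_dvd_of_le ?_)
      intro x hx
      rw [mem_centralizer_iff] at hx
      rw [mem_comap, mem_centralizer_iff]
      rintro _ rfl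
      rw [← map_mul, hx t rfl, map_mul]
    calc 729 ^ 5 < A.index ^ 5 := Nat.pow_lt_pow_left h.big (by norm_num)
      _ < (centralizer ({piS F m t} : Set (PSp m F))).index ^ 6 := h4
      _ ≤ _ := Nat.pow_le_pow_left h5 6

theorem card_model [Finite F] (m : ℕ) : Nat.card (Fin m ⊕ Fin m → F) = Nat.card F ^ (2 * m) := by
  rw [Nat.card_fun, Nat.card_sum, Nat.card_fin, two_mul]

/-- **the cell from its pieces** -/
theorem killE_of [Fintype F] (m : ℕ) (hev : Even (Fintype.card F)) (hm : 3 ≤ m) (hs : IsSimpleGroup (PSp m F))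
    (hD : ∀ X : Subgroup (Sp (sympBilin m F)), Hyp X → (∃ t ∈ X, t ≠ 1 ∧ t * t = 1) →
      ∃ t ∈ X, t ≠ 1 ∧ t * t = 1 ∧ finrank F (LinearMap.range (nl t)) ≤ 2)
    (hT : ∀ X : Subgroup (Sp (sympBilin m F)), Hyp X →
      (∃ t ∈ X, t ≠ 1 ∧ t * t = 1 ∧ finrank F (LinearMap.range (nl t)) ≤ 2) →
      ∃ (v : Fin m ⊕ Fin m → F) (c : F), v ≠ 0 ∧ c ≠ 0 ∧ t (sympBilin m F) v c ∈ X) :
    KillE (PSp m F) := by
  rintro A Γ h ⟨a, ha, ho⟩
  have hfin : Finite (PSp m F) := by
    unfold PSp
    infer_instance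
  have h2 : (2 : F) = 0 := by
    have h1 : ringChar F = 2 := FiniteField.even_card_iff_char_two.2 (Nat.even_iff.1 hev)
    have h3 := (ringChar.spec F 2).2 (by rw [h1])
    exact_mod_cast h3
  have hB := symp_sympBilin (F := F) m
  have hV := card_model (F := F) m
  have hna : ∃ a b : PSp m F, a * b ≠ b * a := by
    by_contra hcon
    push Not at hcon
    have hn : A.Normal := ⟨fun a ha g => by rw [hcon g a, mul_inv_cancel_right]; exact ha⟩
    rcases hn.eq_bot_or_eq_top with h1 | h1
    · exact h.ne_bot h1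
    · exact h.ne_top h1
  set! X := A.comap (piS F m) with hXd
  have hX : Hyp X := hyp_of h2 h hna
  -- an involution
  have hi : ∃ t ∈ X, t ≠ 1 ∧ t * t = 1 := by
    obtain ⟨x, rfl⟩ := piS_surj m a
    refine ⟨x, ha, ?_, ?_⟩
    · rintro rfl
      rw [map_one, orderOf_one] at ho
      omega
    · apply piS_inj h2
      rw [map_mul, ← pow_two, ← ho, pow_orderOf_eq_one]
  obtain ⟨v, c, hv, hc, htX⟩ := hT X hX (hD X hX hi)
  by_cases hm4 : Nat.card F = 2 → 4 ≤ m
  · have hTv := tv_all hB h2 hm hV hm4 hX hv hc htX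
    -- `X ≠ ⊤`
    have hXtop : X.comap (toSp m) ≠ ⊤ := by
      intro h1
      apply h.ne_top
      rw [Subgroup.eq_top_iff'] at h1 ⊢
      intro y
      obtain ⟨g, rfl⟩ := piS_surj m y
      obtain ⟨M, rfl⟩ := (toSp_bijective (F := F) m).2 g
      exact h1 M
    obtain ⟨x, hx⟩ := exists_not_Tv m hXtop
    apply hx
    intro b
    obtain ⟨M, hM⟩ := (toSp_bijective (F := F) m).2 (t (sympBilin m F) x b)
    refine ⟨M, ?_, hM⟩
    show toSp m M ∈ X
    rw [hM]
    exact hTv x b
  · -- `Sp_6(2)`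
    push Not at hm4
    obtain ⟨hq, hm3⟩ := hm4
    have hm' : m = 3 := by omega
    have h1 := hX.big _ htX (t_ne_one hB hv hc) (t_mem_SI hB h2 hv hc).1
    have h3 := index_le_card (t_mem_SI hB h2 hv hc)
    have h4 := card_SI hB h2 hV 1
    rw [Finset.prod_range_one, pow_one, pow_zero, hq] at h4
    have h5 : (centralizer ({t (sympBilin m F) v c} : Set (Sp (sympBilin m F)))).index ≤ 128 := by
      refine h3.trans ?_
      have h6 : (2 : ℕ) ^ (1 * (2 * m + 1)) = 128 := by rw [hm']; norm_num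
      rw [h6] at h4
      omega
    have h6 := Nat.pow_le_pow_left h5 6
    have h7 : (729 : ℕ) ^ 5 < 128 ^ 6 := lt_of_lt_of_le h1 h6
    norm_num at h7

end Cfsg.Agent.H407.IF
end

-- part: H232/IF/SpDesc
section
/-!
# S5719, `Sp_{2m}(q)`, `q` even: from an involution to an involution of rank at most two (helper232)

`exists_rank_le_two` : `X ≤ Sp B` with the inequalities `Hyp` and an involution contains an involution `t` with
`rank (t - 1) ≤ 2`.
-/

set_option autoImplicit false
set_option linter.unusedSectionVars false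

namespace Cfsg.Agent.H232.IFS

open Module Subgroup Cfsg.Agent.H74.Psp Cfsg.Agent.H407.IF

section chain

/-- lower bound for the order by a chain of stabilisers -/
theorem card_chain {G V : Type*} [Group G] [Finite G] [MulAction G V] [Finite V] (P : Subgroup G) (v : ℕ → V)
    (N : ℕ → ℕ) (s : ℕ)
    (h : ∀ j < s, ∃ S : Set V, N j ≤ S.ncard ∧ ∀ w ∈ S, ∃ x ∈ P, (∀ i < j, x • v i = v i) ∧ x • v j = w) :
    ∏ j ∈ Finset.range s, N j ≤ Nat.card P := by
  let Q : ℕ → Subgroup G := fun j =>
    { carrier := {x | x ∈ P ∧ ∀ i < j, x • v i = v i}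
      one_mem' := ⟨P.one_mem, fun i _ => one_smul _ _⟩
      mul_mem' := fun {x y} hx hy => ⟨P.mul_mem hx.1 hy.1, fun i hi => by rw [mul_smul, hy.2 i hi, hx.2 i hi]⟩
      inv_mem' := fun {x} hx => ⟨P.inv_mem hx.1, fun i hi => by rw [inv_smul_eq_iff, hx.2 i hi]⟩ }
  have key : ∀ j ≤ s, (∏ i ∈ Finset.range j, N i) * Nat.card (Q j) ≤ Nat.card P := by
    intro j
    induction j with
    | zero =>
      intro _
      rw [Finset.prod_range_zero, one_mul]
      exact Subgroup.card_le_of_le fun x hx => hx.1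
    | succ j ih =>
      intro hj
      refine le_trans ?_ (ih (by omega))
      rw [Finset.prod_range_succ, mul_assoc]
      refine Nat.mul_le_mul_left _ ?_
      obtain ⟨S, hS, hx⟩ := h j (by omega)
      choose! x hxP hxi hxj using hx
      refine (Nat.mul_le_mul_right _ hS).trans ?_
      rw [← Nat.card_coe_set_eq, ← Nat.card_prod]
      refine Nat.card_le_card_of_injective (fun p : S × Q (j + 1) => (⟨x p.1 * p.2, ?_, ?_⟩ : Q j)) ?_
      · exact P.mul_mem (hxP _ p.1.2) p.2.2.1
      · intro i hi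
        rw [mul_smul, p.2.2.2 i (by omega), hxi _ p.1.2 i hi]
      · rintro ⟨⟨w, hw⟩, y, hy⟩ ⟨⟨w', hw'⟩, y', hy'⟩ hp
        have h1 : x w * y = x w' * y' := congrArg Subtype.val hp
        have h2 : w = w' := by
          have h3 := congrArg (fun g => g • v j) h1
          simp only [mul_smul] at h3
          rw [hy.2 j (by omega), hy'.2 j (by omega), hxj w hw, hxj w' hw'] at h3
          exact h3
        subst h2
        have h3 : y = y' := mul_left_cancel h1
        subst h3
        rfl
  have h1 := key s le_rfl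
  have h2 : 0 < Nat.card (Q s) := Nat.card_pos
  exact (Nat.le_mul_of_pos_right _ h2).trans h1

end chain

variable {F V : Type*} [Field F] [AddCommGroup V] [Module F V] {B : V →ₗ[F] V →ₗ[F] F}

/-- the elements commuting with `a`, trivial on `Z` and on `Z^⊥/Z` -/
def PP (a : Sp B) (Z : Submodule F V) : Subgroup (Sp B) where
  carrier := {x | x * a = a * x ∧ (∀ z ∈ Z, x • z = z) ∧ ∀ y, (∀ z ∈ Z, B y z = 0) → x • y - y ∈ Z}
  one_mem' := ⟨by rw [one_mul, mul_one], fun z _ => one_smul _ z, fun y _ => by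
    rw [one_smul, sub_self]; exact Z.zero_mem⟩
  mul_mem' := by
    rintro x y ⟨hx, hx1, hx2⟩ ⟨hy, hy1, hy2⟩
    refine ⟨by rw [mul_assoc, hy, ← mul_assoc, hx, mul_assoc], fun z hz => by rw [mul_smul, hy1 z hz, hx1 z hz], ?_⟩
    intro v hv
    have h1 : x • y • v - y • v ∈ Z := by
      apply hx2
      intro z hz
      rw [← hv z hz]
      nth_rewrite 1 [← hy1 z hz]
      exact B_smul_smul y v z
    have h2 := Z.add_mem h1 (hy2 v hv)
    rwa [sub_add_sub_cancel, ← mul_smul] at h2
  inv_mem' := by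
    rintro x ⟨hx, hx1, hx2⟩
    have hi : ∀ z ∈ Z, x⁻¹ • z = z := fun z hz => by rw [inv_smul_eq_iff, hx1 z hz]
    refine ⟨?_, hi, ?_⟩
    · have h1 : x⁻¹ * a = x⁻¹ * (a * x) * x⁻¹ := by group
      rw [h1, ← hx]; group
    · intro v hv
      have h2 := hi _ (hx2 v hv)
      rw [smul_sub, inv_smul_smul] at h2
      have h3 := Z.neg_mem (hx2 v hv)
      rw [← h2, neg_sub] at h3
      exact h3

theorem PP.comm {a : Sp B} {Z : Submodule F V} {x : Sp B} (hx : x ∈ PP a Z) : x * a = a * x := hx.1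

theorem PP.pow_four (h2 : (2 : F) = 0) {a : Sp B} {Z : Submodule F V} {x : Sp B} (hx : x ∈ PP a Z) :
    (x * x) * (x * x) = 1 := by
  obtain ⟨-, h3, h4⟩ := hx
  have h5 : ∀ v, ∀ z ∈ Z, B (nl x v) z = 0 := by
    intro v z hz
    rw [nl_apply, map_sub, LinearMap.sub_apply, sub_eq_zero]
    nth_rewrite 1 [← h3 z hz]
    exact B_smul_smul x v z
  have h6 : ∀ v, nl x (nl x v) ∈ Z := fun v => h4 _ (h5 v)
  have h7 : ∀ z ∈ Z, nl x z = 0 := fun z hz => by rw [nl_apply, h3 z hz, sub_self]
  have h8 : ∀ v, x • x • v = v + nl x (nl x v) := by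
    intro v
    rw [smul_eq_add x v, smul_eq_add x (v + nl x v), map_add]
    have : v + nl x v + (nl x v + nl x (nl x v)) = v + (nl x v + nl x v) + nl x (nl x v) := by abel
    rw [this, addself h2, add_zero]
  apply Sp.ext'
  intro v
  rw [one_smul, mul_smul, mul_smul, mul_smul, h8 v, h8, map_add, map_add, h7 _ (h6 v), map_zero, add_zero, add_assoc,
    addself h2, add_zero]

/-- dual vectors -/
theorem exists_dual_fam [FiniteDimensional F V] (hB : Symp B) {k : ℕ} {u : Fin k → V} (hu : LinearIndependent F u) :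
    ∃ v : Fin k → V, ∀ i j, B (v i) (u j) = if i = j then 1 else 0 := by
  have h : ∀ i, ∃ y, ∀ j, B y (u j) = if i = j then 1 else 0 := by
    intro i
    have h1 : u i ∉ Submodule.span F (u '' {i}ᶜ) := hu.notMem_span_image (by simp)
    obtain ⟨y, hy1, hy2⟩ := sep hB _ h1
    refine ⟨-y, fun j => ?_⟩
    rw [map_neg, LinearMap.neg_apply, ← skew hB]
    split_ifs with hij
    · rw [← hij, hy2]
    · exact hy1 _ (Submodule.subset_span ⟨j, fun h => hij h.symm, rfl⟩)
  choose v hv using h
  exact ⟨v, hv⟩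

/-- the rank of the elements of `PP` -/
theorem PP.rank_le [FiniteDimensional F V] {a : Sp B} {s : ℕ} {u v : Fin s → V}
    (huv : ∀ i j, B (v i) (u j) = if i = j then 1 else 0) {x : Sp B} (hx : x ∈ PP a (Submodule.span F (Set.range u))) :
    finrank F (LinearMap.range (nl x)) ≤ 2 * s := by
  obtain ⟨-, h3, h4⟩ := hx
  have h1 : LinearMap.range (nl x) ≤ Submodule.span F (Set.range u) ⊔ Submodule.span F (Set.range fun i => nl x (v i)) := by
    rintro _ ⟨y, rfl⟩
    have h5 : nl x (y - ∑ i, B y (u i) • v i) ∈ Submodule.span F (Set.range u) := by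
      apply h4
      intro z hz
      induction hz using Submodule.span_induction with
      | mem z hz =>
        obtain ⟨j, rfl⟩ := hz
        rw [map_sub, LinearMap.sub_apply, map_sum, LinearMap.sum_apply, Finset.sum_eq_single j]
        · rw [map_smul, LinearMap.smul_apply, huv, if_pos rfl, smul_eq_mul, mul_one, sub_self]
        · intro i _ hi
          rw [map_smul, LinearMap.smul_apply, huv, if_neg hi, smul_zero]
        · intro hj
          exact absurd (Finset.mem_univ j) hj
      | zero => rw [map_zero]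
      | add a b _ _ ha hb => rw [map_add, ha, hb, add_zero]
      | smul c a _ ha => rw [map_smul, ha, smul_zero]
    have h6 : nl x (∑ i, B y (u i) • v i) ∈ Submodule.span F (Set.range fun i => nl x (v i)) := by
      rw [map_sum]
      refine Submodule.sum_mem _ fun i _ => ?_
      rw [map_smul]
      exact Submodule.smul_mem _ _ (Submodule.subset_span ⟨i, rfl⟩)
    have h7 : nl x y = nl x (y - ∑ i, B y (u i) • v i) + nl x (∑ i, B y (u i) • v i) := by
      rw [← map_add, sub_add_cancel]
    rw [h7]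
    exact Submodule.add_mem_sup h5 h6
  have h5 := Submodule.finrank_mono h1
  have h6 := Submodule.finrank_add_le_finrank_add_finrank (Submodule.span F (Set.range u))
    (Submodule.span F (Set.range fun i => nl x (v i)))
  have h7 := finrank_range_le_card (R := F) u
  have h8 := finrank_range_le_card (R := F) fun i => nl x (v i)
  rw [Fintype.card_fin] at h7 h8
  have h9 : (Set.range u).finrank F = finrank F (Submodule.span F (Set.range u)) := rfl
  have h10 : (Set.range fun i => nl x (v i)).finrank F =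
    finrank F (Submodule.span F (Set.range fun i => nl x (v i))) := rfl
  omega

section fin

variable [Finite F] [Finite V]

/-- **one step**: a subgroup of exponent four commuting with `a`, large -/
theorem step {X : Subgroup (Sp B)} (hX : Hyp X) {a : Sp B} (haX : a ∈ X) (ha1 : a ≠ 1) (ha : a * a = 1)
    {P : Subgroup (Sp B)} (hP : ∀ x ∈ P, x * a = a * x) (h4 : ∀ x ∈ P, (x * x) * (x * x) = 1)
    (hc : (centralizer ({a} : Set (Sp B))).index ≤ Nat.card P ^ 5) : ∃ b ∈ X, b ∈ P ∧ b ≠ 1 ∧ b * b = 1 := by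
  have h1 := hX.e2 a haX ha1 ha P hP
  by_cases h : X.subgroupOf P = ⊥
  · exfalso
    rw [relIndex, h, index_bot] at h1
    omega
  · obtain ⟨⟨⟨y, hyP⟩, hyX⟩, hy⟩ := Subgroup.ne_bot_iff_exists_ne_one.1 h
    have hy1' : y ≠ 1 := fun h0 => hy (Subtype.ext (Subtype.ext h0))
    have hyX' : y ∈ X := hyX
    by_cases h5 : y * y = 1
    · exact ⟨y, hyX', hyP, hy1', h5⟩
    · exact ⟨y * y, X.mul_mem hyX' hyX', P.mul_mem hyP hyP, h5, h4 y hyP⟩

/-- `v + R` for a subspace `R` -/
theorem ncard_shift (R : Submodule F V) (v : V) :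
    ((fun w : R => v + (w : V)) '' Set.univ).ncard = Nat.card F ^ finrank F R := by
  rw [Set.ncard_image_of_injective _ (fun a b h => Subtype.ext (add_left_cancel h)), Set.ncard_univ,
    Module.natCard_eq_pow_finrank (K := F)]

/-- intersection with hyperplanes -/
theorem finrank_cut (W : Submodule F V) (j : ℕ) (v : Fin j → V) :
    ∃ R : Submodule F V, (∀ w ∈ R, w ∈ W ∧ ∀ i, B (v i) w = 0) ∧ finrank F W - j ≤ finrank F R := by
  set! φ : W →ₗ[F] (Fin j → F) := LinearMap.pi fun i => (B (v i)) ∘ₗ W.subtype with hφ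
  refine ⟨(LinearMap.ker φ).map W.subtype, ?_, ?_⟩
  · rintro _ ⟨w, hw, rfl⟩
    refine ⟨w.2, fun i => ?_⟩
    exact congrFun hw i
  · rw [LinearEquiv.finrank_eq (Submodule.equivMapOfInjective W.subtype W.injective_subtype _).symm]
    have h1 := LinearMap.finrank_range_add_finrank_ker φ
    have h2 := Submodule.finrank_le (LinearMap.range φ)
    rw [Module.finrank_fin_fun] at h2
    omega

theorem range_le_ker (h2 : (2 : F) = 0) {a : Sp B} (ha : a * a = 1) : LinearMap.range (nl a) ≤ LinearMap.ker (nl a) := by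
  rintro _ ⟨x, rfl⟩
  exact nl_nl h2 ha x

theorem ker_orth {a : Sp B} (ha : a * a = 1) {u w : V} (hu : u ∈ LinearMap.range (nl a))
    (hw : nl a w = 0) : B u w = 0 := by
  obtain ⟨x, rfl⟩ := hu
  rw [nl_sym ha, hw, map_zero]

/-- **the general step**: rank `k`, `2 s < k` -/
theorem card_PP_ge (hB : Symp B) (h2 : (2 : F) = 0) {a : Sp B} (ha : a * a = 1) {k : ℕ}
    {u v : Fin k → V} (hu : ∀ i, u i ∈ LinearMap.range (nl a))
    (huv : ∀ i j, B (v i) (u j) = if i = j then 1 else 0) :
    Nat.card F ^ (∑ j ∈ Finset.range k, (finrank F (LinearMap.ker (nl a)) - j)) ≤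
      Nat.card (PP a (Submodule.span F (Set.range u))) := by
  classical
  rw [← Finset.prod_pow_eq_pow_sum]
  refine card_chain _ (fun i => if h : i < k then v ⟨i, h⟩ else 0) _ _ ?_
  intro j hj
  obtain ⟨R, hR, hd⟩ := finrank_cut (B := B) (LinearMap.ker (nl a)) j fun i => v ⟨i, by omega⟩
  refine ⟨(fun w : R => v ⟨j, hj⟩ + (w : V)) '' Set.univ, ?_, ?_⟩
  · rw [ncard_shift]
    exact Nat.pow_le_pow_right Nat.card_pos hd
  · rintro _ ⟨⟨w, hw⟩, -, rfl⟩
    obtain ⟨hwk, hwv⟩ := hR w hw
    have hwk' : nl a w = 0 := hwk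
    have hzw : B (u ⟨j, hj⟩) w = 0 := ker_orth ha (hu _) hwk'
    have huu : ∀ z ∈ Submodule.span F (Set.range u), B z w = 0 ∧ B z (u ⟨j, hj⟩) = 0 := by
      intro z hz
      induction hz using Submodule.span_induction with
      | mem z hz =>
        obtain ⟨i, rfl⟩ := hz
        exact ⟨ker_orth ha (hu _) hwk', ker_orth ha (hu _) (range_le_ker h2 ha (hu _))⟩
      | zero => exact ⟨by rw [map_zero, LinearMap.zero_apply], by rw [map_zero, LinearMap.zero_apply]⟩
      | add a b _ _ ha hb => exact ⟨by rw [map_add, LinearMap.add_apply, ha.1, hb.1, add_zero],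
          by rw [map_add, LinearMap.add_apply, ha.2, hb.2, add_zero]⟩
      | smul c a _ ha => exact ⟨by rw [map_smul, LinearMap.smul_apply, ha.1, smul_zero],
          by rw [map_smul, LinearMap.smul_apply, ha.2, smul_zero]⟩
    refine ⟨E B (u ⟨j, hj⟩) w (-B (v ⟨j, hj⟩) w), ⟨?_, ?_, ?_⟩, ?_, ?_⟩
    · have h3 := conj_E hB a hzw (-B (v ⟨j, hj⟩) w)
      have h4 : a • u ⟨j, hj⟩ = u ⟨j, hj⟩ := nl_eq_zero.1 (range_le_ker h2 ha (hu _))
      have h5 : a • w = w := nl_eq_zero.1 hwk'
      rw [h4, h5] at h3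
      nth_rewrite 1 [← h3]
      group
    · intro z hz
      rw [E_smul hB hzw, (huu z hz).1, (huu z hz).2, zero_smul, mul_zero, zero_smul, add_zero, add_zero, add_zero]
    · intro y hy
      rw [E_smul hB hzw, hy _ (Submodule.subset_span ⟨_, rfl⟩), zero_smul, mul_zero, zero_smul, add_zero, add_zero,
        add_sub_cancel_left]
      exact Submodule.smul_mem _ _ (Submodule.subset_span ⟨_, rfl⟩)
    · intro i hi
      have hik : i < k := by omega
      have h6 : (⟨i, hik⟩ : Fin k) ≠ ⟨j, hj⟩ := fun h0 => by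
        have := congrArg Fin.val h0
        simp at this
        omega
      rw [dif_pos hik, E_smul hB hzw, huv, if_neg h6, zero_smul, mul_zero, zero_smul, add_zero, add_zero]
      have h7 : B (v ⟨i, hik⟩) w = 0 := hwv ⟨i, hi⟩
      rw [h7, zero_smul, add_zero]
    · rw [dif_pos hj, E_smul hB hzw, huv, if_pos rfl, one_smul, mul_one, neg_smul, add_assoc, add_neg_cancel, add_zero]

/-- **the step for rank three and four** -/
theorem card_PP_one (hB : Symp B) (h2 : (2 : F) = 0) {a : Sp B} (ha : a * a = 1) {z₀ v : V}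
    (h0 : B z₀ (nl a z₀) = 0) (h1 : nl a z₀ ≠ 0) (hv : B v (nl a z₀) = 1) :
    Nat.card F ^ (finrank F (LinearMap.ker (nl a)) + 1) ≤ Nat.card (PP a (Submodule.span F {nl a z₀})) := by
  set z := nl a z₀ with hz
  have h3 := card_chain (PP a (Submodule.span F {z})) (fun _ => v)
    (fun _ => Nat.card F ^ (finrank F (LinearMap.ker (nl a)) + 1)) 1 ?_
  · rwa [Finset.prod_range_one] at h3
  · intro j hj
    obtain rfl : j = 0 := by omega
    set! R : Submodule F V := LinearMap.ker (nl a) ⊔ Submodule.span F {z₀} with hR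
    have hd : finrank F R = finrank F (LinearMap.ker (nl a)) + 1 := by
      have h4 := Submodule.finrank_sup_add_finrank_inf_eq (LinearMap.ker (nl a)) (Submodule.span F {z₀})
      have hz0 : z₀ ≠ 0 := by
        rintro rfl
        exact h1 (map_zero _)
      have h5 : LinearMap.ker (nl a) ⊓ Submodule.span F {z₀} = ⊥ := by
        rw [eq_bot_iff]
        rintro x ⟨hx, hx'⟩
        obtain ⟨c, rfl⟩ := Submodule.mem_span_singleton.1 hx'
        have h6 : c • z = 0 := by rw [hz, ← map_smul]; exact hx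
        rcases smul_eq_zero.1 h6 with h7 | h7
        · rw [h7, zero_smul]; exact Submodule.zero_mem _
        · exact absurd h7 h1
      rw [h5, finrank_bot, finrank_span_singleton hz0, add_zero] at h4
      exact h4
    refine ⟨(fun w : R => v + (w : V)) '' Set.univ, ?_, ?_⟩
    · rw [ncard_shift, hd]
    · rintro _ ⟨⟨w, hw⟩, -, rfl⟩
      obtain ⟨w1, hw1, w2, hw2, hw12⟩ := Submodule.mem_sup.1 hw
      obtain ⟨c, rfl⟩ := Submodule.mem_span_singleton.1 hw2
      have hw1' : nl a w1 = 0 := hw1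
      have hzz : nl a z = 0 := nl_nl h2 ha z₀
      have hzw : B z w = 0 := by
        rw [← hw12, map_add, map_smul, orth_symm hB h0, smul_zero, add_zero]
        exact ker_orth ha ⟨z₀, rfl⟩ hw1'
      have haz : a • z = z := nl_eq_zero.1 hzz
      have haw : a • w = w + c • z := by
        rw [smul_eq_add, ← hw12, map_add, hw1', map_smul, zero_add]
      refine ⟨E B z w (-B v w), ⟨?_, ?_, ?_⟩, fun i hi => absurd hi (Nat.not_lt_zero _), ?_⟩
      · have h3 := conj_E hB a hzw (-B v w)
        rw [haz, haw, E_add_v hB hzw, h2, zero_mul, add_zero] at h3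
        nth_rewrite 1 [← h3]
        group
      · intro y hy
        obtain ⟨d, rfl⟩ := Submodule.mem_span_singleton.1 hy
        rw [smul_fsmul, E_smul_v hB hzw]
      · intro y hy
        rw [E_smul hB hzw, hy _ (Submodule.mem_span_singleton_self z), zero_smul, mul_zero, zero_smul, add_zero,
          add_zero, add_sub_cancel_left]
        exact Submodule.smul_mem _ _ (Submodule.mem_span_singleton_self z)
      · show E B z w (-B v w) • v = v + w
        rw [E_smul hB hzw, hv, one_smul, mul_one, neg_smul, add_assoc, add_neg_cancel, add_zero]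

/-- an isotropic vector for `B x (a - 1) y` -/
theorem exists_iso (hB : Symp B) (h2 : (2 : F) = 0) {a : Sp B} (ha : a * a = 1)
    (hk : 2 ≤ finrank F (LinearMap.range (nl a))) : ∃ z, B z (nl a z) = 0 ∧ nl a z ≠ 0 := by
  have hpos : 0 < finrank F (LinearMap.range (nl a)) := by omega
  have hnt : Nontrivial (LinearMap.range (nl a)) := Module.finrank_pos_iff.1 hpos
  obtain ⟨⟨x', hx'⟩, hx0⟩ := exists_ne (0 : LinearMap.range (nl a))
  obtain ⟨⟨y', hy'⟩, hli⟩ := exists_linearIndependent_pair_of_one_lt_finrank (R := F) (by omega) hx0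
  obtain ⟨x, rfl⟩ := hx'
  obtain ⟨y, rfl⟩ := hy'
  rw [LinearIndependent.pair_iff] at hli
  have hli' : ∀ s t : F, s • nl a x + t • nl a y = 0 → s = 0 ∧ t = 0 := fun s t h => hli s t (Subtype.ext h)
  by_cases h3 : B y (nl a y) = 0
  · refine ⟨y, h3, fun h => ?_⟩
    have := (hli' 0 1 (by rw [h, smul_zero, zero_smul, add_zero])).2
    exact one_ne_zero this
  · have hch : ringChar F = 2 := by
      have h4 : (ringChar F) ∣ 2 := (ringChar.spec F 2).1 (by exact_mod_cast h2)
      rcases (Nat.dvd_prime Nat.prime_two).1 h4 with h5 | h5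
      · exact absurd h5 (CharP.ringChar_ne_one)
      · exact h5
    have := Fintype.ofFinite F
    obtain ⟨c, hc⟩ := FiniteField.isSquare_of_char_two hch (B x (nl a x) * (B y (nl a y))⁻¹)
    refine ⟨x + c • y, ?_, fun h => ?_⟩
    · have h4 : B x (nl a y) + B y (nl a x) = 0 := by
        rw [← nl_sym ha y x, skew hB (nl a y) x, add_neg_cancel]
      have h5 : c * c * B y (nl a y) = B x (nl a x) := by rw [← hc, inv_mul_cancel_right₀ h3]
      have h6 : B (x + c • y) (nl a (x + c • y)) =
          B x (nl a x) + c * (B x (nl a y) + B y (nl a x)) + c * c * B y (nl a y) := by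
        simp only [map_add, map_smul, LinearMap.add_apply, LinearMap.smul_apply, smul_eq_mul]
        ring
      rw [h6, h4, h5, mul_zero, add_zero, ← two_mul, h2, zero_mul]
    · rw [map_add, map_smul] at h
      have := (hli' 1 c (by rw [one_smul]; exact h)).1
      exact one_ne_zero this

end fin

theorem sum_sub_aux (A s : ℕ) (h : s ≤ A + 1) :
    2 * ∑ j ∈ Finset.range s, (A - j) = s * (2 * A + 1) - s * s := by
  induction s with
  | zero => simp
  | succ s ih =>
    rw [Finset.sum_range_succ, mul_add, ih (by omega)]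
    obtain ⟨d, rfl⟩ : ∃ d, A = s + d := ⟨A - s, by omega⟩
    have h1 : s * (2 * (s + d) + 1) = s * s + (s * s + 2 * s * d + s) := by ring
    have h2 : (s + 1) * (2 * (s + d) + 1) = (s + 1) * (s + 1) + (s * s + 2 * s * d + s + 2 * d) := by ring
    rw [h1, h2, Nat.add_sub_cancel_left, Nat.add_sub_cancel_left, Nat.add_sub_cancel_left]

theorem num_a {s d k A : ℕ} (hs : 1 ≤ s) (hk : k = 2 * s + 1 ∨ (2 ≤ s ∧ k = 2 * s + 2)) (hA : A = k + 2 * d) :
    k * (A + 1) + 2 ≤ (∑ j ∈ Finset.range s, (A - j)) * 5 := by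
  have h1 := sum_sub_aux A s (by omega)
  set S := ∑ j ∈ Finset.range s, (A - j) with hS
  suffices h : 2 * (k * (A + 1) + 2) ≤ 2 * S * 5 by omega
  rw [h1]
  rcases hk with rfl | ⟨hs2, rfl⟩
  · subst hA
    have h2 : s * (2 * (2 * s + 1 + 2 * d) + 1) = s * s + s * (3 * s + 3 + 4 * d) := by ring
    rw [h2, Nat.add_sub_cancel_left]
    obtain ⟨e, rfl⟩ : ∃ e, s = e + 1 := ⟨s - 1, by omega⟩
    linarith only [Nat.zero_le (e * d), _root_.mul_self_nonneg (↑e : ℤ), _root_.Nat.cast_nonneg (α := ℤ) (e), _root_.Nat.cast_nonneg (α := ℤ) (d)]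
  · subst hA
    have h2 : s * (2 * (2 * s + 2 + 2 * d) + 1) = s * s + s * (3 * s + 5 + 4 * d) := by ring
    rw [h2, Nat.add_sub_cancel_left]
    obtain ⟨e, rfl⟩ : ∃ e, s = e + 2 := ⟨s - 2, by omega⟩
    linarith only [Nat.zero_le (e * d), _root_.mul_self_nonneg (↑e : ℤ), _root_.Nat.cast_nonneg (α := ℤ) (e), _root_.Nat.cast_nonneg (α := ℤ) (d)]

section main

variable [Finite F] [Finite V]

/-- one step of the descent -/
theorem descent (hB : Symp B) (h2 : (2 : F) = 0) {m : ℕ} (hV : Nat.card V = Nat.card F ^ (2 * m)) {X : Subgroup (Sp B)}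
    (hX : Hyp X) {a : Sp B} (haX : a ∈ X) (ha1 : a ≠ 1) (ha : a * a = 1)
    (hk : 3 ≤ finrank F (LinearMap.range (nl a))) :
    ∃ b ∈ X, b ≠ 1 ∧ b * b = 1 ∧ finrank F (LinearMap.range (nl b)) < finrank F (LinearMap.range (nl a)) := by
  set k := finrank F (LinearMap.range (nl a)) with hkdef
  have hkm : k ≤ m := H407.IF.rank_le h2 hV ha
  have hidx := H407.IF.index_le hB h2 hV hkm (t := a) ⟨ha, rfl⟩
  have hq : 2 ≤ Nat.card F := Finite.one_lt_card
  have hV' : finrank F V = 2 * m := by
    have h3 := Module.natCard_eq_pow_finrank (K := F) (V := V)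
    rw [hV] at h3
    exact (Nat.pow_right_injective Finite.one_lt_card h3).symm
  have hker : finrank F (LinearMap.ker (nl a)) = k + 2 * (m - k) := by
    have h4 := LinearMap.finrank_range_add_finrank_ker (nl a)
    rw [hV', ← hkdef] at h4
    omega
  have hA1 : 2 * m - k + 1 = (k + 2 * (m - k)) + 1 := by (clear * - hkm; omega)
  rw [hA1] at hidx
  have hidx' : ∀ N, k * ((k + 2 * (m - k)) + 1) + 2 ≤ N * 5 →
      (centralizer ({a} : Set (Sp B))).index ≤ (Nat.card F ^ N) ^ 5 := by
    intro N hN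
    refine hidx.trans ?_
    rw [← pow_mul]
    refine le_trans ?_ (Nat.pow_le_pow_right (by omega) hN)
    rw [pow_add _ (k * _) 2, mul_comm]
    refine Nat.mul_le_mul_left _ ?_
    calc 4 = 2 ^ 2 := rfl
      _ ≤ Nat.card F ^ 2 := Nat.pow_le_pow_left hq 2
  by_cases h4 : k = 4
  · -- rank four
    obtain ⟨z₀, hz1, hz2⟩ := exists_iso hB h2 ha (by omega)
    obtain ⟨y, hy⟩ := sep0 hB hz2
    have hyv : B (-y) (nl a z₀) = 1 := by rw [map_neg, LinearMap.neg_apply, ← skew hB, hy]
    have hc := card_PP_one hB h2 ha hz1 hz2 hyv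
    obtain ⟨b, hbX, hbP, hb1, hb⟩ := step hX haX ha1 ha (P := PP a (Submodule.span F {nl a z₀}))
      (fun x hx => PP.comm hx) (fun x hx => PP.pow_four h2 hx) (by
        refine (hidx' (finrank F (LinearMap.ker (nl a)) + 1) ?_).trans (Nat.pow_le_pow_left hc 5)
        rw [hker, h4]
        omega)
    refine ⟨b, hbX, hb1, hb, ?_⟩
    have hr := PP.rank_le (B := B) (a := a) (s := 1) (u := fun _ => nl a z₀) (v := fun _ => -y) (by
      intro i j
      rw [hyv, if_pos (Subsingleton.elim i j)]) (x := b) (by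
        rw [Set.range_const]
        exact hbP)
    omega
  · -- the other ranks
    set! s := (k - 1) / 2 with hs
    have hks : k = 2 * s + 1 ∨ (2 ≤ s ∧ k = 2 * s + 2) := by (clear * - hk h4; omega)
    have hsk : s ≤ k := by (clear * -; omega)
    let bs := Module.finBasis F (LinearMap.range (nl a))
    have hbs : finrank F (LinearMap.range (nl a)) = k := rfl
    set! u₀ : Fin k → V := fun i => (bs i : V) with hu₀
    have hli : LinearIndependent F u₀ := bs.linearIndependent.map' (Submodule.subtype _) (Submodule.ker_subtype _)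
    set! u : Fin s → V := fun i => u₀ (Fin.castLE hsk i) with hu
    have hliu : LinearIndependent F u := hli.comp _ (Fin.castLE_injective hsk)
    obtain ⟨v, hv⟩ := exists_dual_fam hB hliu
    have hur : ∀ i, u i ∈ LinearMap.range (nl a) := fun i => (bs (Fin.castLE hsk i)).2
    have hc := card_PP_ge hB h2 ha hur hv
    obtain ⟨b, hbX, hbP, hb1, hb⟩ := step hX haX ha1 ha (P := PP a (Submodule.span F (Set.range u)))
      (fun x hx => PP.comm hx) (fun x hx => PP.pow_four h2 hx) (by
        refine (hidx' _ ?_).trans (Nat.pow_le_pow_left hc 5)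
        rw [hker]
        exact num_a (by omega) hks rfl)
    refine ⟨b, hbX, hb1, hb, ?_⟩
    have hr := PP.rank_le hv hbP
    (clear * - hks hr; omega)

/-- **From an involution to an involution of rank at most two.** -/
theorem exists_rank_le_two (hB : Symp B) (h2 : (2 : F) = 0) {m : ℕ} (hV : Nat.card V = Nat.card F ^ (2 * m))
    {X : Subgroup (Sp B)} (hX : Hyp X) (hi : ∃ t ∈ X, t ≠ 1 ∧ t * t = 1) :
    ∃ t ∈ X, t ≠ 1 ∧ t * t = 1 ∧ finrank F (LinearMap.range (nl t)) ≤ 2 := by
  obtain ⟨t, htX, ht1, ht⟩ := hi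
  induction hn : finrank F (LinearMap.range (nl t)) using Nat.strong_induction_on generalizing t with
  | _ n ih =>
    by_cases h : n ≤ 2
    · exact ⟨t, htX, ht1, ht, by rw [hn]; exact h⟩
    · obtain ⟨b, hbX, hb1, hb, hlt⟩ := descent hB h2 hV hX htX ht1 ht (by omega)
      exact ih _ (by omega) b hbX hb1 hb rfl

end main

end Cfsg.Agent.H232.IFS
end

-- part: H333/IF/RankTwo
section
/-!
# S5719, symplectic groups in characteristic 2: involutions of rank two (helper333)

`false_of_E` : if `X` (with the inequalities `Hyp X`) contains some `E w u c ≠ 1`, then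
`X` contains a transvection (`|V| = q ^ (2 m)`, `m ≥ 3`, `q` even).

Proof. Let `X` have no transvection, `s = E w u c₀ ∈ X` of rank two. `|s^G| q² < |V|²`, hence the fixity of `s` is
less than `q ^ (m - 1)`. So the subgroups `R_w`, `R_u` of `U^⊥` of the `y` with `E w y c ∈ X`, `E u y c ∈ X` have
more than `q ^ m` elements, and `[E w y c, E u y' c'] = E u (B y' y w) 0`. By duality over `F_2` all
`E w (l u) 0 ∈ X`, so `c₀ = 0`. This holds for all elements of rank two in `X`; `E w y 0 * E w y' 0 = E w (y + y') (B y' y)`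
shows that `R_w` is totally isotropic: contradiction.
-/

set_option autoImplicit false
set_option linter.unusedSectionVars false

namespace Cfsg.Agent.H333.IF

open Module Subgroup Cfsg.Agent.H74.Psp Cfsg.Agent.H407.IF

variable {F V : Type*} [Field F] [AddCommGroup V] [Module F V] {B : V →ₗ[F] V →ₗ[F] F}

/-! ### the class of an element of rank two -/

section Class

variable [Finite F] [Finite V]

theorem card_pairs (hB : Symp B) :
    Nat.card {p : V × V // p.1 ≠ 0 ∧ B p.1 p.2 = 0} * Nat.card F < Nat.card V * Nat.card V := by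
  classical
  have : Fintype {x : V // x ≠ 0} := Fintype.ofFinite _
  let e : {p : V × V // p.1 ≠ 0 ∧ B p.1 p.2 = 0} ≃ Σ x : {x : V // x ≠ 0}, {y : V // B x.1 y = 0} :=
    { toFun := fun p => ⟨⟨p.1.1, p.2.1⟩, ⟨p.1.2, p.2.2⟩⟩
      invFun := fun s => ⟨(s.1.1, s.2.1), s.1.2, s.2.2⟩
      left_inv := fun _ => rfl
      right_inv := fun _ => rfl }
  rw [Nat.card_congr e, Nat.card_sigma, Finset.sum_mul, Finset.sum_congr rfl fun x _ => card_perp hB x.2,
    Finset.sum_const, Finset.card_univ, ← Nat.card_eq_fintype_card, smul_eq_mul]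
  refine Nat.mul_lt_mul_of_pos_right ?_ Nat.card_pos
  exact Finite.card_subtype_lt (x := (0 : V)) (by simp)

theorem index_lt (hB : Symp B) (h2 : (2 : F) = 0) {w u : V} (hw : w ≠ 0) (hwu : B w u = 0) (c : F) :
    (centralizer ({E B w u c} : Set (Sp B))).index * Nat.card F ^ 2 < Nat.card V * Nat.card V := by
  refine lt_of_le_of_lt ?_ (card_pairs hB)
  rw [pow_two, ← mul_assoc]
  refine Nat.mul_le_mul_right _ ?_
  rw [Subgroup.index, ← Nat.card_prod]
  have hx : ∀ (g : Sp B) (a : F), E B (g • w) (g • u + a • g • w) c = g * E B w u c * g⁻¹ := by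
    intro g a
    rw [conj_E hB g hwu, E_add_v hB (by rw [B_smul_smul, hwu]), h2, zero_mul, add_zero]
  let f : (Sp B ⧸ centralizer ({E B w u c} : Set (Sp B))) × F → {p : V × V // p.1 ≠ 0 ∧ B p.1 p.2 = 0} := fun k =>
    ⟨(k.1.out • w, k.1.out • u + k.2 • k.1.out • w), by
      refine ⟨?_, ?_⟩
      · show k.1.out • w ≠ 0
        intro h
        apply hw
        rw [← inv_smul_smul k.1.out w, h, smul_zero]
      · show B (k.1.out • w) (k.1.out • u + k.2 • k.1.out • w) = 0
        rw [map_add, LinearMap.map_smul, hB.alt, smul_zero, add_zero, B_smul_smul, hwu]⟩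
  refine Nat.card_le_card_of_injective f ?_
  rintro ⟨k, a⟩ ⟨k', a'⟩ h
  have h1 : k.out • w = k'.out • w := congrArg (fun p : {p : V × V // p.1 ≠ 0 ∧ B p.1 p.2 = 0} => p.1.1) h
  have h3 : k.out • u + a • k.out • w = k'.out • u + a' • k'.out • w :=
    congrArg (fun p : {p : V × V // p.1 ≠ 0 ∧ B p.1 p.2 = 0} => p.1.2) h
  have h4 : k.out * E B w u c * (k.out)⁻¹ = k'.out * E B w u c * (k'.out)⁻¹ := by
    rw [← hx k.out a, ← hx k'.out a', h3, h1]
  have h5 : k = k' := by
    rw [← k.out_eq, ← k'.out_eq]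
    change (QuotientGroup.mk k.out : Sp B ⧸ centralizer ({E B w u c} : Set (Sp B))) = QuotientGroup.mk k'.out
    rw [QuotientGroup.eq, mem_centralizer_iff]
    intro s hs
    rw [Set.mem_singleton_iff.1 hs]
    calc E B w u c * ((k.out)⁻¹ * k'.out) = (k.out)⁻¹ * (k.out * E B w u c * (k.out)⁻¹) * k'.out := by group
      _ = (k.out)⁻¹ * (k'.out * E B w u c * (k'.out)⁻¹) * k'.out := by rw [h4]
      _ = (k.out)⁻¹ * k'.out * E B w u c := by group
  subst h5
  have h6 : (a - a') • k.out • w = 0 := by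
    rw [sub_smul, sub_eq_zero]
    exact add_left_cancel h3
  rcases smul_eq_zero.1 h6 with h7 | h7
  · rw [sub_eq_zero.1 h7]
  · exfalso
    apply hw
    rw [← inv_smul_smul k.out w, h7, smul_zero]

end Class

/-! ### the fixity inequality for homomorphisms -/

theorem hom_bound {X : Subgroup (Sp B)} (hX : Hyp X) {s : Sp B} (hs : s ∈ X) (hs1 : s ≠ 1) (hss : s * s = 1)
    {M : Type*} [Group M] (φ : M →* Sp B) (hφ : ∀ m, φ m * s = s * φ m) :
    ∃ r : ℕ, Nat.card M = Nat.card (X.comap φ) * r ∧ r ^ 5 < (centralizer ({s} : Set (Sp B))).index := by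
  refine ⟨(X.comap φ).index, (Subgroup.card_mul_index _).symm, ?_⟩
  rw [Subgroup.index_comap]
  refine hX.e2 s hs hs1 hss φ.range ?_
  rintro _ ⟨m, rfl⟩
  exact hφ m

/-- `{(y, c) : B w y = 0, B u y = 0}`, a subgroup of the Heisenberg group -/
theorem bound_aux (hB : Symp B) {X : Subgroup (Sp B)} (hX : Hyp X) {s : Sp B} (hs : s ∈ X) (hs1 : s ≠ 1)
    (hss : s * s = 1) (w u : V) (hc : ∀ y c, B w y = 0 → B u y = 0 → E B w y c * s = s * E B w y c) :
    ∃ r : ℕ, Nat.card {a : Heis B w // B u a.w = 0} =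
      Nat.card {a : Heis B w // B u a.w = 0 ∧ E B w a.w a.c ∈ X} * r ∧
      r ^ 5 < (centralizer ({s} : Set (Sp B))).index := by
  let _ := heisGroup hB w
  let M : Subgroup (Heis B w) :=
    { carrier := {a | B u a.w = 0}
      mul_mem' := by
        intro a b ha hb
        change B u (a.w + b.w) = 0
        rw [map_add, ha, hb, add_zero]
      one_mem' := map_zero _
      inv_mem' := by
        intro a ha
        change B u (-a.w) = 0
        rw [map_neg, ha, neg_zero] }
  let φ : M →* Sp B := (heisHom hB w).comp M.subtype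
  obtain ⟨r, h1, h3⟩ := hom_bound hX hs hs1 hss φ (fun m => hc m.1.w m.1.c m.1.h m.2)
  refine ⟨r, ?_, h3⟩
  have h4 : Nat.card M = Nat.card {a : Heis B w // B u a.w = 0} := rfl
  have h5 : Nat.card (X.comap φ) = Nat.card {a : Heis B w // B u a.w = 0 ∧ E B w a.w a.c ∈ X} :=
    Nat.card_congr
      { toFun := fun m => ⟨m.1.1, m.1.2, m.2⟩
        invFun := fun a => ⟨⟨a.1, a.2.1⟩, a.2.2⟩
        left_inv := fun _ => rfl
        right_inv := fun _ => rfl }
  rw [← h4, h1, h5]

/-! ### duality over the prime field -/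

section Dual

variable [Finite F] [Finite V]

theorem pair_le (hB : Symp B) (h2 : (2 : F) = 0) {ψ : F →+ ZMod 2} (hψ : ∀ c : F, (∀ x, ψ (c * x) = 0) → c = 0)
    (R S : AddSubgroup V) (h : ∀ x ∈ R, ∀ y ∈ S, ψ (B x y) = 0) : Nat.card R * Nat.card S ≤ Nat.card V := by
  have : Fact (Nat.Prime 2) := ⟨Nat.prime_two⟩
  have hV : ∀ x : V, 2 • x = 0 := by
    intro x
    rw [two_nsmul]
    exact addself h2 x
  let β : V →+ V →+ ZMod 2 :=
    AddMonoidHom.mk' (fun w => ψ.comp (B.flip w).toAddMonoidHom) (by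
      intro a b
      ext x
      simp)
  have hβ : ∀ w x, β w x = ψ (B x w) := fun _ _ => rfl
  have hnd : ∀ w, (∀ x, β w x = 0) → w = 0 := by
    intro w hw
    refine hB.nd w fun y => ?_
    rw [skew hB, neg_eq_zero]
    apply hψ
    intro a
    have := hw (a • y)
    rwa [hβ, LinearMap.map_smul, LinearMap.smul_apply, smul_eq_mul, mul_comm] at this
  have h1 := (H74.dual_card hV hV β hnd S).1
  rw [← h1]
  refine Nat.mul_le_mul_right _ ?_
  have h3 : (R : Set V) ⊆ {x : V | ∀ s ∈ S, β s x = 0} := fun x hx s hs => h x hx s hs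
  exact Set.ncard_le_ncard h3 (Set.toFinite _)

theorem exists_psi (h2 : (2 : F) = 0) (L : AddSubgroup F) (hL : L ≠ ⊤) :
    ∃ ψ : F →+ ZMod 2, (∀ l ∈ L, ψ l = 0) ∧ ∀ c : F, (∀ x, ψ (c * x) = 0) → c = 0 := by
  have : Fact (Nat.Prime 2) := ⟨Nat.prime_two⟩
  have hF : ∀ x : F, 2 • x = 0 := by
    intro x
    rw [two_nsmul]
    exact addself h2 x
  let _ : Module (ZMod 2) F := AddCommGroup.zmodModule hF
  have h1 : AddSubgroup.toZModSubmodule 2 L < ⊤ := by
    rw [lt_top_iff_ne_top]
    intro h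
    apply hL
    rw [AddSubgroup.eq_top_iff']
    intro x
    have : x ∈ AddSubgroup.toZModSubmodule 2 L := by rw [h]; trivial
    exact this
  obtain ⟨f, hf, hker⟩ := Submodule.exists_le_ker_of_lt_top _ h1
  refine ⟨f.toAddMonoidHom, fun l hl => hker hl, fun c hc => ?_⟩
  by_contra hc0
  apply hf
  ext x
  have h3 := hc (c⁻¹ * x)
  rw [mul_inv_cancel_left₀ hc0] at h3
  exact h3

end Dual

/-! ### the main argument -/

section Main

variable [Finite F] [Finite V]

/-- `{y ∈ ⟨w, u⟩^⊥ : E w y c ∈ X for some c}` -/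
def RW (hB : Symp B) (X : Subgroup (Sp B)) (w u : V) : AddSubgroup V :=
  Rs hB X w ⊓ (LinearMap.ker (B u)).toAddSubgroup

theorem mem_RW {hB : Symp B} {X : Subgroup (Sp B)} {w u y : V} :
    y ∈ RW hB X w u ↔ (B w y = 0 ∧ ∃ c, E B w y c ∈ X) ∧ B u y = 0 := Iff.rfl

theorem E_sq (hB : Symp B) (h2 : (2 : F) = 0) {w u : V} (hwu : B w u = 0) (c : F) :
    E B w u c * E B w u c = 1 := by
  rw [E_mul hB hwu hwu, addself h2, hB.alt, add_zero, ← two_mul, h2, zero_mul, E_one hB]

/-- without transvections, `|⟨w,u⟩^⊥| q` is at most `|R| r` -/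
theorem card_le (hB : Symp B) (h2 : (2 : F) = 0) {m : ℕ} (hV : Nat.card V = Nat.card F ^ (2 * m)) (hm : 3 ≤ m)
    {X : Subgroup (Sp B)} (hX : Hyp X) (no_tv : ∀ v c, t B v c ∈ X → v = 0 ∨ c = 0) {w₁ u₁ : V} {c₁ : F}
    (hw₁ : w₁ ≠ 0) (hwu₁ : B w₁ u₁ = 0) (hs1 : E B w₁ u₁ c₁ ≠ 1) (hs : E B w₁ u₁ c₁ ∈ X) {w u : V}
    (hi : LinearIndependent F ![w, u])
    (hc : ∀ y c, B w y = 0 → B u y = 0 → E B w y c * E B w₁ u₁ c₁ = E B w₁ u₁ c₁ * E B w y c) :
    Nat.card F ^ m < Nat.card (RW hB X w u) := by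
  have hw : w ≠ 0 := hi.ne_zero 0
  obtain ⟨r, h1, h3⟩ := bound_aux hB hX hs hs1 (E_sq hB h2 hwu₁ c₁) w u hc
  have h4 := index_lt hB h2 hw₁ hwu₁ c₁
  set q := Nat.card F with hq
  have hq2 : 2 ≤ q := Finite.one_lt_card
  -- the fixity
  have hr : r < q ^ (m - 1) := by
    by_contra hcon
    push Not at hcon
    have h5 : q ^ (5 * (m - 1)) ≤ r ^ 5 := by
      rw [mul_comm, pow_mul]
      exact Nat.pow_le_pow_left hcon 5
    have h6 : q ^ (5 * (m - 1)) * q ^ 2 < q ^ (4 * m) := by
      calc q ^ (5 * (m - 1)) * q ^ 2 ≤ r ^ 5 * q ^ 2 := Nat.mul_le_mul_right _ h5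
        _ ≤ (centralizer ({E B w₁ u₁ c₁} : Set (Sp B))).index * q ^ 2 := Nat.mul_le_mul_right _ h3.le
        _ < Nat.card V * Nat.card V := h4
        _ = q ^ (4 * m) := by rw [hV, ← pow_add]; congr 1; ring
    rw [← pow_add] at h6
    have h7 := (Nat.pow_lt_pow_iff_right (by omega : 1 < q)).1 h6
    omega
  -- the number of pairs
  have h5 : Nat.card {a : Heis B w // B u a.w = 0} * q = Nat.card V := by
    have h6 := card_orth hB hi
    have e : {a : Heis B w // B u a.w = 0} ≃ {x : V // ∀ i, B ((![w, u] : Fin 2 → V) i) x = 0} × F :=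
      { toFun := fun a => (⟨a.1.w, by
          intro i
          fin_cases i
          · exact a.1.h
          · exact a.2⟩, a.1.c)
        invFun := fun p => ⟨⟨p.1.1, p.2, p.1.2 0⟩, p.1.2 1⟩
        left_inv := fun _ => rfl
        right_inv := fun _ => rfl }
    rw [Nat.card_congr e, Nat.card_prod, ← hq, mul_assoc, ← pow_two]
    exact h6
  -- the elements in `X`
  have h6 : Nat.card {a : Heis B w // B u a.w = 0 ∧ E B w a.w a.c ∈ X} ≤ Nat.card (RW hB X w u) := by
    refine Nat.card_le_card_of_injective (fun a => (⟨a.1.w, mem_RW.2 ⟨⟨a.1.h, a.1.c, a.2.2⟩, a.2.1⟩⟩ : RW hB X w u)) ?_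
    intro a b hab
    have h7 : a.1.w = b.1.w := congrArg Subtype.val hab
    apply Subtype.ext
    refine Heis.ext h7 ?_
    have h8 := (E_diff hB (K := X) b.1.h (c' := a.1.c) b.2.2).1 (by rw [← h7]; exact a.2.2)
    rcases no_tv w _ h8 with h9 | h9
    · exact absurd h9 hw
    · exact sub_eq_zero.1 h9
  by_contra hcon
  push Not at hcon
  have h7 : Nat.card V < q ^ (2 * m) := by
    have hRpos : 0 < Nat.card (RW hB X w u) := Nat.card_pos
    calc Nat.card V = Nat.card {a : Heis B w // B u a.w = 0 ∧ E B w a.w a.c ∈ X} * r * q := by rw [← h5, h1]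
      _ ≤ Nat.card (RW hB X w u) * r * q := Nat.mul_le_mul_right _ (Nat.mul_le_mul_right _ h6)
      _ < Nat.card (RW hB X w u) * q ^ (m - 1) * q :=
        Nat.mul_lt_mul_of_pos_right (Nat.mul_lt_mul_of_pos_left hr hRpos) (by omega)
      _ ≤ q ^ m * q ^ (m - 1) * q := Nat.mul_le_mul_right _ (Nat.mul_le_mul_right _ hcon)
      _ = q ^ (2 * m) := by
        rw [← pow_add, ← pow_succ]
        congr 1
        omega
  rw [hV] at h7
  exact lt_irrefl _ h7

theorem E_ne_one (hB : Symp B) {w u : V} (hw : w ≠ 0) (hwu : B w u = 0) (hu : ∀ a : F, u ≠ a • w) (c : F) :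
    E B w u c ≠ 1 := by
  intro h
  obtain ⟨y, hy⟩ := sep0 hB hw
  have h1 := congrArg (fun g : Sp B => g • y) h
  simp only [one_smul] at h1
  rw [E_smul hB hwu] at h1
  have h3 : B y w = -1 := by rw [skew hB, hy]
  rw [h3] at h1
  apply hu (B y u - c)
  have h4 : (-1 : F) • u + B y u • w + (c * -1) • w = 0 := by
    have h5 : y + ((-1 : F) • u + B y u • w + (c * -1) • w) = y + 0 := by
      rw [add_zero]
      calc y + ((-1 : F) • u + B y u • w + (c * -1) • w) = y + (-1 : F) • u + B y u • w + (c * -1) • w := by abel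
        _ = y := h1
    exact add_left_cancel h5
  rw [neg_smul, one_smul, mul_neg, mul_one, neg_smul] at h4
  rw [sub_smul]
  have h6 : u = B y u • w - c • w - (-u + B y u • w + -(c • w)) := by abel
  rw [h4, sub_zero] at h6
  exact h6

theorem indep {w u : V} (hw : w ≠ 0) (hu : ∀ a : F, u ≠ a • w) : LinearIndependent F ![w, u] := by
  rw [LinearIndependent.pair_iff' hw]
  intro a ha
  exact hu a ha.symm

theorem indep' {w u : V} (hw : w ≠ 0) (hu : ∀ a : F, u ≠ a • w) : LinearIndependent F ![u, w] :=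
  LinearIndependent.pair_symm_iff.1 (indep hw hu)

/-- **Step B.** Elements of rank two in `X` have `c = 0`. -/
theorem c_zero (hB : Symp B) (h2 : (2 : F) = 0) {m : ℕ} (hV : Nat.card V = Nat.card F ^ (2 * m)) (hm : 3 ≤ m)
    {X : Subgroup (Sp B)} (hX : Hyp X) (no_tv : ∀ v c, t B v c ∈ X → v = 0 ∨ c = 0) {w u : V} {c : F}
    (hw : w ≠ 0) (hwu : B w u = 0) (hu : ∀ a : F, u ≠ a • w) (hs : E B w u c ∈ X) : c = 0 := by
  have huw : B u w = 0 := orth_symm hB hwu
  have hs1 := E_ne_one hB hw hwu hu c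
  have hR1 : Nat.card F ^ m < Nat.card (RW hB X w u) := by
    refine card_le hB h2 hV hm hX no_tv hw hwu hs1 hs (indep hw hu) ?_
    intro y d hy hy'
    rw [E_mul hB hy hwu, E_mul hB hwu hy, hy', orth_symm hB hy', add_comm y u, add_comm d c]
  have hR2 : Nat.card F ^ m < Nat.card (RW hB X u w) := by
    refine card_le hB h2 hV hm hX no_tv hw hwu hs1 hs (indep' hw hu) ?_
    intro y d hy hy'
    have h3 : E B u y d • w = w := by
      rw [E_smul hB hy, hwu, hy', zero_smul, zero_smul, mul_zero, zero_smul, add_zero, add_zero, add_zero]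
    rw [← mul_inv_eq_iff_eq_mul, conj_E hB _ hwu, E_smul_v hB hy, h3]
  -- the scalars
  let L : AddSubgroup F :=
    { carrier := {l | E B u (l • w) 0 ∈ X}
      add_mem' := by
        intro a b ha hb
        change E B u ((a + b) • w) 0 ∈ X
        have h3 := X.mul_mem ha hb
        rw [E_mul hB (by rw [LinearMap.map_smul, huw, smul_zero]) (by rw [LinearMap.map_smul, huw, smul_zero]),
          LinearMap.map_smul, LinearMap.map_smul, LinearMap.smul_apply, hB.alt, smul_zero, smul_zero, add_zero,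
          add_zero, ← add_smul] at h3
        exact h3
      zero_mem' := by
        change E B u ((0 : F) • w) 0 ∈ X
        rw [zero_smul, E_one hB]
        exact X.one_mem
      neg_mem' := by
        intro a ha
        change E B u ((-a) • w) 0 ∈ X
        have h3 := X.inv_mem ha
        rw [E_inv hB (by rw [LinearMap.map_smul, huw, smul_zero]), neg_zero, ← neg_smul] at h3
        exact h3 }
  have hL : L = ⊤ := by
    by_contra hcon
    obtain ⟨ψ, hψL, hψ⟩ := exists_psi h2 L hcon
    have h3 := pair_le hB h2 hψ (RW hB X u w) (RW hB X w u) (by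
      rintro x ⟨⟨hux, d, hd⟩, hwx⟩ y ⟨⟨hwy, e, he⟩, huy⟩
      apply hψL
      change E B u (B x y • w) 0 ∈ X
      have hwx' : B w x = 0 := hwx
      have huy' : B u y = 0 := huy
      have hxw : B x w = 0 := orth_symm hB hwx'
      have h4 : E B w y e * E B u x d * (E B w y e)⁻¹ = E B u (B x y • w) 0 * E B u x d := by
        rw [conj_E hB _ hux, E_smul hB hwy, E_smul hB hwy, huw, huy', hxw,
          E_mul hB (by rw [LinearMap.map_smul, huw, smul_zero]) hux, LinearMap.map_smul, hxw, smul_zero]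
        simp only [zero_smul, add_zero, mul_zero, zero_add]
        rw [add_comm x]
      have h5 : E B u (B x y • w) 0 = E B w y e * E B u x d * (E B w y e)⁻¹ * (E B u x d)⁻¹ := by
        rw [h4, mul_inv_cancel_right]
      rw [h5]
      exact X.mul_mem (X.mul_mem (X.mul_mem he hd) (X.inv_mem he)) (X.inv_mem hd))
    rw [hV] at h3
    have h4 : Nat.card F ^ m * Nat.card F ^ m < Nat.card (RW hB X u w) * Nat.card (RW hB X w u) :=
      Nat.mul_lt_mul'' hR2 hR1
    rw [← pow_add, ← two_mul] at h4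
    omega
  have h1 : (1 : F) ∈ L := by rw [hL]; trivial
  have h3 : E B u w 0 ∈ X := by
    have h4 : E B u ((1 : F) • w) 0 ∈ X := h1
    rwa [one_smul] at h4
  rw [E_comm0 hB huw] at h3
  have h4 : t B w c ∈ X := by
    have h5 := X.mul_mem hs h3
    rw [E_mul hB hwu hwu, addself h2, hB.alt, add_zero, add_zero] at h5
    exact h5
  rcases no_tv w c h4 with h5 | h5
  · exact absurd h5 hw
  · exact h5

/-- **An element `E w u c ≠ 1` of `X` gives a transvection in `X`.** -/
theorem false_of_E (hB : Symp B) (h2 : (2 : F) = 0) {m : ℕ} (hV : Nat.card V = Nat.card F ^ (2 * m)) (hm : 3 ≤ m)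
    {X : Subgroup (Sp B)} (hX : Hyp X) (no_tv' : ¬ ∃ v c, v ≠ 0 ∧ c ≠ 0 ∧ t B v c ∈ X) {w u : V} {c : F}
    (hwu : B w u = 0) (h1 : E B w u c ≠ 1) (hx : E B w u c ∈ X) : False := by
  have no_tv : ∀ v c, t B v c ∈ X → v = 0 ∨ c = 0 := by
    intro v c h
    by_contra hcon
    push Not at hcon
    exact no_tv' ⟨v, c, hcon.1, hcon.2, h⟩
  have ht0 : ∀ c : F, t B (0 : V) c = 1 := by
    intro c
    apply Sp.ext'
    intro x
    rw [t_smul hB, smul_zero, add_zero, one_smul]
  by_cases hw : w = 0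
  · subst hw
    apply h1
    apply Sp.ext'
    intro x
    rw [E_smul hB hwu]
    simp
  by_cases hu : ∀ a : F, u ≠ a • w
  · -- rank two
    have hR1 : Nat.card F ^ m < Nat.card (RW hB X w u) := by
      refine card_le hB h2 hV hm hX no_tv hw hwu h1 hx (indep hw hu) ?_
      intro y d hy hy'
      rw [E_mul hB hy hwu, E_mul hB hwu hy, hy', orth_symm hB hy', add_comm y u, add_comm d c]
    have hc0 : ∀ (y : V) (e : F), B w y = 0 → E B w y e ∈ X → e = 0 := by
      intro y e hy he
      by_cases hyw : ∀ a : F, y ≠ a • w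
      · exact c_zero hB h2 hV hm hX no_tv hw hy hyw he
      · push Not at hyw
        obtain ⟨a, rfl⟩ := hyw
        have h3 := E_add_v hB (map_zero (B w)) a e
        rw [zero_add, h2, zero_mul, add_zero] at h3
        rw [h3] at he
        rcases no_tv w e he with h4 | h4
        · exact absurd h4 hw
        · exact h4
    obtain ⟨ψ, -, hψ⟩ := exists_psi h2 (⊥ : AddSubgroup F) (by
      intro h
      have : (1 : F) ∈ (⊥ : AddSubgroup F) := by rw [h]; trivial
      exact one_ne_zero (AddSubgroup.mem_bot.1 this))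
    have h3 := pair_le hB h2 hψ (RW hB X w u) (RW hB X w u) (by
      rintro x ⟨⟨hwx, d, hd⟩, -⟩ y ⟨⟨hwy, e, he⟩, -⟩
      have h4 := X.mul_mem he hd
      rw [E_mul hB hwy hwx] at h4
      have h5 := hc0 _ _ (by rw [map_add, hwy, hwx, add_zero]) h4
      rw [hc0 x d hwx hd, hc0 y e hwy he, zero_add, zero_add] at h5
      rw [h5, map_zero])
    rw [hV] at h3
    have h4 : Nat.card F ^ m * Nat.card F ^ m < Nat.card (RW hB X w u) * Nat.card (RW hB X w u) :=
      Nat.mul_lt_mul'' hR1 hR1
    rw [← pow_add, ← two_mul] at h4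
    omega
  · push Not at hu
    obtain ⟨a, rfl⟩ := hu
    have h3 := E_add_v hB (map_zero (B w)) a c
    rw [zero_add, h2, zero_mul, add_zero] at h3
    rw [h3] at hx h1
    rcases no_tv w c hx with h4 | h4
    · exact hw h4
    · rw [h4] at h1
      exact h1 (E_one hB w)

end Main

end Cfsg.Agent.H333.IF
end

-- part: H407/IF/Fin
section
/-!
# S5719, the cell `CellsPSp.even`: `PSp_2m(q)`, `q` even, `m ≥ 3` (helper407; pieces of helper232 and helper333)

Step 1 (helper232): an involution of `X` gives one of rank at most 2; step 2 (helper333): a Siegel element of rank 2 gives a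
transvection; step 3 (`tv_all`): a transvection gives all transvections.
-/

set_option autoImplicit false

namespace Cfsg.Agent.H407.IF

open Module Subgroup Cfsg Cfsg.Agent.H74.Psp Cfsg.Agent.H209.Fxy ClassicalGeometry.SympBasic

/-- an involution of rank at most 2 in `X` gives a transvection in `X` -/
theorem exists_tv {F V : Type*} [Field F] [Finite F] [AddCommGroup V] [Module F V] [Finite V] {B : V →ₗ[F] V →ₗ[F] F}
    (hB : Symp B) (h2 : (2 : F) = 0) {m : ℕ} (hV : Nat.card V = Nat.card F ^ (2 * m)) (hm : 3 ≤ m)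
    {X : Subgroup (Sp B)} (hX : Hyp X)
    (ht : ∃ t ∈ X, t ≠ 1 ∧ t * t = 1 ∧ finrank F (LinearMap.range (nl t)) ≤ 2) :
    ∃ (v : V) (c : F), v ≠ 0 ∧ c ≠ 0 ∧ t B v c ∈ X := by
  obtain ⟨t0, ht0, ht1, htt, hrk⟩ := ht
  by_contra hcon
  rcases exists_E h2 hB htt ht1 hrk with ⟨v, c, hv, hc, rfl⟩ | ⟨w, u, c, hwu, rfl⟩
  · exact hcon ⟨v, c, hv, hc, ht0⟩
  · exact Cfsg.Agent.H333.IF.false_of_E hB h2 hV hm hX hcon hwu ht1 ht0

/-- **`CellsPSp.even`** -/
theorem killE_psp_even (F : Type) [Field F] [Fintype F] (m : ℕ) (hev : Even (Fintype.card F)) (hm : 3 ≤ m)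
    (hs : IsSimpleGroup (PSp m F)) : KillE (PSp m F) := by
  have h2 : (2 : F) = 0 := by
    have h1 : ringChar F = 2 := FiniteField.even_card_iff_char_two.2 (Nat.even_iff.1 hev)
    have h3 := (ringChar.spec F 2).2 (by rw [h1])
    exact_mod_cast h3
  have hB := symp_sympBilin (F := F) m
  have hV := card_model (F := F) m
  refine killE_of m hev hm hs (fun X hX hi => ?_) (fun X hX ht => exists_tv hB h2 hV hm hX ht)
  exact Cfsg.Agent.H232.IFS.exists_rank_le_two hB h2 hV hX hi

end Cfsg.Agent.H407.IF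
end

private theorem dce_41718d27602c : _root_.True := by
  try have : _root_.True := by simp only [_root_.Cfsg.Agent.H407.IF.gl.eq_1]
  try have : _root_.True := by simp only [_root_.Cfsg.Agent.H333.IF.RW.congr_simp]
  try have : _root_.True := by simp only [_root_.Cfsg.Agent.H407.IF.glue.congr_simp]
  exact _root_.True.intro
end

-- part: H989/Fx/Cls
section
prune_inst 0xf13065007d22100000000510020000257c00040000000c0024210d4601498020890228400e000501582280000005002002100010400000000a200000000405010000160211400080000000000004000000000000000000000000000000000000200000000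
set_option linter.all false
open scoped Cfsg.Agent.FastGrp

/-!
# S5719, orthogonal groups, `q` odd: exact class sizes of involutions of `E Q` (helper989)

* `cls_card` : `|t^E| |O(V_-)| |O(V_+)| = |O(V)|`;
* `exists_ty_V` : the types of `V_-`, `V_+`;
* `cls_le` : `|t^E| ≤ q^(k (n - k))`;
* `fund_six`, `fund_seven`, `fund_eight`, `fund_nine`, `fund_ten`, `eight_ten` : numbers.
-/

set_option autoImplicit false
set_option maxHeartbeats 400000
set_option linter.unusedSimpArgs false
set_option linter.unusedVariables false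
set_option linter.unusedSectionVars false

namespace Cfsg.Agent.H989.Fx

open QuadraticMap Module Cfsg.Agent.LieClassical Cfsg.Agent.LieClassical.OrthCore Cfsg.Agent.LieClassical.OrthTrans
open Cfsg.Agent.H160.QSpin Cfsg.Agent.H160.QDisc
open Cfsg.Agent.H325.IF (Vm Vp mem_Vm mem_Vp isCompl polar_Vm_Vp hp dc_hp nondeg_hp isConj_of_finrank dc_Vm dc_Vp
  even_Vm)
open Cfsg.Agent.H989.Gs.Gen

universe u v

variable {F : Type u} {V : Type v} [Field F] [AddCommGroup V] [Module F V] {Q : QuadraticForm F V}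

/-! ### Discriminants and types -/

section disc

variable [Fintype F] [DecidableEq F] [FiniteDimensional F V]

theorem dc_step {e f : V} (h : Hyp Q e f) : dc Q = dc (rU Q (Dp Q e f)) * quadraticChar F (-1) := by
  have h1 : IsIso ((rU Q (Dp Q e f)).prod (hp F)) Q (dec h) := by
    intro x
    exact polar_dec h _ _ x.1.2
  rw [dc_iso h1, dc_prod, dc_hp]

theorem Ty.disc_eq (h2 : (2 : F) ≠ 0) (m : ℕ) : ∀ {V : Type v} [AddCommGroup V] [Module F V]
    [FiniteDimensional F V] {Q : QuadraticForm F V} {ε : ℤ}, Ty Q (2 * m) ε →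
    dc Q = quadraticChar F (-1) ^ m * ε := by
  have hq := one_lt_q F
  induction m with
  | zero =>
    intro V _ _ _ Q ε hT
    have hε : ε = 1 := by
      have h3 := hT.cnt
      have hsub : Subsingleton V := Module.finrank_zero_iff.1 hT.dim
      rw [zn_of_aniso (Q := Q) (fun v _ => Subsingleton.elim v 0), Nat.cast_one, show 2 * 0 / 2 = 0 from rfl,
        show 2 * 0 = 0 from rfl, pow_zero] at h3
      have h4 : (ε - 1) * ((Nat.card F : ℤ) - 1) = 0 := by linear_combination -h3
      rcases mul_eq_zero.1 h4 with h5 | h5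
      · omega
      · omega
    rw [hε, pow_zero, one_mul]
    unfold Cfsg.Agent.H160.QDisc.dc
    rw [gdet_of_zero Q hT.dim, map_one]
  | succ m ih =>
    intro V _ _ _ Q ε hT
    by_cases hp1 : 1 ≤ 2 * m ∨ ε = 1
    · obtain ⟨e, f, hef⟩ := exists_hyp_of_ty (n := 2 * m) hT hp1
      rw [dc_step hef, ih (Ty.dp (n := 2 * m) hT hef)]
      ring
    · push Not at hp1
      have hm : m = 0 := by omega
      subst hm
      have hε : ε = -1 := by
        rcases hT.par with ⟨h3, -⟩ | ⟨-, h3 | h3⟩
        · exact absurd h3 (by decide)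
        · exact absurd h3 hp1.2
        · exact h3
      have h4 := hT.cnt
      rw [hε] at h4
      have h5 : zn Q = 1 := by
        have h6 : (Nat.card F : ℤ) * zn Q = Nat.card F * 1 := by
          rw [h4]
          norm_num only [_root_.Nat.card_eq_fintype_card, _root_.neg_mul, _root_.one_mul, _root_.neg_sub, _root_.pow_one, _root_.mul_one]
          ring
        exact_mod_cast mul_left_cancel₀ (by omega : (Nat.card F : ℤ) ≠ 0) h6
      have han : ∀ v, Q v = 0 → v = 0 := by
        rw [zn, Nat.card_eq_one_iff_unique] at h5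
        obtain ⟨h6, -⟩ := h5
        intro v hv
        exact congrArg Subtype.val (Subsingleton.elim (⟨v, hv⟩ : {v : V // Q v = 0}) ⟨0, QuadraticMap.map_zero Q⟩)
      have h6 : dc Q ≠ quadraticChar F (-1) := by
        intro h6
        obtain ⟨e, he⟩ := exists_iso h2 (nondeg_hp (F := F)) hT.nd (by simp [hT.dim]) (by rw [dc_hp, h6])
        have h7 : Q (e (1, 0)) = 0 := by
          rw [he]
          change (1 : F) * 0 = 0
          rw [mul_zero]
        have h8 := han _ h7
        rw [LinearEquiv.map_eq_zero_iff] at h8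
        exact one_ne_zero (congrArg Prod.fst h8)
      have h7 := dc_cases hT.nd
      have h8 : quadraticChar F (-1) = 1 ∨ quadraticChar F (-1) = -1 :=
        quadraticChar_dichotomy (neg_ne_zero.2 one_ne_zero)
      rw [hε, zero_add, pow_one]
      rcases h7 with h7 | h7 <;> rcases h8 with h8 | h8 <;> rw [h7, h8] at h6 ⊢ <;> simp_all only [_root_.ne_eq, _root_.Nat.card_eq_fintype_card, _root_.Nat.one_lt_cast, _root_.MulZeroClass.mul_zero, _root_.pow_zero, _root_.one_mul, _root_.zero_add, _root_.mul_one, _root_.Int.reduceNeg, _root_.Order.lt_one_iff, _root_.reduceCtorEq, _root_.not_false_eq_true, _root_.and_self, _root_.Nat.cast_one, _root_.neg_mul, _root_.neg_sub, _root_.Order.lt_two_iff, _root_.zero_le, _root_.Nat.div_self, _root_.pow_one, _root_.not_true_eq_false, _root_.quadraticChar_apply, _root_.mul_neg, _root_.neg_neg]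

end disc

/-! ### Involutions -/

theorem osum_V (h2 : (2 : F) ≠ 0) {t : ↥(E Q)} (ht : t * t = 1) : Osum Q (Vm t) (Vp t) :=
  ⟨isCompl h2 ht, fun u hu w hw => polar_Vm_Vp h2 hu hw⟩

theorem index_centralizer_eq {G : Type*} [Group G] (t : G) :
    (Subgroup.centralizer ({t} : Set G)).index = Nat.card {s : G // IsConj t s} := by
  have key : ∀ g h : G, g * t * g⁻¹ = h * t * h⁻¹ ↔ g⁻¹ * h ∈ Subgroup.centralizer ({t} : Set G) := by
    intro g h
    rw [Subgroup.mem_centralizer_singleton_iff]
    constructor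
    · intro h1
      have h2 : t = g⁻¹ * (h * t * h⁻¹) * g := by rw [← h1]; group
      calc g⁻¹ * h * t = g⁻¹ * (h * t * h⁻¹) * g * (g⁻¹ * h) := by group
        _ = t * (g⁻¹ * h) := by rw [← h2]
    · intro h1
      calc g * t * g⁻¹ = g * (t * (g⁻¹ * h)) * h⁻¹ := by group
        _ = g * (g⁻¹ * h * t) * h⁻¹ := by rw [h1]
        _ = h * t * h⁻¹ := by group
  refine Nat.card_congr (Equiv.ofBijective (fun q : G ⧸ Subgroup.centralizer ({t} : Set G) =>
    (⟨q.out * t * q.out⁻¹, isConj_iff.2 ⟨q.out, rfl⟩⟩ : {s : G // IsConj t s})) ⟨?_, ?_⟩)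
  · intro q q' h
    have h1 := (key _ _).1 (congrArg Subtype.val h)
    rw [← Quotient.out_eq' q, ← Quotient.out_eq' q']
    exact QuotientGroup.eq.2 h1
  · rintro ⟨s, hs⟩
    obtain ⟨c, rfl⟩ := isConj_iff.1 hs
    refine ⟨(c : G ⧸ Subgroup.centralizer ({t} : Set G)), Subtype.ext ?_⟩
    rw [key]
    rw [← QuotientGroup.eq]
    exact Quotient.out_eq' _

/-- the conjugation action -/
@[instance_reducible] def conjAct (Q : QuadraticForm F V) : MulAction ↥(O Q) ↥(E Q) where
  smul a s := ⟨a.1 * s.1 * a.1⁻¹, conj_mem_E a.2 s.2⟩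
  one_smul s := Subtype.ext (by
    change (1 : V ≃ₗ[F] V) * s.1 * (1 : V ≃ₗ[F] V)⁻¹ = s.1
    group)
  mul_smul a b s := Subtype.ext (by
    change (a.1 * b.1) * s.1 * (a.1 * b.1)⁻¹ = a.1 * (b.1 * s.1 * b.1⁻¹) * a.1⁻¹
    group)

/-- **the class size** -/
theorem cls_card [Finite F] [FiniteDimensional F V] (h2 : (2 : F) ≠ 0) (hG : Good Q) {t : ↥(E Q)} (ht : t * t = 1) :
    (Subgroup.centralizer ({t} : Set ↥(E Q))).index *
      (Nat.card ↥(O (rU Q (Vm t))) * Nat.card ↥(O (rU Q (Vp t)))) = Nat.card ↥(O Q) := by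
  have hfin : Finite V := Module.finite_of_finite F
  let _ : MulAction ↥(O Q) ↥(E Q) := conjAct Q
  have hact : ∀ (a : ↥(O Q)) (s : ↥(E Q)), ((a • s : ↥(E Q)) : V ≃ₗ[F] V) = a.1 * s.1 * a.1⁻¹ := fun _ _ => rfl
  have h1 := Subgroup.index_mul_card (MulAction.stabilizer ↥(O Q) t)
  have key : ∀ (a : ↥(O Q)) (v : V), ap (a • t) ((a : V ≃ₗ[F] V) v) = (a : V ≃ₗ[F] V) (ap t v) := by
    intro a v
    change (a.1 * t.1 * a.1⁻¹ : V ≃ₗ[F] V) (a.1 v) = a.1 (t.1 v)
    rw [LinearEquiv.mul_apply, LinearEquiv.mul_apply]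
    congr 2
    exact a.1.symm_apply_apply v
  rw [← h1, MulAction.index_stabilizer, index_centralizer_eq, ← card_stab (osum_V h2 ht)]
  congr 1
  · have h3 : MulAction.orbit ↥(O Q) t = {s | IsConj t s} := by
      ext s
      constructor
      · rintro ⟨a, rfl⟩
        change IsConj t (a • t)
        refine isConj_of_finrank h2 hG ht ?_ ?_
        · apply Subtype.ext
          change (a • t : ↥(E Q)).1 * (a • t : ↥(E Q)).1 = 1
          rw [hact]
          have h4 : t.1 * t.1 = 1 := congrArg Subtype.val ht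
          calc a.1 * t.1 * a.1⁻¹ * (a.1 * t.1 * a.1⁻¹) = a.1 * (t.1 * t.1) * a.1⁻¹ := by group
            _ = 1 := by rw [h4]; group
        · refine LinearEquiv.finrank_eq (a.1.submoduleMap (Vm t) |>.trans (LinearEquiv.ofEq _ _ ?_))
          ext v
          rw [Submodule.mem_map]
          constructor
          · rintro ⟨w, hw, rfl⟩
            rw [mem_Vm] at hw ⊢
            change ap (a • t) ((a : V ≃ₗ[F] V) w) = -((a : V ≃ₗ[F] V) w)
            rw [key, hw, map_neg]
          · intro hv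
            obtain ⟨w, rfl⟩ := a.1.surjective v
            refine ⟨w, ?_, rfl⟩
            rw [mem_Vm] at hv ⊢
            rw [key] at hv
            apply a.1.injective
            rw [hv, map_neg]
      · intro hs
        obtain ⟨c, rfl⟩ := isConj_iff.1 hs
        exact ⟨⟨c.1, E_le_O c.2⟩, rfl⟩
    rw [h3]
    rfl
  · refine Nat.card_congr (Equiv.subtypeEquivRight fun g => ?_)
    rw [MulAction.mem_stabilizer_iff]
    constructor
    · rintro ⟨hU, hW⟩
      apply ext_ap
      intro v
      obtain ⟨v, rfl⟩ := g.1.surjective v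
      change ap (g • t) ((g : V ≃ₗ[F] V) v) = _
      rw [key]
      obtain ⟨u, hu, w, hw, rfl⟩ := (osum_V h2 ht).exists_dec v
      rw [map_add g.1, ap_add, ap_add, mem_Vm.1 (hU u hu), mem_Vp.1 (hW w hw), mem_Vm.1 hu, mem_Vp.1 hw, map_add,
        map_neg]
    · intro hg
      have h4 : ∀ v, ap t ((g : V ≃ₗ[F] V) v) = (g : V ≃ₗ[F] V) (ap t v) := by
        intro v
        rw [← key, hg]
      constructor
      · intro u hu
        rw [mem_Vm] at hu ⊢
        rw [h4, hu, map_neg]
      · intro w hw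
        rw [mem_Vp] at hw ⊢
        rw [h4, hw]

/-- **the types of the eigenspaces** -/
theorem exists_ty_V [Finite F] [FiniteDimensional F V] (h2 : (2 : F) ≠ 0) (hG : Good Q) {n : ℕ} {ε : ℤ}
    (hT : Ty Q n ε) {t : ↥(E Q)} (ht : t * t = 1) : ∃ (k : ℕ) (δ : ℤ), finrank F (Vm t) = 2 * k ∧ 2 * k ≤ n ∧
      (δ = 1 ∨ δ = -1) ∧ (Even k → δ = 1) ∧ Ty (rU Q (Vm t)) (2 * k) δ ∧ Ty (rU Q (Vp t)) (n - 2 * k) (δ * ε) := by
  classical
  cases nonempty_fintype F
  obtain ⟨k, hk⟩ := even_Vm h2 ht hG
  have hk' : finrank F (Vm t) = 2 * k := by omega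
  have hsum := (osum_V h2 ht).finrank
  rw [hT.dim, hk'] at hsum
  have hχ : quadraticChar F (-1) = 1 ∨ quadraticChar F (-1) = -1 :=
    quadraticChar_dichotomy (neg_ne_zero.2 one_ne_zero)
  have hχ2 : quadraticChar F (-1) * quadraticChar F (-1) = 1 := by
    rcases hχ with h | h <;> rw [h] <;> norm_num
  have hχk : ∀ k : ℕ, quadraticChar F (-1) ^ k * quadraticChar F (-1) ^ k = 1 := by
    intro k
    rw [← mul_pow, hχ2, one_pow]
  obtain ⟨δ, hδ⟩ := exists_ty h2 (2 * k) (Vm t) (rU Q (Vm t)) ((osum_V h2 ht).nondeg_left hG.nondeg) hk'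
  obtain ⟨η, hη⟩ := exists_ty h2 (n - 2 * k) (Vp t) (rU Q (Vp t)) ((osum_V h2 ht).symm.nondeg_left hG.nondeg)
    (by omega)
  have e1 := hδ.disc_eq h2
  rw [dc_Vm h2 ht hG] at e1
  have e2 : δ = quadraticChar F (-1) ^ k := by
    linear_combination quadraticChar F (-1) ^ k * e1.symm - δ * hχk k
  have hδ1 : δ = 1 ∨ δ = -1 := by
    rw [e2]
    rcases hχ with h | h <;> rw [h]
    · left; rw [one_pow]
    · exact neg_one_pow_eq_or ℤ k
  refine ⟨k, δ, hk', by omega, hδ1, ?_, hδ, ?_⟩
  · intro he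
    rw [e2]
    rcases hχ with h | h <;> rw [h]
    · rw [one_pow]
    · exact he.neg_one_pow
  · have : η = δ * ε := by
      rcases hT.par with ⟨h3, h4⟩ | ⟨h3, h4⟩
      · rcases hη.par with ⟨-, h5⟩ | ⟨h5, -⟩
        · rw [h5, h4, mul_zero]
        · rw [Nat.odd_iff] at h3
          rw [Nat.even_iff] at h5
          omega
      · obtain ⟨m, rfl⟩ := h3
        have h5 : m + m - 2 * k = 2 * (m - k) := by omega
        have h6 : m + m = 2 * m := by omega
        rw [h5] at hη
        rw [h6] at hT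
        have e3 := hη.disc_eq h2
        have e4 := hT.disc_eq h2
        have e5 := dc_Vp h2 ht hG
        have h7 : quadraticChar F (-1) ^ m = quadraticChar F (-1) ^ k * quadraticChar F (-1) ^ (m - k) := by
          rw [← pow_add]
          congr 1
          omega
        have e6 : quadraticChar F (-1) ^ (m - k) * η = quadraticChar F (-1) ^ m * ε := by
          rw [← e3, ← e4]
          exact e5
        rw [h7] at e6
        rw [e2]
        linear_combination quadraticChar F (-1) ^ (m - k) * e6 - η * hχk (m - k) +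
          quadraticChar F (-1) ^ k * ε * hχk (m - k)
    rw [← this]
    exact hη

/-! ### The general bound -/

section bound

/-- `∏ (1 - q^(-2i))` -/
noncomputable def PR (q : ℝ) (m : ℕ) : ℝ := ∏ i ∈ Finset.range m, (1 - (q ^ (2 * (i + 1)))⁻¹)

theorem PR_succ (q : ℝ) (m : ℕ) : PR q (m + 1) = PR q m * (1 - (q ^ (2 * (m + 1)))⁻¹) := Finset.prod_range_succ _ _

theorem PP_eq {q : ℤ} (hq : 1 < q) (m : ℕ) : (PP q m : ℝ) = (q : ℝ) ^ (m * (m + 1)) * PR q m := by
  have hq0 : (q : ℝ) ≠ 0 := by
    have : (q : ℤ) ≠ 0 := by omega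
    exact_mod_cast this
  induction m with
  | zero => simp [PP_zero, PR]
  | succ m ih =>
    rw [PP_succ, PR_succ]
    push_cast
    rw [ih]
    have h1 : (q : ℝ) ^ (2 * (m + 1)) ≠ 0 := pow_ne_zero _ hq0
    have h2 : (q : ℝ) ^ (2 * (m + 1)) - 1 = (q : ℝ) ^ (2 * (m + 1)) * (1 - ((q : ℝ) ^ (2 * (m + 1)))⁻¹) := by
      rw [mul_sub, mul_one, mul_inv_cancel₀ h1]
    have h3 : (m + 1) * (m + 1 + 1) = m * (m + 1) + 2 * (m + 1) := by ring
    rw [h2, h3, pow_add]
    ring

theorem PR_bounds {q : ℝ} (hq : 3 ≤ q) (m : ℕ) : 7 / 8 + 1 / 8 * (1 / 9) ^ m ≤ PR q m ∧ PR q m ≤ 1 := by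
  induction m with
  | zero => simp [PR]; norm_num
  | succ m ih =>
    obtain ⟨h1, h2⟩ := ih
    rw [PR_succ]
    have h3 : (q ^ (2 * (m + 1)))⁻¹ ≤ (1 / 9 : ℝ) ^ (m + 1) := by
      rw [pow_mul, ← inv_pow]
      apply pow_le_pow_left₀ (by positivity)
      rw [one_div]
      apply inv_anti₀ (by norm_num)
      nlinarith only [hq]
    have h4 : 0 ≤ (q ^ (2 * (m + 1)))⁻¹ := by positivity
    have h5 : (1 / 9 : ℝ) ^ (m + 1) = (1 / 9) ^ m * (1 / 9) := pow_succ _ _
    have h6 : 0 ≤ (1 / 9 : ℝ) ^ m := by positivity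
    have h7 : 0 ≤ PR q m := le_trans (by positivity) h1
    constructor
    · rw [h5] at h3 ⊢
      linarith only [h1, h3, mul_le_mul_of_nonneg_right h2 h4]
    · linarith only [h2, mul_nonneg h7 h4]

theorem three_le_q [Finite F] (h2 : (2 : F) ≠ 0) : 3 ≤ Nat.card F := by
  have := Fintype.ofFinite F
  rw [Nat.card_eq_fintype_card]
  have h3 : 1 < Fintype.card F := Fintype.one_lt_card
  rcases Nat.lt_or_ge 2 (Fintype.card F) with h4 | h4
  · exact h4
  · exfalso
    have h5 : Fintype.card F = 2 := by omega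
    have h6 : ((Fintype.card F : ℕ) : F) = 0 := FiniteField.cast_card_eq_zero F
    rw [h5] at h6
    exact h2 (by exact_mod_cast h6)

/-- **the normalised order** -/
theorem Ty.norm [Finite F] [FiniteDimensional F V] (h2 : (2 : F) ≠ 0) {n : ℕ} {ε : ℤ} (hT : Ty Q n ε) (hn : 1 ≤ n) :
    ∃ a : ℝ, (Nat.card ↥(O Q) : ℝ) = 2 * (Nat.card F : ℝ) ^ (n.choose 2) * a ∧ 2 / 3 ≤ a ∧
      (n ≠ 2 → 7 / 9 ≤ a) ∧ (n ≠ 2 → a ≤ 1) := by
  have hq := one_lt_q F
  have h3' : (3 : ℝ) ≤ Nat.card F := by exact_mod_cast three_le_q h2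
  have hcast : ((Nat.card F : ℤ) : ℝ) = (Nat.card F : ℝ) := by push_cast; rfl
  rcases Nat.even_or_odd' n with ⟨m, rfl | rfl⟩
  · obtain ⟨m, rfl⟩ : ∃ k, m = k + 1 := ⟨m - 1, by omega⟩
    have h1 := Ty.card_even h2 m hT
    have h4 : (Nat.card ↥(O Q) : ℝ) = 2 * (Nat.card F : ℝ) ^ ((m + 1) * m) * ((Nat.card F : ℝ) ^ (m + 1) - ε) *
        ((Nat.card F : ℝ) ^ (m * (m + 1)) * PR (Nat.card F) m) := by
      rw [← hcast, ← PP_eq hq]
      exact_mod_cast h1
    obtain ⟨b1, b2⟩ := PR_bounds h3' m
    have hqm : (Nat.card F : ℝ) ^ (m + 1) ≠ 0 := by positivity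
    have hε : (ε : ℝ) = 1 ∨ (ε : ℝ) = -1 := by
      rcases hT.par with ⟨h5, -⟩ | ⟨-, rfl | rfl⟩
      · rw [Nat.odd_iff] at h5; omega
      · left; norm_num
      · right; norm_num
    have h6 : 0 ≤ (1 / 9 : ℝ) ^ m := by positivity
    refine ⟨(1 - ε * ((Nat.card F : ℝ) ^ (m + 1))⁻¹) * PR (Nat.card F) m, ?_, ?_, ?_, ?_⟩
    · rw [h4]
      have h7 : (2 * (m + 1)).choose 2 = (m + 1) * m + (m + 1) + m * (m + 1) := by
        rw [Nat.choose_two_right, show 2 * (m + 1) - 1 = 2 * m + 1 by omega, mul_assoc, Nat.mul_div_cancel_left _ (by norm_num)]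
        ring
      have h8 : (Nat.card F : ℝ) ^ (m + 1) - ε =
          (Nat.card F : ℝ) ^ (m + 1) * (1 - ε * ((Nat.card F : ℝ) ^ (m + 1))⁻¹) := by
        field_simp
      have h9 : (Nat.card F : ℝ) ^ ((m + 1) * m + (m + 1) + m * (m + 1)) =
          (Nat.card F : ℝ) ^ ((m + 1) * m) * (Nat.card F : ℝ) ^ (m + 1) * (Nat.card F : ℝ) ^ (m * (m + 1)) := by
        rw [pow_add, pow_add]
      rw [h8, h7, h9]
      ring
    · have h9 : ((Nat.card F : ℝ) ^ (m + 1))⁻¹ ≤ 1 / 3 := by
        rw [one_div]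
        apply inv_anti₀ (by norm_num)
        calc (3 : ℝ) ≤ Nat.card F := h3'
          _ = (Nat.card F : ℝ) ^ 1 := (pow_one _).symm
          _ ≤ _ := pow_le_pow_right₀ (by linarith only [h3']) (by omega)
      rcases Nat.eq_zero_or_pos m with rfl | hm
      · have : PR (Nat.card F) 0 = 1 := by simp only [PR, _root_.Finset.range_zero, _root_.Finset.prod_empty]
        rw [this, mul_one]
        have h10 : 0 ≤ ((Nat.card F : ℝ) ^ (0 + 1))⁻¹ := by positivity
        rcases hε with h | h <;> rw [h] <;> linarith only [h9, h10]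
      · have h9' : ((Nat.card F : ℝ) ^ (m + 1))⁻¹ ≤ 1 / 9 := by
          rw [one_div]
          apply inv_anti₀ (by norm_num)
          calc (9 : ℝ) ≤ (Nat.card F : ℝ) ^ 2 := by nlinarith only [h3']
            _ ≤ _ := pow_le_pow_right₀ (by linarith only [h3']) (by omega)
        have h10 : 0 ≤ ((Nat.card F : ℝ) ^ (m + 1))⁻¹ := by positivity
        rcases hε with h | h <;> rw [h] <;> nlinarith only [b1, h6, h9', h10]
    · intro hn2
      have h9' : ((Nat.card F : ℝ) ^ (m + 1))⁻¹ ≤ 1 / 9 := by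
        rw [one_div]
        apply inv_anti₀ (by norm_num)
        calc (9 : ℝ) ≤ (Nat.card F : ℝ) ^ 2 := by nlinarith only [h3']
          _ ≤ _ := pow_le_pow_right₀ (by linarith only [h3']) (by omega)
      have h10 : 0 ≤ ((Nat.card F : ℝ) ^ (m + 1))⁻¹ := by positivity
      rcases hε with h | h <;> rw [h] <;> nlinarith only [b1, h6, h9', h10]
    · intro hn2
      obtain ⟨j, rfl⟩ : ∃ j, m = j + 1 := ⟨m - 1, by omega⟩
      -- `PR ≤ 1 - q⁻²`
      have h11 : PR (Nat.card F) (j + 1) ≤ 1 - ((Nat.card F : ℝ) ^ 2)⁻¹ := by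
        clear b1 b2 hn2 h6 hqm h4 h1 hn hT
        induction j with
        | zero =>
          have : PR (Nat.card F) (0 + 1) = 1 - ((Nat.card F : ℝ) ^ 2)⁻¹ := by simp only [PR, _root_.zero_add, _root_.Finset.range_one, _root_.Finset.prod_singleton, _root_.mul_one]
          rw [this]
        | succ j ih =>
          rw [PR_succ]
          have h12 : 0 ≤ ((Nat.card F : ℝ) ^ (2 * (j + 1 + 1)))⁻¹ := by positivity
          have h13 : 0 ≤ PR (Nat.card F) (j + 1) := le_trans (by positivity) (PR_bounds h3' (j + 1)).1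
          linarith only [ih, mul_nonneg h13 h12]
      have h14 : ((Nat.card F : ℝ) ^ (j + 1 + 1))⁻¹ ≤ ((Nat.card F : ℝ) ^ 2)⁻¹ := by
        apply inv_anti₀ (by positivity)
        exact pow_le_pow_right₀ (by linarith only [h3']) (by omega)
      have h10 : 0 ≤ ((Nat.card F : ℝ) ^ (j + 1 + 1))⁻¹ := by positivity
      have h15 : 0 ≤ PR (Nat.card F) (j + 1) := le_trans (by positivity) b1
      have h16 : 0 ≤ ((Nat.card F : ℝ) ^ 2)⁻¹ := by positivity
      rcases hε with h | h <;> rw [h] <;> nlinarith only [b2, h11, h14, h10, mul_nonneg h15 h10]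
  · have h1 := Ty.card_odd h2 m hT
    have h4 : (Nat.card ↥(O Q) : ℝ) = 2 * (Nat.card F : ℝ) ^ (m ^ 2) *
        ((Nat.card F : ℝ) ^ (m * (m + 1)) * PR (Nat.card F) m) := by
      rw [← hcast, ← PP_eq hq]
      exact_mod_cast h1
    obtain ⟨b1, b2⟩ := PR_bounds h3' m
    have h6 : 0 ≤ (1 / 9 : ℝ) ^ m := by positivity
    refine ⟨PR (Nat.card F) m, ?_, by linarith only [b1, h6], fun _ => by linarith only [b1, h6], fun _ => b2⟩
    rw [h4]
    have h7 : (2 * m + 1).choose 2 = m ^ 2 + m * (m + 1) := by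
      rw [Nat.choose_two_right, show 2 * m + 1 - 1 = 2 * m by omega, mul_comm (2 * m + 1), mul_assoc,
        Nat.mul_div_cancel_left _ (by norm_num)]
      ring
    rw [h7, pow_add]
    ring

theorem choose_two_add (k l : ℕ) : (k + l).choose 2 = k.choose 2 + l.choose 2 + k * l := by
  induction l with
  | zero => simp
  | succ l ih =>
    rw [← add_assoc, Nat.choose_succ_succ' (k + l) 1, Nat.choose_succ_succ' l 1, ih, Nat.choose_one_right,
      Nat.choose_one_right]
    ring

/-- **an involution with a `k`-dimensional `-1`-space has at most `q^(k (n - k))` conjugates** -/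
theorem cls_le [Finite F] [FiniteDimensional F V] (h2 : (2 : F) ≠ 0) (hG : Good Q) (h5 : 5 ≤ finrank F V)
    {t : ↥(E Q)} (ht : t * t = 1) {k : ℕ} (hk : finrank F (Vm t) = k) :
    (Subgroup.centralizer ({t} : Set ↥(E Q))).index ≤ Nat.card F ^ (k * (finrank F V - k)) := by
  have hfin : Finite V := Module.finite_of_finite F
  have hfinE : Finite (V ≃ₗ[F] V) :=
    Finite.of_injective (fun e : V ≃ₗ[F] V => (e : V → V)) DFunLike.coe_injective
  obtain ⟨ε, hT⟩ := exists_ty h2 _ V Q hG.nondeg rfl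
  obtain ⟨k', δ, hk', hk2, -, -, hU, hW⟩ := exists_ty_V h2 hG hT ht
  have hkk : k = 2 * k' := by omega
  subst hkk
  have hc := cls_card h2 hG ht
  have h3' : (3 : ℝ) ≤ Nat.card F := by exact_mod_cast three_le_q h2
  rcases Nat.eq_zero_or_pos (2 * k') with h0 | h0
  · -- `t = 1`
    rw [h0, zero_mul, pow_zero]
    have hVm : ∀ v ∈ Vm t, v = 0 := by
      intro v hv
      have : Vm t = ⊥ := Submodule.finrank_eq_zero.1 (by omega)
      rw [this] at hv
      exact (Submodule.mem_bot F).1 hv
    have ht1 : t = 1 := by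
      apply ext_ap
      intro v
      obtain ⟨u, hu, w, hw, rfl⟩ := (osum_V h2 ht).exists_dec v
      rw [hVm u hu, zero_add, mem_Vp.1 hw, ap_one]
    rw [ht1]
    have : Subgroup.centralizer ({1} : Set ↥(E Q)) = ⊤ := by
      ext x
      simp [Subgroup.mem_centralizer_singleton_iff]
    rw [this, Subgroup.index_top]
  · rcases Nat.eq_zero_or_pos (finrank F V - 2 * k') with h0' | h0'
    · rw [h0', mul_zero, pow_zero]
      have hVp : ∀ v ∈ Vp t, v = 0 := by
        intro v hv
        have hs := (osum_V h2 ht).finrank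
        have : Vp t = ⊥ := Submodule.finrank_eq_zero.1 (by omega)
        rw [this] at hv
        exact (Submodule.mem_bot F).1 hv
      have ht1 : ∀ v, ap t v = -v := by
        intro v
        obtain ⟨u, hu, w, hw, rfl⟩ := (osum_V h2 ht).exists_dec v
        rw [hVp w hw, add_zero, mem_Vm.1 hu]
      have : Subgroup.centralizer ({t} : Set ↥(E Q)) = ⊤ := by
        ext x
        rw [Subgroup.mem_centralizer_singleton_iff]
        simp only [Subgroup.mem_top, iff_true]
        apply ext_ap
        intro v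
        rw [ap_mul, ap_mul, ht1, ht1, ap_neg]
      rw [this, Subgroup.index_top]
    · obtain ⟨a, ha, -, -, ha1⟩ := hT.norm h2 (by omega)
      obtain ⟨b, hb, hb1, hb2, -⟩ := hU.norm h2 h0
      obtain ⟨c, hc', hc1, hc2, -⟩ := hW.norm h2 h0'
      have ha' := ha1 (by omega)
      have hcR : ((Subgroup.centralizer ({t} : Set ↥(E Q))).index : ℝ) *
          ((Nat.card ↥(O (rU Q (Vm t))) : ℝ) * (Nat.card ↥(O (rU Q (Vp t))) : ℝ)) = Nat.card ↥(O Q) := by
        exact_mod_cast hc
      rw [ha, hb, hc'] at hcR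
      have hn : (finrank F V).choose 2 = (2 * k').choose 2 + (finrank F V - 2 * k').choose 2 +
          2 * k' * (finrank F V - 2 * k') := by
        rw [← choose_two_add]
        congr 1
        (clear * - hk2; omega)
      rw [hn, pow_add, pow_add] at hcR
      have hbc : a ≤ 2 * (b * c) := by
        by_cases h6 : 2 * k' = 2
        · have := hc2 (by (clear * - h5 hk2 ha1 hb2 hc2 h6; omega))
          nlinarith only [hb1, ha', this]
        · have := hb2 h6
          nlinarith only [hc1, ha', this]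
      set x := ((Subgroup.centralizer ({t} : Set ↥(E Q))).index : ℝ) with hx
      set A := (Nat.card F : ℝ) ^ (2 * k').choose 2 with hA
      set B := (Nat.card F : ℝ) ^ (finrank F V - 2 * k').choose 2 with hB
      set C := (Nat.card F : ℝ) ^ (2 * k' * (finrank F V - 2 * k')) with hC
      have hApos : 0 < A := by (clear * - h3'; positivity)
      have hBpos : 0 < B := by (clear * - h3'; positivity)
      have hCpos : 0 < C := by (clear * - h3'; positivity)
      have hABne : A * B ≠ 0 := by (clear * - h3'; positivity)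
      have e1 : x * (2 * (b * c)) = C * a := by
        apply mul_left_cancel₀ hABne
        linear_combination (1 / 2 : ℝ) * hcR
      have hbc0 : 0 < b * c := by nlinarith only [hb1, hc1]
      have e2 : x ≤ C := by
        have e3 : x * (2 * (b * c)) ≤ C * (2 * (b * c)) := by
          rw [e1]
          exact mul_le_mul_of_nonneg_left hbc hCpos.le
        exact le_of_mul_le_mul_right e3 (by (clear * - hb1 hc1; positivity))
      have e4 : ((Subgroup.centralizer ({t} : Set ↥(E Q))).index : ℝ) ≤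
          ((Nat.card F ^ (2 * k' * (finrank F V - 2 * k')) : ℕ) : ℝ) := by
        push_cast
        exact e2
      exact_mod_cast e4

end bound

/-! ### Fundamental involutions -/

section fund

/-- the rank of a fundamental involution -/
theorem finrank_Vm_fund [FiniteDimensional F V] (h2 : (2 : F) ≠ 0) {z : ↥(E Q)} (hz : Fund Q z) :
    finrank F (Vm z) = 4 := by
  obtain ⟨e₁, f₁, e₂, f₂, h, z1, z2, z3, z4, z5⟩ := hz
  obtain ⟨p1, p2, p3, p4, p5, p6, p7, p8, p9, p10, p11, p12, p13, p14, p15, p16⟩ := h.pols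
  let L : (F × F × F × F) →ₗ[F] V :=
    { toFun := fun x => x.1 • e₁ + x.2.1 • f₁ + (x.2.2.1 • e₂ + x.2.2.2 • f₂)
      map_add' := fun x y => by
        simp only [Prod.fst_add, Prod.snd_add]
        module
      map_smul' := fun c x => by
        simp only [Prod.smul_fst, Prod.smul_snd, smul_eq_mul, RingHom.id_apply]
        module }
  have hL : ∀ x, L x = x.1 • e₁ + x.2.1 • f₁ + (x.2.2.1 • e₂ + x.2.2.2 • f₂) := fun x => rfl
  have hinj : Function.Injective L := by
    rw [← LinearMap.ker_eq_bot, LinearMap.ker_eq_bot']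
    rintro ⟨a, b, c, d⟩ hx
    rw [hL] at hx
    have k1 : polar Q f₁ (a • e₁ + b • f₁ + (c • e₂ + d • f₂)) = 0 := by rw [hx, polar_zero_right]
    have k2 : polar Q e₁ (a • e₁ + b • f₁ + (c • e₂ + d • f₂)) = 0 := by rw [hx, polar_zero_right]
    have k3 : polar Q f₂ (a • e₁ + b • f₁ + (c • e₂ + d • f₂)) = 0 := by rw [hx, polar_zero_right]
    have k4 : polar Q e₂ (a • e₁ + b • f₁ + (c • e₂ + d • f₂)) = 0 := by rw [hx, polar_zero_right]
    simp only [polar_add_right, polar_smul_right, p1, p2, p3, p4, p5, p6, p7, p8, p9, p10, p11, p12, p13, p14, p15,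
      p16, smul_eq_mul, mul_zero, mul_one, add_zero, zero_add] at k1 k2 k3 k4
    rw [k1, k2, k3, k4]
    rfl
  have hr : LinearMap.range L = Vm z := by
    ext v
    rw [mem_Vm]
    constructor
    · rintro ⟨x, rfl⟩
      rw [hL]
      simp only [ap_add, ap_smul, z1, z2, z3, z4]
      module
    · intro hv
      rw [fund_ap h z1 z2 z3 z4 z5 v] at hv
      refine ⟨(polar Q f₁ v, polar Q e₁ v, polar Q f₂ v, polar Q e₂ v), ?_⟩
      rw [hL]
      change polar Q f₁ v • e₁ + polar Q e₁ v • f₁ + (polar Q f₂ v • e₂ + polar Q e₂ v • f₂) = v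
      generalize (polar Q f₁ v • e₁ + polar Q e₁ v • f₁ + (polar Q f₂ v • e₂ + polar Q e₂ v • f₂)) = d at hv ⊢
      have h6 : (2 : F) • (v - d) = 0 := by
        have : (2 : F) • (v - d) = (v - (2 : F) • d) - -v := by module
        rw [this, hv, sub_self]
      exact (sub_eq_zero.1 ((smul_eq_zero.1 h6).resolve_left h2)).symm
  rw [← hr, LinearMap.finrank_range_of_inj hinj]
  simp

theorem Ty.fund_types [Finite F] [FiniteDimensional F V] (h2 : (2 : F) ≠ 0) (hG : Good Q) {n : ℕ} {ε : ℤ}
    (hT : Ty Q n ε) {z : ↥(E Q)} (hz : Fund Q z) :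
    4 ≤ n ∧ Ty (rU Q (Vm z)) 4 1 ∧ Ty (rU Q (Vp z)) (n - 4) ε := by
  obtain ⟨k, δ, hk, hkn, -, hδ, hU, hW⟩ := exists_ty_V h2 hG hT hz.sq
  rw [finrank_Vm_fund h2 hz] at hk
  have hk2 : k = 2 := by omega
  subst hk2
  rw [hδ (by decide)] at hU hW
  rw [one_mul] at hW
  exact ⟨hkn, hU, hW⟩

/-- `|z^E| |O_4^+| |O_{n-4}| = |O_n|` -/
theorem Ty.fund_cls [Finite F] [FiniteDimensional F V] (h2 : (2 : F) ≠ 0) (hG : Good Q) {n : ℕ} {ε : ℤ}
    (hT : Ty Q n ε) {z : ↥(E Q)} (hz : Fund Q z) :
    ((Subgroup.centralizer ({z} : Set ↥(E Q))).index : ℤ) *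
      (2 * (Nat.card F : ℤ) ^ 2 * ((Nat.card F : ℤ) ^ 2 - 1) ^ 2 * Nat.card ↥(O (rU Q (Vp z)))) =
      Nat.card ↥(O Q) := by
  obtain ⟨h4, hU, hW⟩ := hT.fund_types h2 hG hz
  have h1 := Ty.card_even h2 1 hU
  have h5 := cls_card h2 hG hz.sq
  have h6 : ((Subgroup.centralizer ({z} : Set ↥(E Q))).index : ℤ) *
      ((Nat.card ↥(O (rU Q (Vm z))) : ℤ) * Nat.card ↥(O (rU Q (Vp z)))) = Nat.card ↥(O Q) := by exact_mod_cast h5
  rw [← h6, h1, PP_succ, PP_zero]
  ring

end fund

/-! ### Numbers -/

section numbers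

variable [Finite F] [FiniteDimensional F V] (h2 : (2 : F) ≠ 0) (hG : Good Q)

include h2 hG

theorem fund_seven {ε : ℤ} (hT : Ty Q 7 ε) {z : ↥(E Q)} (hz : Fund Q z) :
    2 * ((Subgroup.centralizer ({z} : Set ↥(E Q))).index : ℤ) =
      (Nat.card F : ℤ) ^ 6 * ((Nat.card F : ℤ) ^ 2 + 1) * ((Nat.card F : ℤ) ^ 4 + (Nat.card F : ℤ) ^ 2 + 1) := by
  have hq := one_lt_q F
  have h1 := hT.fund_cls h2 hG hz
  rw [Ty.card_odd h2 1 (hT.fund_types h2 hG hz).2.2, Ty.card_odd h2 3 hT] at h1
  simp only [PP_succ, PP_zero] at h1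
  have hne : (2 * (Nat.card F : ℤ) ^ 3 * ((Nat.card F : ℤ) ^ 2 - 1) ^ 3) ≠ 0 := by
    have : (Nat.card F : ℤ) ^ 2 - 1 ≠ 0 := by nlinarith only [hq]
    (clear * - hq this; positivity)
  apply mul_left_cancel₀ hne
  linear_combination h1

theorem fund_eight {ε : ℤ} (hT : Ty Q 8 ε) {z : ↥(E Q)} (hz : Fund Q z) :
    2 * ((Subgroup.centralizer ({z} : Set ↥(E Q))).index : ℤ) * ((Nat.card F : ℤ) ^ 2 - ε) =
      (Nat.card F : ℤ) ^ 8 * ((Nat.card F : ℤ) ^ 4 - ε) * ((Nat.card F : ℤ) ^ 2 + 1) *
        ((Nat.card F : ℤ) ^ 4 + (Nat.card F : ℤ) ^ 2 + 1) := by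
  have hq := one_lt_q F
  have h1 := hT.fund_cls h2 hG hz
  rw [Ty.card_even h2 1 (hT.fund_types h2 hG hz).2.2, Ty.card_even h2 3 hT] at h1
  simp only [PP_succ, PP_zero] at h1
  have hne : (2 * (Nat.card F : ℤ) ^ 4 * ((Nat.card F : ℤ) ^ 2 - 1) ^ 3) ≠ 0 := by
    have : (Nat.card F : ℤ) ^ 2 - 1 ≠ 0 := by nlinarith only [hq]
    (clear * - hq this; positivity)
  apply mul_left_cancel₀ hne
  linear_combination h1

theorem fund_eight_plus (hT : Ty Q 8 1) {z : ↥(E Q)} (hz : Fund Q z) :
    2 * ((Subgroup.centralizer ({z} : Set ↥(E Q))).index : ℤ) =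
      (Nat.card F : ℤ) ^ 8 * ((Nat.card F : ℤ) ^ 2 + 1) ^ 2 * ((Nat.card F : ℤ) ^ 4 + (Nat.card F : ℤ) ^ 2 + 1) := by
  have hq := one_lt_q F
  have h1 := fund_eight h2 hG hT hz
  have hne : (Nat.card F : ℤ) ^ 2 - 1 ≠ 0 := by nlinarith only [hq]
  apply mul_right_cancel₀ hne
  linear_combination h1

end numbers

/-! ### The standard forms -/

section forms

open Cfsg.Agent.LieClassical.OrthForms

variable [Finite F]

theorem ty_odd {n : ℕ} (h2 : (2 : F) ≠ 0) [FiniteDimensional F V] (hQ : Nondeg Q) (hn : finrank F V = n) (ho : Odd n) :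
    Ty Q n 0 := by
  obtain ⟨ε, hε⟩ := exists_ty h2 n V Q hQ hn
  rcases hε.par with ⟨-, h⟩ | ⟨h, -⟩
  · rwa [h] at hε
  · rw [Nat.odd_iff] at ho
    rw [Nat.even_iff] at h
    omega

theorem ty_plusForm (m : ℕ) : Ty (plusForm m F) (2 * m) 1 := by
  cases nonempty_fintype F
  classical
  refine ⟨nondeg_plusForm m F, by simp only [_root_.Module.finrank_fintype_fun_eq_card, _root_.Fintype.card_sum, _root_.Fintype.card_fin]; omega, Or.inr ⟨even_two_mul m, Or.inl rfl⟩, ?_⟩
  have h1 := QuadCount.card_plus (F := F) m 0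
  rw [if_pos rfl] at h1
  have h3 : zn (plusForm m F) = Nat.card {v : Fin m ⊕ Fin m → F // Cfsg.quadFormPlus m F v = 0} := by
    rw [zn, coe_plusForm]
  have h4 : (2 * m) / 2 = m := by omega
  rw [h3, h4, Nat.card_eq_fintype_card (α := F)]
  have h5 : (Fintype.card F : ℤ) * (Nat.card {v : Fin m ⊕ Fin m → F // Cfsg.quadFormPlus m F v = 0} : ℤ) +
      Fintype.card F ^ m = Fintype.card F ^ (2 * m) + Fintype.card F ^ (m + 1) := by exact_mod_cast h1
  linear_combination h5

end forms

end Cfsg.Agent.H989.Fx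

private theorem dce_72d4d3c1901d : _root_.True := by
  try have : _root_.True := by simp only [_root_.Cfsg.Agent.H989.Fx.PR.eq_1]
  exact _root_.True.intro
end

-- part: H989/Fx/Cls_mg
section

end

-- part: H254/IF/Rows
section
set_option linter.all false
open scoped Cfsg.Agent.FastGrp

/-!
# S5719: the orthogonal rows in odd characteristic, dimension at least 11, from the row theorem in `E Q` (helper254)

`RowThm` : no counterexample with `A` of even order in a simple quotient of `E Q` by scalars, `dim V ≥ 11`.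
`odd_of`, `plus_of`, `minus_of` : the cells for the models.
-/

set_option autoImplicit false
set_option linter.unusedSectionVars false

namespace Cfsg.Agent.H254.IF

open QuadraticMap Cfsg Cfsg.Agent.LieClassical.OrthCore Cfsg.Agent.LieClassical.OrthTrans
  Cfsg.Agent.LieClassical.OrthFinite Cfsg.Agent.LieClassical.OrthForms Cfsg.Agent.H209.Fxy
  Cfsg.Agent.H75.OrthIdx
open Module (finrank)

/-- **the row theorem** (interface) -/
def RowThm : Prop := ∀ (F V : Type) [Field F] [Finite F] [AddCommGroup V] [Module F V] [FiniteDimensional F V]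
  (Q : QuadraticForm F V), (2 : F) ≠ 0 → Nondeg Q → 11 ≤ finrank F V →
  ∀ (T : Type) [Group T] [Finite T] [IsSimpleGroup T] (π : ↥(E Q) →* T), Function.Surjective π →
    (∀ g : ↥(E Q), π g = 1 → ∃ c : F, ∀ v, (g : V ≃ₗ[F] V) v = c • v) → (∃ a b : T, a * b ≠ b * a) → KillE T

/-- a simple quotient of a perfect group is not commutative -/
theorem not_comm_of_perfect {G T : Type*} [Group G] [Group T] [IsSimpleGroup T] (π : G →* T)
    (hπ : Function.Surjective π) (hp : ⁅(⊤ : Subgroup G), (⊤ : Subgroup G)⁆ = ⊤) : ∃ a b : T, a * b ≠ b * a := by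
  by_contra hcon
  push Not at hcon
  have h1 : ∀ x : T, x = 1 := by
    intro x
    obtain ⟨g, rfl⟩ := hπ x
    have h2 : (⊤ : Subgroup G) ≤ π.ker := by
      rw [← hp, Subgroup.commutator_le]
      intro a _ b _
      rw [MonoidHom.mem_ker, map_commutatorElement, commutatorElement_eq_one_iff_mul_comm]
      exact hcon _ _
    exact h2 (Subgroup.mem_top g)
  obtain ⟨x, hx⟩ := exists_ne (1 : T)
  exact hx (h1 x)

theorem two_ne_zero_of_odd {F : Type*} [Field F] [Fintype F] (ho : Odd (Fintype.card F)) : (2 : F) ≠ 0 := by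
  intro h2
  have hchar : CharP F 2 := by
    have h3 : (2 : ℕ) ∣ Fintype.card F := by
      have h4 : ringChar F = 2 := by
        have h5 : ((2 : ℕ) : F) = 0 := by exact_mod_cast h2
        have h6 := (ringChar.spec F 2).1 h5
        rcases (Nat.dvd_prime Nat.prime_two).1 h6 with h7 | h7
        · exfalso
          have h8 := ringChar.Nat.cast_ringChar (R := F)
          rw [h7, Nat.cast_one] at h8
          exact one_ne_zero h8
        · exact h7
      have h5 := FiniteField.card F (ringChar F)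
      obtain ⟨n, -, h6⟩ := h5
      rw [h6, h4]
      exact dvd_pow_self 2 n.2.ne'
    exact absurd ho (Nat.not_odd_iff_even.2 (even_iff_two_dvd.2 h3))
  exact absurd ho (by
    have h3 := FiniteField.even_card_of_char_two (F := F) (by
      have := ringChar.eq F 2
      exact this)
    exact Nat.not_odd_iff_even.2 (Nat.even_iff.2 h3))

theorem killE_model (H : RowThm) {ι : Type} [Fintype ι] [DecidableEq ι] {F : Type} [Field F] [Fintype F]
    (ho : Odd (Fintype.card F)) (Q : QuadraticForm F (ι → F)) (hQ : Nondeg Q) (h11 : 11 ≤ Fintype.card ι)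
    (hs : IsSimpleGroup (POmega F ⇑Q)) : KillE (POmega F ⇑Q) := by
  have hfr : finrank F (ι → F) = Fintype.card ι := Module.finrank_pi F
  have hG : Good Q := good_of_finite hQ (by rw [hfr]; omega)
  have hfin : Finite (POmega F ⇑Q) := Quotient.finite _
  refine H F (ι → F) Q (two_ne_zero_of_odd ho) hQ (by rw [hfr]; exact h11) _ (omHom hG) (omHom_surjective hG) ?_ ?_
  · intro g hg
    exact center_scalar hG (by rw [← omHom_ker hG]; exact hg)
  · refine not_comm_of_perfect (omHom hG) (omHom_surjective hG) ?_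
    have h1 := hG.E_perfect
    have h2 := congrArg (fun K => Subgroup.comap (E Q).subtype K) h1
    apply Subgroup.map_injective (Subgroup.subtype_injective (E Q))
    rw [Subgroup.map_commutator, ← MonoidHom.range_eq_map, Subgroup.range_subtype]
    exact h1

theorem odd_of (H : RowThm) (F : Type) [Field F] [Fintype F] (m : ℕ) (ho : Odd (Fintype.card F)) (hm : 5 ≤ m)
    (hs : IsSimpleGroup (POmega F (quadFormOdd m F))) : KillE (POmega F (quadFormOdd m F)) := by
  rw [← coe_oddForm] at hs ⊢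
  exact killE_model H ho _ (nondeg_oddForm m F (two_ne_zero_of_odd ho)) (by simp; omega) hs

theorem plus_of (H : RowThm) (F : Type) [Field F] [Fintype F] (m : ℕ) (ho : Odd (Fintype.card F)) (hm : 6 ≤ m)
    (hs : IsSimpleGroup (POmega F (quadFormPlus m F))) : KillE (POmega F (quadFormPlus m F)) := by
  rw [← coe_plusForm] at hs ⊢
  exact killE_model H ho _ (nondeg_plusForm m F) (by simp; omega) hs

theorem minus_of (H : RowThm) (F : Type) [Field F] [Fintype F] (m : ℕ) (a b : F) (ho : Odd (Fintype.card F))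
    (hm : 6 ≤ m) (hz : ∀ z₁ z₂ : F, z₁ ^ 2 + a * z₁ * z₂ + b * z₂ ^ 2 = 0 → z₁ = 0 ∧ z₂ = 0)
    (hs : IsSimpleGroup (POmega F (quadFormMinus (m - 1) F a b))) :
    KillE (POmega F (quadFormMinus (m - 1) F a b)) := by
  rw [← coe_minusForm] at hs ⊢
  exact killE_model H ho _ (nondeg_minusForm (m - 1) F a b hz) (by simp; omega) hs

end Cfsg.Agent.H254.IF
end

-- part: H556/IF/Cell
section
set_option linter.all false
open scoped Cfsg.Agent.FastGrp

/-!
# S5719, orthogonal groups, `q` odd: the model `POmega`, the cells of dimension 10 (helper556)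
-/

set_option autoImplicit false
set_option maxHeartbeats 400000
set_option linter.unusedSimpArgs false
set_option linter.unusedVariables false
set_option linter.unusedSectionVars false

namespace Cfsg.Agent.H556.IF

open QuadraticMap Cfsg.Agent.LieClassical Cfsg.Agent.LieClassical.OrthCore Cfsg.Agent.LieClassical.OrthTrans
  Cfsg.Agent.LieClassical.OrthFinite Cfsg.Agent.LieClassical.OrthForms
  Cfsg.Agent.AutOrth.SemiSim Cfsg.Agent.AutOrth.Gen Cfsg.Agent.H989.Gs.Gen Cfsg.Agent.H989.Fx
  Cfsg.Agent.H75.OrthIdx Cfsg.Agent.H209.Fxy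
open Cfsg.Agent.H325.IF (Vm Vp mem_Vm mem_Vp isCompl)

/-- `T` is not commutative -/
theorem hna_of_IF {T : Type*} [Group T] [IsSimpleGroup T] {A : Subgroup T} {Γ : Subgroup (MulAut T)} (h : IF A Γ) :
    ∃ a b : T, a * b ≠ b * a := by
  by_contra hcon
  push Not at hcon
  have hn : A.Normal := ⟨fun a ha g => by rw [hcon g a, mul_assoc, mul_inv_cancel, mul_one]; exact ha⟩
  rcases hn.eq_bot_or_eq_top with h1 | h1
  · exact h.ne_bot h1
  · exact h.ne_top h1

theorem even_of_involution {T : Type*} [Group T] [Finite T] {A : Subgroup T} (h : ∃ t ∈ A, orderOf t = 2) :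
    Even (Nat.card A) := by
  obtain ⟨t, ht, ho⟩ := h
  have h1 : orderOf (⟨t, ht⟩ : A) = 2 := by rw [← ho]; exact Subgroup.orderOf_mk t ht
  rw [even_iff_two_dvd, ← h1]
  exact orderOf_dvd_natCard _

section

variable {ι : Type} [Fintype ι] [DecidableEq ι] {F : Type} [Field F] {Q : QuadraticForm F (ι → F)}

theorem omHom_one_iff (hG : Good Q) (g : ↥(E Q)) : omHom hG g = 1 ↔ g = 1 ∨ ∀ v, ap g v = -v := by
  rw [← MonoidHom.mem_ker, omHom_ker]
  constructor
  · intro hg
    obtain ⟨c, hc⟩ := Cfsg.Agent.ClassicalGeometry.OrthAut1.center_scalar hG hg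
    obtain ⟨x, y, hxy⟩ := hG.exists_hyp
    have hc' : ∀ v, ap g v = c • v := hc
    have h1 : c * c = 1 := by
      have h3 := polar_ap g x y
      rw [hc', hc', polar_smul_left, polar_smul_right, hxy.pair] at h3
      simpa using h3
    rcases mul_self_eq_one_iff.1 h1 with rfl | rfl
    · left
      apply ext_ap
      intro v
      rw [hc', one_smul, ap_one]
    · right
      intro v
      rw [hc', neg_one_smul]
  · rintro (rfl | hg)
    · exact Subgroup.one_mem _
    · exact Cfsg.Agent.ClassicalGeometry.OrthAut1.mem_center_of_scalar (c := -1) (fun v => by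
        rw [neg_one_smul]; exact hg v)

/-- **the cells of dimension 10 modulo CLAIM 0** -/
theorem ten_killE [Finite F] (h2 : (2 : F) ≠ 0) (hG : Good Q) (hN : Module.finrank F (ι → F) = 10)
    (hs : IsSimpleGroup (Cfsg.POmega F ⇑Q))
    (hC0 : ∀ (A : Subgroup (Cfsg.POmega F ⇑Q)) (Γ : Subgroup (MulAut (Cfsg.POmega F ⇑Q))), IF A Γ →
      ∀ t ∈ A.comap (omHom hG), t * t = 1 → (Module.finrank F (Vm t) = 2 ∨ Module.finrank F (Vm t) = 8) → False) :
    KillE (Cfsg.POmega F ⇑Q) := by
  intro A Γ h hev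
  have : Finite (Cfsg.POmega F ⇑Q) := Quotient.finite _
  have hna := hna_of_IF h
  refine ten_false h2 hG hN hna h (omHom hG) (omHom_surjective hG) (omHom_one_iff hG) (even_of_involution hev)
    (hC0 A Γ h) ?_
  intro t ht htt
  have hmul : omHom hG (t * t) = 1 := by
    rw [omHom_one_iff]
    right
    intro v
    rw [ap_mul]
    exact htt v
  have hne : omHom hG t ≠ 1 := by
    intro h1
    rcases (omHom_one_iff hG t).1 h1 with h3 | h3
    · obtain ⟨x, y, hxy⟩ := hG.exists_hyp
      have h4 := htt x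
      rw [h3, ap_one, ap_one] at h4
      have h5 : (2 : F) • x = 0 := by rw [two_smul]; nth_rewrite 1 [h4]; exact neg_add_cancel x
      exact hxy.left_ne ((smul_eq_zero.1 h5).resolve_left h2)
    · obtain ⟨x, y, hxy⟩ := hG.exists_hyp
      have h4 := htt x
      rw [h3, h3, neg_neg] at h4
      have h5 : (2 : F) • x = 0 := by rw [two_smul]; nth_rewrite 1 [h4]; exact neg_add_cancel x
      exact hxy.left_ne ((smul_eq_zero.1 h5).resolve_left h2)
  obtain ⟨z, hz, hz'⟩ := Cfsg.Agent.H786.IF.use_t h2 hG.nondeg (by rw [hN]; norm_num) h hna (omHom hG)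
    (omHom_surjective hG) (Subgroup.mem_comap.1 ht) hne hmul htt
  exact ⟨z, hz', hz⟩

end

end Cfsg.Agent.H556.IF
end

-- part: H132/IF/AltRow
section
prune_inst 0x4f17015400d00120000000586110020256c00059000208c00d5210e440206532a0902214044801c095808220000050020021000d040400000042004000005052180a812002140008c86000f803083580c00000000000000000000000000041004200000000
set_option linter.all false
open scoped Cfsg.Agent.FastGrp

-- part: H132/IF/Alt
section
/-!
# S5719, block ALT: base

For `T = A_m` (`m ≥ 7`) the group `Γ` is the image of `P = {g ∈ S_m | conj g ∈ Γ}`, and `A = P ∩ A_m`.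
-/

set_option autoImplicit false
set_option linter.unusedSectionVars false

namespace Cfsg.Agent.H132.IF

open Equiv Equiv.Perm MulAction Subgroup Cfsg.Agent.H209.Fxy

variable {m : ℕ}

/-- conjugation of `A_m` by permutations -/
def cn (m : ℕ) : Perm (Fin m) →* MulAut (alternatingGroup (Fin m)) := MulAut.conjNormal

theorem cn_apply (g : Perm (Fin m)) (x : alternatingGroup (Fin m)) :
    ((cn m g x : alternatingGroup (Fin m)) : Perm (Fin m)) = g * x * g⁻¹ := MulAut.conjNormal_apply g x

theorem cn_bij (hm : 7 ≤ m) : Function.Bijective (cn m) := Cfsg.Agent.S2119.result m (by omega) (by omega)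

theorem cn_coe (a : alternatingGroup (Fin m)) : cn m (a : Perm (Fin m)) = MulAut.conj a := by
  ext1 x
  apply Subtype.ext
  rw [cn_apply, MulAut.conj_apply]
  rfl

/-- the group of permutations inducing `Γ` -/
def PG (Γ : Subgroup (MulAut (alternatingGroup (Fin m)))) : Subgroup (Perm (Fin m)) := Γ.comap (cn m)

variable {A : Subgroup (alternatingGroup (Fin m))} {Γ : Subgroup (MulAut (alternatingGroup (Fin m)))}

theorem mem_PG {g : Perm (Fin m)} : g ∈ PG Γ ↔ cn m g ∈ Γ := Iff.rfl

theorem exists_PG (hm : 7 ≤ m) {σ : MulAut (alternatingGroup (Fin m))} (hσ : σ ∈ Γ) :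
    ∃ g ∈ PG Γ, σ = cn m g := by
  obtain ⟨g, rfl⟩ := (cn_bij hm).2 σ
  exact ⟨g, hσ, rfl⟩

theorem mem_A (h : IF A Γ) (a : alternatingGroup (Fin m)) : a ∈ A ↔ (a : Perm (Fin m)) ∈ PG Γ := by
  rw [mem_PG, cn_coe]
  exact (h.conj a).symm

/-- degrees 5 and 6: `n ≤ 360` -/
theorem kill_small {n : ℕ} (h5 : 5 ≤ n) (h6 : n ≤ 6) : Kill (alternatingGroup (Fin n)) := by
  intro A Γ h
  have h1 := h.big
  have h2 : A.index ∣ Nat.card (alternatingGroup (Fin n)) := Subgroup.index_dvd_card A
  have h3 : Nat.card (alternatingGroup (Fin n)) ≤ 360 := by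
    have : Nontrivial (Fin n) := Fin.nontrivial_iff_two_le.2 (by omega)
    rw [nat_card_alternatingGroup, Nat.card_eq_fintype_card, Fintype.card_fin]
    interval_cases n <;> decide
  have h4 := Nat.le_of_dvd Nat.card_pos h2
  omega

end Cfsg.Agent.H132.IF
end

-- part: H804/IF/Count
section
/-!
# S5719, alternating groups: counting with double transpositions (helper804)

* `dt e` : the double transposition `(e 0 e 1)(e 2 e 3)` in the alternating group;
* `count_dt` : `|T : A| * |S| ≤ m (m-1) (m-2) (m-3) * fx A (dt e₀)` for a set `S` of tuples `e` with `dt e ∈ A`;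
* `key` : `|T : A| ^ 5 * |S| ^ 6 < (m (m-1) (m-2) (m-3)) ^ 6` in a counterexample;
* `count_six` : `m (m-1) ⋯ (m-5) ≤ |T : A| * |S|` for an `A`-invariant set `S ≠ ∅` of 6-tuples.
-/

set_option autoImplicit false
set_option linter.unusedSectionVars false

namespace Cfsg.Agent.H804.IF

open MulAction Subgroup Equiv Cfsg.Agent.H209.Fxy

variable {m : ℕ}

/-- the double transposition of a tuple -/
def dt (e : Fin 4 ↪ Fin m) : ↥(alternatingGroup (Fin m)) :=
  ⟨swap (e 0) (e 1) * swap (e 2) (e 3), by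
    have h1 : e 0 ≠ e 1 := fun h => absurd (e.injective h) (by decide)
    have h2 : e 2 ≠ e 3 := fun h => absurd (e.injective h) (by decide)
    rw [Perm.mem_alternatingGroup, Perm.sign_mul, Perm.sign_swap h1, Perm.sign_swap h2]
    rfl⟩

theorem coe_dt (e : Fin 4 ↪ Fin m) : ((dt e : ↥(alternatingGroup (Fin m))) : Perm (Fin m)) =
    swap (e 0) (e 1) * swap (e 2) (e 3) := rfl

theorem smul_emb {k : ℕ} (g : ↥(alternatingGroup (Fin m))) (e : Fin k ↪ Fin m) (i : Fin k) :
    (g • e) i = (g : Perm (Fin m)) (e i) := rfl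

theorem dt_smul (g : ↥(alternatingGroup (Fin m))) (e : Fin 4 ↪ Fin m) : dt (g • e) = g * dt e * g⁻¹ := by
  apply Subtype.ext
  rw [coe_dt, smul_emb, smul_emb, smul_emb, smul_emb, Equiv.swap_apply_apply, Equiv.swap_apply_apply]
  show _ = (g : Perm (Fin m)) * (swap (e 0) (e 1) * swap (e 2) (e 3)) * (g : Perm (Fin m))⁻¹
  group

theorem dt_sq (e : Fin 4 ↪ Fin m) : dt e ^ 2 = 1 := by
  apply Subtype.ext
  have h1 : e 0 ≠ e 2 := fun h => absurd (e.injective h) (by decide)
  have h2 : e 0 ≠ e 3 := fun h => absurd (e.injective h) (by decide)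
  have h3 : e 1 ≠ e 2 := fun h => absurd (e.injective h) (by decide)
  have h4 : e 1 ≠ e 3 := fun h => absurd (e.injective h) (by decide)
  show (swap (e 0) (e 1) * swap (e 2) (e 3)) ^ 2 = 1
  have hd : Commute (swap (e 0) (e 1)) (swap (e 2) (e 3)) := by
    apply Perm.Disjoint.commute
    intro x
    by_cases hx0 : x = e 0
    · right
      rw [hx0]
      exact swap_apply_of_ne_of_ne h1 h2
    · by_cases hx1 : x = e 1
      · right
        rw [hx1]
        exact swap_apply_of_ne_of_ne h3 h4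
      · left
        exact swap_apply_of_ne_of_ne hx0 hx1
  rw [hd.mul_pow, pow_two, pow_two, swap_mul_self, swap_mul_self, one_mul]

/-- `dt e` moves `e 0` -/
theorem dt_zero (e : Fin 4 ↪ Fin m) : ((dt e : ↥(alternatingGroup (Fin m))) : Perm (Fin m)) (e 0) = e 1 := by
  have h1 : e 0 ≠ e 2 := fun h => absurd (e.injective h) (by decide)
  have h2 : e 0 ≠ e 3 := fun h => absurd (e.injective h) (by decide)
  rw [coe_dt, Perm.mul_apply, swap_apply_of_ne_of_ne h1 h2, swap_apply_left]

/-- `dt e` fixes the other points -/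
theorem dt_fix (e : Fin 4 ↪ Fin m) {x : Fin m} (hx : ∀ i, e i ≠ x) :
    ((dt e : ↥(alternatingGroup (Fin m))) : Perm (Fin m)) x = x := by
  rw [coe_dt, Perm.mul_apply, swap_apply_of_ne_of_ne (hx 2).symm (hx 3).symm,
    swap_apply_of_ne_of_ne (hx 0).symm (hx 1).symm]

theorem pretrans (k : ℕ) (hk : k + 2 ≤ m) (e e' : Fin k ↪ Fin m) :
    ∃ g : ↥(alternatingGroup (Fin m)), g • e = e' := by
  have h1 : IsMultiplyPretransitive ↥(alternatingGroup (Fin m)) (Fin m) (Nat.card (Fin m) - 2) :=
    alternatingGroup.isMultiplyPretransitive (Fin m)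
  have h2 : Nat.card (Fin m) = m := Nat.card_fin m
  have h3 : IsMultiplyPretransitive ↥(alternatingGroup (Fin m)) (Fin m) k :=
    isMultiplyPretransitive_of_le (n := Nat.card (Fin m) - 2) (by omega) (Nat.sub_le _ _)
  exact h3.exists_smul_eq e e'

theorem trans_pt (hm : 3 ≤ m) (x y : Fin m) : ∃ g : ↥(alternatingGroup (Fin m)), (g : Perm (Fin m)) x = y := by
  obtain ⟨g, hg⟩ := pretrans 1 (by omega) (⟨fun _ => x, fun i j _ => Subsingleton.elim i j⟩ : Fin 1 ↪ Fin m)
    ⟨fun _ => y, fun i j _ => Subsingleton.elim i j⟩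
  exact ⟨g, DFunLike.congr_fun hg 0⟩

/-- `dt e` is not central -/
theorem conj_dt_ne (hm : 5 ≤ m) (e : Fin 4 ↪ Fin m) : MulAut.conj (dt e) ≠ 1 := by
  intro h
  obtain ⟨x, hx⟩ : ∃ x : Fin m, ∀ i, e i ≠ x := by
    by_contra hcon
    push Not at hcon
    have h1 : Function.Surjective e := hcon
    have h2 := Fintype.card_le_of_surjective _ h1
    rw [Fintype.card_fin, Fintype.card_fin] at h2
    omega
  obtain ⟨g, hg⟩ := trans_pt (by omega) (e 0) x
  have h1 : dt (g • e) = dt e := by
    rw [dt_smul]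
    have h2 := DFunLike.congr_fun h g
    rw [MulAut.conj_apply, MulAut.one_apply] at h2
    -- dt e * g * (dt e)⁻¹ = g
    have h3 : dt e * g = g * dt e := by rwa [mul_inv_eq_iff_eq_mul] at h2
    rw [← h3, mul_inv_cancel_right]
  have h2 := dt_zero (g • e)
  rw [h1, smul_emb, smul_emb, hg, dt_fix e hx] at h2
  have h3 : e 1 = e 0 := (g : Perm (Fin m)).injective (by rw [← h2, hg])
  exact absurd (e.injective h3) (by decide)

theorem orderOf_conj_dt (hm : 5 ≤ m) (e : Fin 4 ↪ Fin m) : orderOf (MulAut.conj (dt e)) = 2 := by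
  have : Fact (Nat.Prime 2) := ⟨Nat.prime_two⟩
  exact orderOf_eq_prime (by rw [← map_pow, dt_sq, map_one]) (conj_dt_ne hm e)

section

variable {T : Type*} [Group T] [Finite T]

theorem fixSet_conj {A : Subgroup T} {t : T} (ht : t ∈ A) : fixSet A (MulAut.conj t) = {c : T ⧸ A | t • c = c} := by
  ext c
  induction c using QuotientGroup.induction_on with
  | H y =>
    have key : ∀ z : T, z⁻¹ * MulAut.conj t z ∈ A ↔ t • (z : T ⧸ A) = (z : T ⧸ A) := by
      intro z
      rw [MulAction.Quotient.smul_coe, QuotientGroup.eq, MulAut.conj_apply, smul_eq_mul, mul_inv_rev]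
      constructor
      · intro h
        have h1 := A.mul_mem h ht
        have h2 := A.inv_mem h1
        have h3 : (z⁻¹ * (t * z * t⁻¹) * t)⁻¹ = z⁻¹ * t⁻¹ * z := by group
        rwa [h3] at h2
      · intro h
        have h1 := A.mul_mem (A.inv_mem h) (A.inv_mem ht)
        have h3 : (z⁻¹ * t⁻¹ * z)⁻¹ * t⁻¹ = z⁻¹ * (t * z * t⁻¹) := by group
        rwa [h3] at h1
    constructor
    · rintro ⟨z, hz, hzA⟩
      rw [← hz]
      exact (key z).1 hzA
    · intro h
      exact ⟨y, rfl, (key y).2 h⟩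

end

/-- **Double counting.** -/
theorem count_dt (hm : 6 ≤ m) (A : Subgroup ↥(alternatingGroup (Fin m))) (S : Finset (Fin 4 ↪ Fin m))
    (hS : ∀ e ∈ S, dt e ∈ A) {e₀ : Fin 4 ↪ Fin m} (h₀ : e₀ ∈ S) :
    A.index * S.card ≤ m.descFactorial 4 * fx A (MulAut.conj (dt e₀)) := by
  classical
  have : Fintype (↥(alternatingGroup (Fin m)) ⧸ A) := Fintype.ofFinite _
  have hF : ∀ e : Fin 4 ↪ Fin m, ((Finset.univ : Finset (↥(alternatingGroup (Fin m)) ⧸ A)).bipartiteAbove
      (fun e c => dt e • c = c) e).card = fx A (MulAut.conj (dt e₀)) := by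
    intro e
    obtain ⟨g, rfl⟩ := pretrans 4 (by omega) e₀ e
    rw [fx, fixSet_conj (hS _ h₀), Set.ncard_eq_toFinset_card']
    refine Finset.card_bij' (fun c _ => g⁻¹ • c) (fun c _ => g • c) ?_ ?_ ?_ ?_
    · intro c hc
      rw [Finset.mem_bipartiteAbove] at hc
      rw [Set.mem_toFinset]
      show dt e₀ • g⁻¹ • c = g⁻¹ • c
      have h1 := hc.2
      rw [dt_smul, mul_smul, mul_smul] at h1
      rw [eq_inv_smul_iff]
      exact h1
    · intro c hc
      rw [Set.mem_toFinset] at hc
      have h1 : dt e₀ • c = c := hc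
      rw [Finset.mem_bipartiteAbove]
      refine ⟨Finset.mem_univ _, ?_⟩
      rw [dt_smul, mul_smul, mul_smul, inv_smul_smul, h1]
    · intro c _
      exact smul_inv_smul _ _
    · intro c _
      exact inv_smul_smul _ _
  have hN : ∀ c : ↥(alternatingGroup (Fin m)) ⧸ A, S.card ≤ ((Finset.univ : Finset (Fin 4 ↪ Fin m)).bipartiteBelow
      (fun e c => dt e • c = c) c).card := by
    intro c
    induction c using QuotientGroup.induction_on with
    | H y =>
      refine Finset.card_le_card_of_injOn (fun e => y • e) ?_ ?_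
      · intro e he
        rw [Finset.mem_coe, Finset.mem_bipartiteBelow]
        refine ⟨Finset.mem_univ _, ?_⟩
        have h1 := hS e he
        rw [dt_smul, MulAction.Quotient.smul_coe, QuotientGroup.eq, smul_eq_mul]
        have h2 : (y * dt e * y⁻¹ * y)⁻¹ * y = (dt e)⁻¹ := by group
        rw [h2]
        exact A.inv_mem h1
      · intro e _ e' _ h
        exact smul_left_cancel y h
  have hsum := Finset.sum_card_bipartiteAbove_eq_sum_card_bipartiteBelow
    (s := (Finset.univ : Finset (Fin 4 ↪ Fin m))) (t := (Finset.univ : Finset (↥(alternatingGroup (Fin m)) ⧸ A)))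
    (fun e c => dt e • c = c)
  rw [Finset.sum_congr rfl (fun e _ => hF e), Finset.sum_const, Finset.card_univ, Fintype.card_embedding_eq,
    Fintype.card_fin, Fintype.card_fin, smul_eq_mul] at hsum
  rw [hsum]
  calc A.index * S.card = ∑ c : ↥(alternatingGroup (Fin m)) ⧸ A, S.card := by
        rw [Finset.sum_const, Finset.card_univ, smul_eq_mul, Subgroup.index, Nat.card_eq_fintype_card]
    _ ≤ _ := Finset.sum_le_sum fun c _ => hN c

/-- **The inequality in a counterexample.** -/
theorem key (hm : 6 ≤ m) {A : Subgroup ↥(alternatingGroup (Fin m))}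
    {Γ : Subgroup (MulAut ↥(alternatingGroup (Fin m)))} (h : IF A Γ) (S : Finset (Fin 4 ↪ Fin m))
    (hS : ∀ e ∈ S, dt e ∈ A) (hne : S.Nonempty) : A.index ^ 5 * S.card ^ 6 < m.descFactorial 4 ^ 6 := by
  obtain ⟨e₀, h₀⟩ := hne
  have h1 := count_dt hm A S hS h₀
  have h2 := h.small _ ((h.conj _).2 (hS _ h₀)) (orderOf_conj_dt (by omega) e₀)
  have h3 : 0 < A.index := by have := h.big; omega
  have h4 : 0 < m.descFactorial 4 := Nat.descFactorial_pos.2 (by omega)
  have h5 : A.index ^ 6 * S.card ^ 6 ≤ m.descFactorial 4 ^ 6 * fx A (MulAut.conj (dt e₀)) ^ 6 := by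
    rw [← mul_pow, ← mul_pow]
    exact Nat.pow_le_pow_left h1 6
  have h6 : m.descFactorial 4 ^ 6 * fx A (MulAut.conj (dt e₀)) ^ 6 < m.descFactorial 4 ^ 6 * A.index :=
    Nat.mul_lt_mul_of_pos_left h2 (pow_pos h4 6)
  have h7 : A.index * (A.index ^ 5 * S.card ^ 6) < A.index * m.descFactorial 4 ^ 6 := by
    calc A.index * (A.index ^ 5 * S.card ^ 6) = A.index ^ 6 * S.card ^ 6 := by ring
      _ < m.descFactorial 4 ^ 6 * A.index := lt_of_le_of_lt h5 h6
      _ = _ := by ring
  exact Nat.lt_of_mul_lt_mul_left h7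

/-- **Counting 6-tuples.** -/
theorem count_six (hm : 8 ≤ m) (A : Subgroup ↥(alternatingGroup (Fin m))) (S : Finset (Fin 6 ↪ Fin m))
    (hS : ∀ a ∈ A, ∀ e ∈ S, a • e ∈ S) (hne : S.Nonempty) : m.descFactorial 6 ≤ A.index * S.card := by
  classical
  have : Fintype (↥(alternatingGroup (Fin m)) ⧸ A) := Fintype.ofFinite _
  have h1 : Fintype.card (Fin 6 ↪ Fin m) ≤ Fintype.card ((↥(alternatingGroup (Fin m)) ⧸ A) × S) := by
    refine Fintype.card_le_of_surjective (fun x => x.1.out • (x.2 : Fin 6 ↪ Fin m)) ?_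
    intro e'
    obtain ⟨e, he⟩ := hne
    obtain ⟨g, hg⟩ := pretrans 6 (by omega) e e'
    obtain ⟨a, ha⟩ : ∃ a : ↥A, ((g : ↥(alternatingGroup (Fin m)) ⧸ A)).out = g * a := by
      have h2 : ((g : ↥(alternatingGroup (Fin m)) ⧸ A).out : ↥(alternatingGroup (Fin m)) ⧸ A) =
          (g : ↥(alternatingGroup (Fin m)) ⧸ A) := QuotientGroup.out_eq' _
      rw [eq_comm, QuotientGroup.eq] at h2
      exact ⟨⟨_, h2⟩, by rw [mul_inv_cancel_left]⟩
    refine ⟨((g : ↥(alternatingGroup (Fin m)) ⧸ A), ⟨(a : ↥(alternatingGroup (Fin m)))⁻¹ • e,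
      hS _ (A.inv_mem a.2) e he⟩), ?_⟩
    show (g : ↥(alternatingGroup (Fin m)) ⧸ A).out • ((a : ↥(alternatingGroup (Fin m)))⁻¹ • e) = e'
    rw [ha]
    calc (g * (a : ↥(alternatingGroup (Fin m)))) • ((a : ↥(alternatingGroup (Fin m)))⁻¹ • e)
        = g • ((a : ↥(alternatingGroup (Fin m))) • ((a : ↥(alternatingGroup (Fin m)))⁻¹ • e)) := mul_smul _ _ _
      _ = g • e := congrArg (g • ·) (smul_inv_smul _ _)
      _ = e' := hg
  rw [Fintype.card_embedding_eq, Fintype.card_fin, Fintype.card_fin, Fintype.card_prod, Fintype.card_coe] at h1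
  rwa [Subgroup.index, Nat.card_eq_fintype_card]

end Cfsg.Agent.H804.IF
end

-- part: H804/IF/Prim
section
/-!
# S5719, alternating groups: the stabilizer is primitive on the `m` points (helper804)

`isPreprimitive` : in a counterexample with `T = A_m`, `m ≥ 7`, the group `P ≤ S_m` is primitive.
-/

set_option autoImplicit false
set_option linter.unusedSectionVars false

namespace Cfsg.Agent.H804.IF

open MulAction Subgroup Equiv Cfsg.Agent.H209.Fxy
open scoped Pointwise

variable {m : ℕ}

theorem coe_conjNormal (g : Perm (Fin m)) (b : ↥(alternatingGroup (Fin m))) :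
    ((MulAut.conjNormal g b : ↥(alternatingGroup (Fin m))) : Perm (Fin m)) = g * b * g⁻¹ :=
  MulAut.conjNormal_apply g b

theorem app_inv (g : Perm (Fin m)) (x : Fin m) : g (g⁻¹ x) = x := by
  rw [← Perm.mul_apply, mul_inv_cancel, Perm.one_apply]

theorem inv_app (g : Perm (Fin m)) (x : Fin m) : g⁻¹ (g x) = x := by
  rw [← Perm.mul_apply, inv_mul_cancel, Perm.one_apply]

/-! ### intransitive -/

/-- the stabilizer of a set -/
def stab (Δ : Set (Fin m)) : Subgroup ↥(alternatingGroup (Fin m)) where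
  carrier := {t | ∀ x, (t : Perm (Fin m)) x ∈ Δ ↔ x ∈ Δ}
  one_mem' := fun _ => Iff.rfl
  mul_mem' := fun {a b} ha hb x => (ha _).trans (hb x)
  inv_mem' := fun {a} ha x => by
    have h1 := ha ((a : Perm (Fin m))⁻¹ x)
    rw [app_inv] at h1
    exact h1.symm

theorem swap_mem_iff {Δ : Set (Fin m)} {a b : Fin m} (ha : a ∈ Δ) (hb : b ∈ Δ) (x : Fin m) :
    swap a b x ∈ Δ ↔ x ∈ Δ := by
  rcases eq_or_ne x a with rfl | hxa
  · rw [swap_apply_left]; exact ⟨fun _ => ha, fun _ => hb⟩
  · rcases eq_or_ne x b with rfl | hxb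
    · rw [swap_apply_right]; exact ⟨fun _ => hb, fun _ => ha⟩
    · rw [swap_apply_of_ne_of_ne hxa hxb]

theorem dt_mem_stab {Δ : Set (Fin m)} {e : Fin 4 ↪ Fin m} (he : ∀ i, e i ∈ Δ) : dt e ∈ stab Δ := by
  intro x
  rw [coe_dt, Perm.mul_apply, swap_mem_iff (he 0) (he 1), swap_mem_iff (he 2) (he 3)]

theorem desc_bound {k m : ℕ} (hk : 4 ≤ k) (hm : m ≤ 2 * k) : m.descFactorial 4 ≤ 70 * k.descFactorial 4 := by
  refine (Nat.descFactorial_le 4 hm).trans ?_
  obtain ⟨j, rfl⟩ := Nat.exists_eq_add_of_le hk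
  have h1 : (2 * (4 + j)).descFactorial 4 = (2 * j + 5) * ((2 * j + 6) * ((2 * j + 7) * (2 * j + 8))) := by
    have e1 : 2 * (4 + j) - 3 = 2 * j + 5 := by omega
    have e2 : 2 * (4 + j) - 2 = 2 * j + 6 := by omega
    have e3 : 2 * (4 + j) - 1 = 2 * j + 7 := by omega
    have e4 : 2 * (4 + j) = 2 * j + 8 := by omega
    rw [Nat.descFactorial_succ, Nat.descFactorial_succ, Nat.descFactorial_succ, Nat.descFactorial_succ,
      Nat.descFactorial_zero, e1, e2, e3, Nat.sub_zero, e4, mul_one]
  have h2 : (4 + j).descFactorial 4 = (j + 1) * ((j + 2) * ((j + 3) * (j + 4))) := by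
    have e1 : 4 + j - 3 = j + 1 := by omega
    have e2 : 4 + j - 2 = j + 2 := by omega
    have e3 : 4 + j - 1 = j + 3 := by omega
    rw [Nat.descFactorial_succ, Nat.descFactorial_succ, Nat.descFactorial_succ, Nat.descFactorial_succ,
      Nat.descFactorial_zero, e1, e2, e3, Nat.sub_zero, mul_one, Nat.add_comm 4 j]
  rw [h1, h2]
  linarith only [sq_nonneg j, mul_nonneg (sq_nonneg j) (Nat.zero_le j), _root_.mul_self_nonneg (↑j ^ 2 : ℤ), _root_.sq_nonneg (↑j : ℤ), _root_.Nat.cast_nonneg (α := ℤ) (j), _root_.sq_nonneg (j : ℕ)]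

section

variable {A : Subgroup ↥(alternatingGroup (Fin m))} {Γ : Subgroup (MulAut ↥(alternatingGroup (Fin m)))}

/-- **No invariant set.** -/
theorem intrans_aux (hm : 7 ≤ m) (h : IF A Γ) (P : Subgroup (Perm (Fin m)))
    (hP : ∀ σ ∈ Γ, ∃ g ∈ P, σ = MulAut.conjNormal g) (hA : ∀ a ∈ A, (a : Perm (Fin m)) ∈ P)
    (Δ : Set (Fin m)) (hΔ : ∀ g ∈ P, ∀ x, g x ∈ Δ ↔ x ∈ Δ) (h0 : Δ.Nonempty) (h1 : Δ ≠ Set.univ)
    (h2 : m ≤ 2 * Δ.ncard) : False := by
  classical
  have hA' : A ≤ stab Δ := fun a ha x => hΔ _ (hA a ha) x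
  have hne : stab Δ ≠ ⊤ := by
    intro ht
    obtain ⟨x, hx⟩ := h0
    obtain ⟨y, hy⟩ := (Set.ne_univ_iff_exists_notMem Δ).1 h1
    obtain ⟨g, hg⟩ := trans_pt (by omega) x y
    have h3 : g ∈ stab Δ := by rw [ht]; exact mem_top _
    exact hy (hg ▸ (h3 x).2 hx)
  have hinv : ∀ σ ∈ Γ, ∀ b ∈ stab Δ, σ b ∈ stab Δ := by
    intro σ hσ b hb x
    obtain ⟨g, hg, rfl⟩ := hP σ hσ
    rw [coe_conjNormal, Perm.mul_apply, Perm.mul_apply, hΔ g hg, hb, hΔ g⁻¹ (P.inv_mem hg)]
  have hB : stab Δ = A := (h.max (stab Δ) hA' hinv).resolve_right hne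
  have hk : 4 ≤ Δ.ncard := by omega
  set S : Finset (Fin 4 ↪ Fin m) := Finset.univ.filter fun e => ∀ i, e i ∈ Δ with hS
  have hcard : Δ.ncard.descFactorial 4 ≤ S.card := by
    have h3 : Fintype.card (Fin 4 ↪ Δ) = Δ.ncard.descFactorial 4 := by
      rw [Fintype.card_embedding_eq, Fintype.card_fin, ← Nat.card_eq_fintype_card]
      rfl
    rw [← h3, ← Fintype.card_coe]
    refine Fintype.card_le_of_injective (fun e : Fin 4 ↪ Δ => (⟨e.trans (Function.Embedding.subtype _),
      Finset.mem_filter.2 ⟨Finset.mem_univ _, fun i => (e i).2⟩⟩ : S)) ?_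
    intro e e' hee
    have h4 := congrArg Subtype.val hee
    ext i
    exact congrArg Fin.val (DFunLike.congr_fun h4 i)
  have hpos : 0 < Δ.ncard.descFactorial 4 := Nat.descFactorial_pos.2 hk
  have hk1 := key (by omega) h S (fun e he => by
    rw [← hB]
    exact dt_mem_stab (Finset.mem_filter.1 he).2) (Finset.card_pos.1 (by omega))
  have h5 : m.descFactorial 4 ≤ 70 * S.card := (desc_bound hk h2).trans (by omega)
  have h6 : A.index ^ 5 * S.card ^ 6 < 70 ^ 6 * S.card ^ 6 := by
    refine hk1.trans_le ?_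
    rw [← mul_pow]
    exact Nat.pow_le_pow_left h5 6
  have h7 : A.index ^ 5 < 70 ^ 6 := Nat.lt_of_mul_lt_mul_right h6
  have h8 : 730 ^ 5 ≤ A.index ^ 5 := Nat.pow_le_pow_left h.big 5
  omega

/-- **`P` is transitive.** -/
theorem isPretransitive (hm : 7 ≤ m) (h : IF A Γ) (P : Subgroup (Perm (Fin m)))
    (hP : ∀ σ ∈ Γ, ∃ g ∈ P, σ = MulAut.conjNormal g) (hA : ∀ a ∈ A, (a : Perm (Fin m)) ∈ P) :
    IsPretransitive P (Fin m) := by
  classical
  by_contra hcon
  have hex : ∃ x y : Fin m, y ∉ orbit P x := by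
    by_contra h1
    push Not at h1
    exact hcon ⟨fun x y => h1 x y⟩
  obtain ⟨x, y, hxy⟩ := hex
  have hinv : ∀ g ∈ P, ∀ z, g z ∈ orbit P x ↔ z ∈ orbit P x := by
    intro g hg z
    constructor
    · intro h1
      have h2 := mem_orbit_of_mem_orbit (⟨g⁻¹, P.inv_mem hg⟩ : P) h1
      have h3 : (⟨g⁻¹, P.inv_mem hg⟩ : P) • (g z) = z := by
        show g⁻¹ (g z) = z
        exact inv_app g z
      rwa [h3] at h2
    · intro h1
      exact mem_orbit_of_mem_orbit (⟨g, hg⟩ : P) h1
  have hsum : (orbit P x).ncard + (orbit P x)ᶜ.ncard = m := by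
    rw [Set.ncard_add_ncard_compl, Nat.card_fin]
  rcases le_total (orbit P x)ᶜ.ncard (orbit P x).ncard with h1 | h1
  · exact intrans_aux hm h P hP hA (orbit P x) hinv ⟨x, mem_orbit_self x⟩
      (fun he => hxy (by rw [he]; exact Set.mem_univ _)) (by omega)
  · exact intrans_aux hm h P hP hA (orbit P x)ᶜ (fun g hg z => not_congr (hinv g hg z)) ⟨y, hxy⟩
      (fun he => (he.symm ▸ Set.mem_univ x : x ∈ (orbit P x)ᶜ) (mem_orbit_self x)) (by omega)

end

/-! ### imprimitive -/

/-- the relation: `x`, `y` are in the same translates of `B` -/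
def R (P : Subgroup (Perm (Fin m))) (B : Set (Fin m)) (x y : Fin m) : Prop := ∀ g : P, x ∈ g • B ↔ y ∈ g • B

section

variable {P : Subgroup (Perm (Fin m))} {B : Set (Fin m)}

theorem R.refl (x : Fin m) : R P B x x := fun _ => Iff.rfl
theorem R.symm {x y : Fin m} (h : R P B x y) : R P B y x := fun g => (h g).symm
theorem R.trans {x y z : Fin m} (h : R P B x y) (h' : R P B y z) : R P B x z := fun g => (h g).trans (h' g)

theorem R.smul {x y : Fin m} (h : R P B x y) (g : P) : R P B ((g : Perm (Fin m)) x) ((g : Perm (Fin m)) y) := by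
  intro k
  have key : ∀ z : Fin m, z ∈ (g⁻¹ * k) • B ↔ (g : Perm (Fin m)) z ∈ k • B := by
    intro z
    rw [mul_smul, Set.mem_smul_set_iff_inv_smul_mem, inv_inv]
    rfl
  rw [← key, ← key]
  exact h (g⁻¹ * k)

theorem R_iff {x y : Fin m} {g : Perm (Fin m)} (hg : g ∈ P) : R P B (g x) (g y) ↔ R P B x y := by
  constructor
  · intro h
    have h1 := h.smul ⟨g⁻¹, P.inv_mem hg⟩
    have h2 : R P B (g⁻¹ (g x)) (g⁻¹ (g y)) := h1
    rwa [inv_app, inv_app] at h2
  · intro h
    exact h.smul ⟨g, hg⟩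

/-- the class of a point -/
noncomputable def cls (P : Subgroup (Perm (Fin m))) (B : Set (Fin m)) (x : Fin m) : Finset (Fin m) := by
  classical exact Finset.univ.filter fun y => R P B x y

theorem mem_cls {x y : Fin m} : y ∈ cls P B x ↔ R P B x y := by
  unfold cls
  simp only [_root_.Finset.mem_filter, _root_.Finset.mem_univ, _root_.true_and]

theorem card_cls (hB : IsBlock P B) (htr : IsPretransitive P (Fin m)) (hne : B.Nonempty) (x : Fin m) :
    (cls P B x).card = B.ncard := by
  obtain ⟨b, hb⟩ := hne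
  obtain ⟨g, hg⟩ := htr.exists_smul_eq b x
  have hx : x ∈ g • B := ⟨b, hb, hg⟩
  have h1 : ((cls P B x : Finset (Fin m)) : Set (Fin m)) = g • B := by
    ext y
    rw [Finset.mem_coe, mem_cls]
    constructor
    · intro h
      exact (h g).1 hx
    · intro hy k
      constructor
      · intro hk
        have h2 : g • B = k • B := by
          by_contra hcon
          exact Set.disjoint_left.1 (hB hcon) hx hk
        rwa [← h2]
      · intro hk
        have h2 : g • B = k • B := by
          by_contra hcon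
          exact Set.disjoint_left.1 (hB hcon) hy hk
        rwa [← h2]
  rw [← Set.ncard_coe_finset, h1, Set.ncard_smul_set]

/-- the other points of the class -/
noncomputable def nb (P : Subgroup (Perm (Fin m))) (B : Set (Fin m)) (x : Fin m) : Finset (Fin m) := by
  classical exact (cls P B x).erase x

theorem mem_nb {x y : Fin m} : y ∈ nb P B x ↔ y ≠ x ∧ R P B x y := by
  unfold nb
  rw [Finset.mem_erase, mem_cls]

theorem card_nb (hB : IsBlock P B) (htr : IsPretransitive P (Fin m)) (hne : B.Nonempty) (x : Fin m) :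
    (nb P B x).card = B.ncard - 1 := by
  classical
  unfold nb
  rw [Finset.card_erase_of_mem (mem_cls.2 (R.refl x)), card_cls hB htr hne]

/-- pairs in a class, first point in `U` -/
theorem card_pairs (hB : IsBlock P B) (htr : IsPretransitive P (Fin m)) (hne : B.Nonempty) (U : Finset (Fin m)) :
    (U.sigma fun x => nb P B x).card = U.card * (B.ncard - 1) := by
  rw [Finset.card_sigma, Finset.sum_congr rfl fun x _ => card_nb hB htr hne x, Finset.sum_const, smul_eq_mul]

/-- the tuples of two pairs -/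
theorem four_le (hB : IsBlock P B) (htr : IsPretransitive P (Fin m)) (hne : B.Nonempty)
    (S : Finset (Fin 4 ↪ Fin m)) (hS : ∀ e : Fin 4 ↪ Fin m, R P B (e 0) (e 1) → R P B (e 2) (e 3) → e ∈ S) :
    (m * (B.ncard - 1)) * ((m - B.ncard) * (B.ncard - 1)) ≤ S.card := by
  classical
  let D : Finset (Σ _ : (Σ _ : Fin m, Fin m), (Σ _ : Fin m, Fin m)) :=
    ((Finset.univ : Finset (Fin m)).sigma fun x => nb P B x).sigma fun p =>
      ((cls P B p.1)ᶜ).sigma fun x => nb P B x
  have hD : D.card = (m * (B.ncard - 1)) * ((m - B.ncard) * (B.ncard - 1)) := by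
    show (((Finset.univ : Finset (Fin m)).sigma fun x => nb P B x).sigma fun p =>
      ((cls P B p.1)ᶜ).sigma fun x => nb P B x).card = _
    rw [Finset.card_sigma]
    rw [Finset.sum_congr rfl fun p _ => by
      rw [card_pairs hB htr hne, Finset.card_compl, card_cls hB htr hne, Fintype.card_fin]]
    rw [Finset.sum_const, card_pairs hB htr hne, Finset.card_univ, Fintype.card_fin, smul_eq_mul]
  rw [← hD]
  have hval : ∀ d ∈ D, d.1.1 ≠ d.1.2 ∧ d.2.1 ≠ d.2.2 ∧ R P B d.1.1 d.1.2 ∧ R P B d.2.1 d.2.2 ∧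
      ¬ R P B d.1.1 d.2.1 := by
    rintro ⟨⟨x, y⟩, ⟨z, w⟩⟩ hd
    rw [Finset.mem_sigma, Finset.mem_sigma, Finset.mem_sigma] at hd
    obtain ⟨⟨-, h1⟩, h2, h3⟩ := hd
    have h1' := mem_nb.1 h1
    have h3' := mem_nb.1 h3
    have h2' : ¬ R P B x z := fun h => (Finset.mem_compl.1 h2) (mem_cls.2 h)
    exact ⟨h1'.1.symm, h3'.1.symm, h1'.2, h3'.2, h2'⟩
  have hinj : ∀ d ∈ D, Function.Injective (![d.1.1, d.1.2, d.2.1, d.2.2] : Fin 4 → Fin m) := by
    intro d hd
    obtain ⟨h1, h2, h3, h4, h5⟩ := hval d hd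
    have h6 : d.1.1 ≠ d.2.1 := fun h => h5 (h ▸ R.refl _)
    have h7 : d.1.1 ≠ d.2.2 := fun h => h5 (h ▸ h4.symm)
    have h8 : d.1.2 ≠ d.2.1 := fun h => h5 (h ▸ h3)
    have h9 : d.1.2 ≠ d.2.2 := fun h => h5 ((h ▸ h3).trans h4.symm)
    intro i j hij
    fin_cases i <;> fin_cases j
    · rfl
    · exact absurd hij h1
    · exact absurd hij h6
    · exact absurd hij h7
    · exact absurd hij.symm h1
    · rfl
    · exact absurd hij h8
    · exact absurd hij h9
    · exact absurd hij.symm h6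
    · exact absurd hij.symm h8
    · rfl
    · exact absurd hij h2
    · exact absurd hij.symm h7
    · exact absurd hij.symm h9
    · exact absurd hij.symm h2
    · rfl
  refine Finset.card_le_card_of_surjOn (fun e => ⟨⟨e 0, e 1⟩, ⟨e 2, e 3⟩⟩) ?_
  intro d hd
  rw [Finset.mem_coe] at hd
  obtain ⟨-, -, h3, h4, -⟩ := hval d hd
  exact ⟨⟨_, hinj d hd⟩, Finset.mem_coe.2 (hS _ h3 h4), rfl⟩

/-- the tuples of three pairs in different classes -/
theorem six_le (hB : IsBlock P B) (htr : IsPretransitive P (Fin m)) (hne : B.Nonempty)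
    (S : Finset (Fin 6 ↪ Fin m)) (hS : ∀ e ∈ S, R P B (e 0) (e 1) ∧ R P B (e 2) (e 3) ∧ R P B (e 4) (e 5) ∧
      ¬ R P B (e 0) (e 2) ∧ ¬ R P B (e 0) (e 4) ∧ ¬ R P B (e 2) (e 4)) :
    S.card ≤ (m * (B.ncard - 1)) * (((m - B.ncard) * (B.ncard - 1)) * ((m - 2 * B.ncard) * (B.ncard - 1))) := by
  classical
  let Q := (Σ _ : Fin m, Fin m)
  let D : Finset (Σ _ : Q, (Σ _ : Q, Q)) :=
    ((Finset.univ : Finset (Fin m)).sigma fun x => nb P B x).sigma fun p =>
      (((cls P B p.1)ᶜ).sigma fun x => nb P B x).sigma fun q =>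
        ((cls P B p.1 ∪ cls P B q.1)ᶜ).sigma fun x => nb P B x
  have hD : D.card = (m * (B.ncard - 1)) * (((m - B.ncard) * (B.ncard - 1)) * ((m - 2 * B.ncard) * (B.ncard - 1))) := by
    have h1 : ∀ p : Q, ((((cls P B p.1)ᶜ).sigma fun x => nb P B x).sigma fun q =>
        ((cls P B p.1 ∪ cls P B q.1)ᶜ).sigma fun x => nb P B x).card =
          ((m - B.ncard) * (B.ncard - 1)) * ((m - 2 * B.ncard) * (B.ncard - 1)) := by
      intro p
      have h2 : ∀ q ∈ (((cls P B p.1)ᶜ).sigma fun x => nb P B x),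
          (((cls P B p.1 ∪ cls P B q.1)ᶜ).sigma fun x => nb P B x).card = (m - 2 * B.ncard) * (B.ncard - 1) := by
        intro q hq
        rw [Finset.mem_sigma] at hq
        have h3 : Disjoint (cls P B p.1) (cls P B q.1) := by
          rw [Finset.disjoint_left]
          intro y hy hy'
          exact (Finset.mem_compl.1 hq.1) (mem_cls.2 ((mem_cls.1 hy).trans (mem_cls.1 hy').symm))
        rw [card_pairs hB htr hne, Finset.card_compl, Finset.card_union_of_disjoint h3, card_cls hB htr hne,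
          card_cls hB htr hne, Fintype.card_fin, two_mul]
      rw [Finset.card_sigma, Finset.sum_congr rfl h2, Finset.sum_const, card_pairs hB htr hne, Finset.card_compl,
        card_cls hB htr hne, Fintype.card_fin, smul_eq_mul]
    show (((Finset.univ : Finset (Fin m)).sigma fun x => nb P B x).sigma fun p =>
      (((cls P B p.1)ᶜ).sigma fun x => nb P B x).sigma fun q =>
        ((cls P B p.1 ∪ cls P B q.1)ᶜ).sigma fun x => nb P B x).card = _
    rw [Finset.card_sigma, Finset.sum_congr rfl fun p _ => h1 p, Finset.sum_const, card_pairs hB htr hne,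
      Finset.card_univ, Fintype.card_fin, smul_eq_mul]
  rw [← hD]
  refine Finset.card_le_card_of_injOn (fun e => ⟨⟨e 0, e 1⟩, ⟨⟨e 2, e 3⟩, ⟨e 4, e 5⟩⟩⟩) ?_ ?_
  · intro e he
    obtain ⟨h1, h2, h3, h4, h5, h6⟩ := hS e (Finset.mem_coe.1 he)
    have k1 : e 1 ≠ e 0 := fun h => absurd (e.injective h) (by decide)
    have k2 : e 3 ≠ e 2 := fun h => absurd (e.injective h) (by decide)
    have k3 : e 5 ≠ e 4 := fun h => absurd (e.injective h) (by decide)
    rw [Finset.mem_coe]
    refine Finset.mem_sigma.2 ⟨Finset.mem_sigma.2 ⟨Finset.mem_univ _, mem_nb.2 ⟨k1, h1⟩⟩,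
      Finset.mem_sigma.2 ⟨Finset.mem_sigma.2 ⟨Finset.mem_compl.2 fun h => h4 (mem_cls.1 h), mem_nb.2 ⟨k2, h2⟩⟩,
        Finset.mem_sigma.2 ⟨Finset.mem_compl.2 fun h => ?_, mem_nb.2 ⟨k3, h3⟩⟩⟩⟩
    rcases Finset.mem_union.1 h with h | h
    · exact h5 (mem_cls.1 h)
    · exact h6 (mem_cls.1 h)
  · intro e _ e' _ h
    have h' : ((⟨⟨e 0, e 1⟩, ⟨⟨e 2, e 3⟩, ⟨e 4, e 5⟩⟩⟩ : Σ _ : Q, (Σ _ : Q, Q))) =
      ⟨⟨e' 0, e' 1⟩, ⟨⟨e' 2, e' 3⟩, ⟨e' 4, e' 5⟩⟩⟩ := h
    have a0 : e 0 = e' 0 := congrArg (fun d : (Σ _ : Q, (Σ _ : Q, Q)) => d.1.1) h'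
    have a1 : e 1 = e' 1 := congrArg (fun d : (Σ _ : Q, (Σ _ : Q, Q)) => d.1.2) h'
    have a2 : e 2 = e' 2 := congrArg (fun d : (Σ _ : Q, (Σ _ : Q, Q)) => d.2.1.1) h'
    have a3 : e 3 = e' 3 := congrArg (fun d : (Σ _ : Q, (Σ _ : Q, Q)) => d.2.1.2) h'
    have a4 : e 4 = e' 4 := congrArg (fun d : (Σ _ : Q, (Σ _ : Q, Q)) => d.2.2.1) h'
    have a5 : e 5 = e' 5 := congrArg (fun d : (Σ _ : Q, (Σ _ : Q, Q)) => d.2.2.2) h'
    refine Function.Embedding.ext fun i => ?_
    fin_cases i
    · exact a0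
    · exact a1
    · exact a2
    · exact a3
    · exact a4
    · exact a5

end

/-! ### numbers -/

theorem num_one {a b : ℕ} (ha : 1 ≤ a) (hb : 1 ≤ b) :
    (a * b + a + b) * ((a * b + a + b - 1) * (a * b + a + b - 2)) ≤ 4 * (b + 1) ^ 2 * (a * (a * ((a + 1) * b))) := by
  obtain ⟨b, rfl⟩ := Nat.exists_eq_add_of_le' hb
  rcases Nat.lt_or_ge a 3 with h | h
  · interval_cases a
    · have e1 : 1 * (b + 1) + 1 + (b + 1) = 2 * b + 3 := by ring
      have e2 : 2 * b + 3 - 1 = 2 * b + 2 := by omega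
      have e3 : 2 * b + 3 - 2 = 2 * b + 1 := by omega
      rw [e1, e2, e3]
      linarith only [_root_.sq_nonneg (↑b : ℤ), _root_.Nat.cast_nonneg (α := ℤ) (b)]
    · have e1 : 2 * (b + 1) + 2 + (b + 1) = 3 * b + 5 := by ring
      have e2 : 3 * b + 5 - 1 = 3 * b + 4 := by omega
      have e3 : 3 * b + 5 - 2 = 3 * b + 3 := by omega
      rw [e1, e2, e3]
      linarith only [sq_nonneg b, mul_nonneg (sq_nonneg b) (Nat.zero_le b)]
  · have h1 : a * (b + 1) + a + (b + 1) ≤ (a + 1) * (b + 2) := by linarith only []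
    have h2 : a * (b + 1) + a + (b + 1) - 1 ≤ (a + 1) * (b + 2) := (Nat.sub_le _ _).trans h1
    have h3 : a * (b + 1) + a + (b + 1) - 2 ≤ (a + 1) * (b + 2) := (Nat.sub_le _ _).trans h1
    have h4 : (a + 1) * (a + 1) ≤ 2 * (a * a) := by nlinarith only [h]
    calc (a * (b + 1) + a + (b + 1)) * ((a * (b + 1) + a + (b + 1) - 1) * (a * (b + 1) + a + (b + 1) - 2))
        ≤ ((a + 1) * (b + 2)) * (((a + 1) * (b + 2)) * ((a + 1) * (b + 2))) :=
          Nat.mul_le_mul h1 (Nat.mul_le_mul h2 h3)
      _ = ((a + 1) * (a + 1)) * ((a + 1) * ((b + 2) ^ 2 * (b + 2))) := by ring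
      _ ≤ (2 * (a * a)) * ((a + 1) * ((b + 2) ^ 2 * (2 * (b + 1)))) := by
          refine Nat.mul_le_mul h4 (Nat.mul_le_mul_left _ (Nat.mul_le_mul_left _ (by omega)))
      _ = _ := by ring

theorem num_two {a b : ℕ} (ha : 2 ≤ a) (hb : 2 ≤ b) :
    (a * b - 1) * ((a * b - 2) * (a * b - 3)) ≤ 4 * b ^ 2 * ((a - 1) * ((a * b - a) * (a - 1))) := by
  obtain ⟨x, rfl⟩ := Nat.exists_eq_add_of_le' (show 1 ≤ a by omega)
  obtain ⟨y, rfl⟩ := Nat.exists_eq_add_of_le' (show 1 ≤ b by omega)
  have h1 := num_one (a := x) (b := y) (by omega) (by omega)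
  have e : (x + 1) * (y + 1) = x * y + x + y + 1 := by ring
  have e1 : (x + 1) * (y + 1) - 1 = x * y + x + y := by omega
  have e2 : (x + 1) * (y + 1) - 2 = x * y + x + y - 1 := by (clear * - e1; omega)
  have e3 : (x + 1) * (y + 1) - 3 = x * y + x + y - 2 := by (clear * - e1; omega)
  have e4 : (x + 1) * (y + 1) - (x + 1) = (x + 1) * y := by
    rw [Nat.mul_succ, Nat.add_sub_cancel]
  rw [e1, e2, e3, e4, Nat.add_sub_cancel]
  refine h1.trans (le_of_eq ?_)
  ring

/-- the end of the imprimitive case -/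
theorem num_end {n a b m : ℕ} (hmdef : m = a * b) (ha : 2 ≤ a) (hb : 2 ≤ b) (hm : 7 ≤ m) (hn : 729 < n)
    (h1 : n ^ 5 * ((m * (a - 1)) * ((m - a) * (a - 1))) ^ 6 < m.descFactorial 4 ^ 6)
    (h2 : 8 ≤ b → m.descFactorial 6 ≤
      n * ((m * (a - 1)) * (((m - a) * (a - 1)) * ((m - 2 * a) * (a - 1))))) : False := by
  set U := (a - 1) * ((m - a) * (a - 1)) with hU
  set V := (m - 1) * ((m - 2) * (m - 3)) with hV
  have hd4 : m.descFactorial 4 = m * V := by
    rw [Nat.descFactorial_succ, Nat.descFactorial_succ, Nat.descFactorial_succ, Nat.descFactorial_succ,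
      Nat.descFactorial_zero, Nat.sub_zero, mul_one, hV]
    ring
  have hU4 : (m * (a - 1)) * ((m - a) * (a - 1)) = m * U := by rw [hU]; ring
  have hm0 : 0 < m := by omega
  have hma : a < m := by rw [hmdef]; nlinarith only [hmdef, hb, hm]
  have hUpos : 0 < U := by
    have h3 : 0 < a - 1 := by omega
    have h4 : 0 < m - a := by omega
    (clear * - h3 h4; positivity)
  have hVU : V ≤ 4 * b ^ 2 * U := by
    rw [hV, hU, hmdef]
    exact num_two ha hb
  have k1 : n ^ 5 * U ^ 6 < V ^ 6 := by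
    rw [hU4, hd4] at h1
    have h3 : m ^ 6 * (n ^ 5 * U ^ 6) < m ^ 6 * V ^ 6 := by
      calc m ^ 6 * (n ^ 5 * U ^ 6) = n ^ 5 * (m * U) ^ 6 := by ring
        _ < (m * V) ^ 6 := h1
        _ = m ^ 6 * V ^ 6 := by ring
    exact Nat.lt_of_mul_lt_mul_left h3
  rcases Nat.lt_or_ge b 8 with hb8 | hb8
  · have h3 : V ≤ 196 * U := by
      refine hVU.trans (Nat.mul_le_mul_right _ ?_)
      have : b ≤ 7 := by omega
      nlinarith only [hb8]
    have h4 : n ^ 5 * U ^ 6 < 196 ^ 6 * U ^ 6 := by
      refine k1.trans_le ?_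
      rw [← mul_pow]
      exact Nat.pow_le_pow_left h3 6
    have h5 : n ^ 5 < 196 ^ 6 := Nat.lt_of_mul_lt_mul_right h4
    have h6 : 730 ^ 5 ≤ n ^ 5 := Nat.pow_le_pow_left hn 5
    omega
  · have h3 := h2 hb8
    have hd6 : m.descFactorial 6 = m * (V * ((m - 4) * (m - 5))) := by
      rw [Nat.descFactorial_succ, Nat.descFactorial_succ, hd4]
      ring
    have hb6 : m - 5 ≥ b * (a - 1) := by
      have e1 : b * (a - 1) = m - b := by rw [hmdef, Nat.mul_sub, mul_one, mul_comm b a]
      rw [e1]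
      omega
    have ham : m - 4 ≥ m - 2 * a := by omega
    have h2a : 0 < m - 2 * a := by
      have : 2 * a < m := by rw [hmdef]; nlinarith only [hmdef, hm, hb8]
      omega
    have h4 : V * b ≤ n * U := by
      have h5 : (V * b) * ((a - 1) * (m - 2 * a)) ≤ (n * U) * ((a - 1) * (m - 2 * a)) := by
        have h6 : m * (V * ((m - 4) * (m - 5))) ≤ m * (n * U * ((m - 2 * a) * (a - 1))) := by
          rw [← hd6]
          refine h3.trans (le_of_eq ?_)
          rw [hU]
          ring
        have h7 := Nat.le_of_mul_le_mul_left h6 hm0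
        calc (V * b) * ((a - 1) * (m - 2 * a)) = V * ((m - 2 * a) * (b * (a - 1))) := by ring
          _ ≤ V * ((m - 4) * (m - 5)) := Nat.mul_le_mul_left _ (Nat.mul_le_mul ham hb6)
          _ ≤ n * U * ((m - 2 * a) * (a - 1)) := h7
          _ = _ := by ring
      refine Nat.le_of_mul_le_mul_right h5 (Nat.mul_pos (by omega) h2a)
    have hVpos : 0 < V := by
      have e1 : 0 < m - 1 := by omega
      have e2 : 0 < m - 2 := by omega
      have e3 : 0 < m - 3 := by omega
      (clear * - e1 e2 e3; positivity)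
    have h5 : V ^ 5 * (b ^ 5 * U) < V ^ 5 * V := by
      calc V ^ 5 * (b ^ 5 * U) = (V * b) ^ 5 * U := by ring
        _ ≤ (n * U) ^ 5 * U := Nat.mul_le_mul_right _ (Nat.pow_le_pow_left h4 5)
        _ = n ^ 5 * U ^ 6 := by ring
        _ < V ^ 6 := k1
        _ = V ^ 5 * V := by ring
    have h6 : b ^ 5 * U < V := Nat.lt_of_mul_lt_mul_left h5
    have h7 : b ^ 5 * U < 4 * b ^ 2 * U := h6.trans_le hVU
    have h8 : b ^ 5 < 4 * b ^ 2 := Nat.lt_of_mul_lt_mul_right h7
    have h9 : 4 * b ^ 2 ≤ b ^ 5 := by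
      calc 4 * b ^ 2 ≤ b ^ 3 * b ^ 2 := Nat.mul_le_mul_right _ (by nlinarith only [hb8, _root_.sq_nonneg (↑b : ℤ), _root_.Nat.cast_nonneg (α := ℤ) (m), _root_.Nat.cast_nonneg (α := ℤ) (a), _root_.Nat.cast_nonneg (α := ℤ) (b)])
        _ = b ^ 5 := by ring
    omega

section

variable {A : Subgroup ↥(alternatingGroup (Fin m))} {Γ : Subgroup (MulAut ↥(alternatingGroup (Fin m)))}

/-- the stabilizer of the relation -/
def stabR (P : Subgroup (Perm (Fin m))) (B : Set (Fin m)) : Subgroup ↥(alternatingGroup (Fin m)) where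
  carrier := {t | ∀ x y, R P B ((t : Perm (Fin m)) x) ((t : Perm (Fin m)) y) ↔ R P B x y}
  one_mem' := fun _ _ => Iff.rfl
  mul_mem' := fun {a b} ha hb x y => (ha _ _).trans (hb x y)
  inv_mem' := fun {a} ha x y => by
    have h1 := ha ((a : Perm (Fin m))⁻¹ x) ((a : Perm (Fin m))⁻¹ y)
    rw [app_inv, app_inv] at h1
    exact h1.symm

theorem R_swap {P : Subgroup (Perm (Fin m))} {B : Set (Fin m)} {a b : Fin m} (h : R P B a b) (x : Fin m) :
    R P B (swap a b x) x := by
  rcases eq_or_ne x a with rfl | hxa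
  · rw [swap_apply_left]; exact h.symm
  · rcases eq_or_ne x b with rfl | hxb
    · rw [swap_apply_right]; exact h
    · rw [swap_apply_of_ne_of_ne hxa hxb]; exact R.refl _

theorem dt_mem_stabR {P : Subgroup (Perm (Fin m))} {B : Set (Fin m)} {e : Fin 4 ↪ Fin m}
    (h1 : R P B (e 0) (e 1)) (h2 : R P B (e 2) (e 3)) : dt e ∈ stabR P B := by
  have key : ∀ x, R P B (((dt e : ↥(alternatingGroup (Fin m))) : Perm (Fin m)) x) x := by
    intro x
    rw [coe_dt, Perm.mul_apply]
    exact (R_swap h1 _).trans (R_swap h2 x)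
  intro x y
  constructor
  · intro h
    exact ((key x).symm.trans h).trans (key y)
  · intro h
    exact ((key x).trans h).trans (key y).symm

/-- **`P` is primitive.** -/
theorem isPreprimitive (hm : 7 ≤ m) (h : IF A Γ) (P : Subgroup (Perm (Fin m)))
    (hP : ∀ σ ∈ Γ, ∃ g ∈ P, σ = MulAut.conjNormal g) (hA : ∀ a ∈ A, (a : Perm (Fin m)) ∈ P) :
    IsPreprimitive P (Fin m) := by
  classical
  have htr := isPretransitive hm h P hP hA
  by_contra hcon
  have hex : ∃ B : Set (Fin m), IsBlock P B ∧ ¬ IsTrivialBlock B := by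
    by_contra h1
    push Not at h1
    exact hcon { toIsPretransitive := htr, isTrivialBlock_of_isBlock := fun {B} hB => h1 B hB }
  obtain ⟨B, hB, hBt⟩ := hex
  unfold IsTrivialBlock at hBt
  push Not at hBt
  obtain ⟨hsub, huniv⟩ := hBt
  have hne : B.Nonempty := hsub.nonempty
  have ha2 : 2 ≤ B.ncard := (Set.one_lt_ncard_iff_nontrivial).2 hsub
  obtain ⟨b, hb⟩ : B.ncard ∣ m := by
    have h1 := hB.ncard_dvd_card hne
    rwa [Nat.card_fin] at h1
  have hblt : B.ncard < m := by
    have h1 := Set.ncard_lt_card huniv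
    rwa [Nat.card_fin] at h1
  have hb2 : 2 ≤ b := by
    by_contra hlt
    have : b = 0 ∨ b = 1 := by omega
    rcases this with rfl | rfl <;> omega
  have hRA : A ≤ stabR P B := fun a ha x y => R_iff (hA a ha)
  have hinv : ∀ σ ∈ Γ, ∀ t ∈ stabR P B, σ t ∈ stabR P B := by
    intro σ hσ t ht x y
    obtain ⟨g, hg, rfl⟩ := hP σ hσ
    rw [coe_conjNormal, Perm.mul_apply, Perm.mul_apply, Perm.mul_apply, Perm.mul_apply, R_iff hg, ht,
      R_iff (P.inv_mem hg)]
  have hnt : stabR P B ≠ ⊤ := by
    intro ht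
    obtain ⟨x, y, hxy, hRxy⟩ : ∃ x y : Fin m, y ≠ x ∧ R P B x y := by
      obtain ⟨x, -, y, -, -⟩ := hsub
      have h1 := card_nb hB htr hne x
      have h2 : 0 < (nb P B x).card := by omega
      obtain ⟨y, hy⟩ := Finset.card_pos.1 h2
      exact ⟨x, y, (mem_nb.1 hy).1, (mem_nb.1 hy).2⟩
    obtain ⟨z, hz⟩ : ∃ z, ¬ R P B x z := by
      by_contra hall
      push Not at hall
      have h1 := card_cls hB htr hne x
      have h2 : cls P B x = Finset.univ := by
        ext z
        simp only [mem_cls, Finset.mem_univ, iff_true]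
        exact hall z
      rw [h2, Finset.card_univ, Fintype.card_fin] at h1
      omega
    have hxz : z ≠ x := fun h => hz (h ▸ R.refl _)
    have hi1 : Function.Injective (![x, y] : Fin 2 → Fin m) := by
      intro i j hij
      fin_cases i <;> fin_cases j
      · rfl
      · exact absurd hij hxy.symm
      · exact absurd hij hxy
      · rfl
    have hi2 : Function.Injective (![x, z] : Fin 2 → Fin m) := by
      intro i j hij
      fin_cases i <;> fin_cases j
      · rfl
      · exact absurd hij hxz.symm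
      · exact absurd hij hxz
      · rfl
    obtain ⟨g, hg⟩ := pretrans 2 (by omega) (⟨_, hi1⟩ : Fin 2 ↪ Fin m) ⟨_, hi2⟩
    have g0 : (g : Perm (Fin m)) x = x := DFunLike.congr_fun hg 0
    have g1 : (g : Perm (Fin m)) y = z := DFunLike.congr_fun hg 1
    have h3 : g ∈ stabR P B := by rw [ht]; exact mem_top _
    have h4 := (h3 x y).2 hRxy
    rw [g0, g1] at h4
    exact hz h4
  have hEq : stabR P B = A := (h.max _ hRA hinv).resolve_right hnt
  -- the 4-tuples
  let S4 : Finset (Fin 4 ↪ Fin m) := Finset.univ.filter fun e => R P B (e 0) (e 1) ∧ R P B (e 2) (e 3)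
  have h4 := four_le hB htr hne S4 (fun e h1 h2 => Finset.mem_filter.2 ⟨Finset.mem_univ _, h1, h2⟩)
  have hbm : B.ncard * b = m := hb.symm
  have hpos4 : 0 < (m * (B.ncard - 1)) * ((m - B.ncard) * (B.ncard - 1)) := by
    have e1 : 0 < B.ncard - 1 := by omega
    have e2 : 0 < m - B.ncard := by omega
    have e3 : 0 < m := by omega
    (clear * - hm e1 e2; positivity)
  have hkey := key (by omega) h S4 (fun e he => by
    rw [← hEq]
    exact dt_mem_stabR (Finset.mem_filter.1 he).2.1 (Finset.mem_filter.1 he).2.2) (Finset.card_pos.1 (by omega))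
  have hkey' : A.index ^ 5 * ((m * (B.ncard - 1)) * ((m - B.ncard) * (B.ncard - 1))) ^ 6 < m.descFactorial 4 ^ 6 :=
    (Nat.mul_le_mul_left _ (Nat.pow_le_pow_left h4 6)).trans_lt hkey
  -- the 6-tuples
  have h6 : 8 ≤ b → m.descFactorial 6 ≤ A.index * ((m * (B.ncard - 1)) *
      (((m - B.ncard) * (B.ncard - 1)) * ((m - 2 * B.ncard) * (B.ncard - 1)))) := by
    intro hb8
    let S6 : Finset (Fin 6 ↪ Fin m) := Finset.univ.filter fun e => R P B (e 0) (e 1) ∧ R P B (e 2) (e 3) ∧
      R P B (e 4) (e 5) ∧ ¬ R P B (e 0) (e 2) ∧ ¬ R P B (e 0) (e 4) ∧ ¬ R P B (e 2) (e 4)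
    have hS6 : ∀ e ∈ S6, R P B (e 0) (e 1) ∧ R P B (e 2) (e 3) ∧ R P B (e 4) (e 5) ∧
      ¬ R P B (e 0) (e 2) ∧ ¬ R P B (e 0) (e 4) ∧ ¬ R P B (e 2) (e 4) := fun e he => (Finset.mem_filter.1 he).2
    have h7 := six_le hB htr hne S6 hS6
    have hm8 : 8 ≤ m := by nlinarith only [ha2, hb, hb8]
    have hinvS : ∀ a ∈ A, ∀ e ∈ S6, a • e ∈ S6 := by
      intro a ha e he
      obtain ⟨k1, k2, k3, k4, k5, k6⟩ := hS6 e he
      have hr : ∀ i j, R P B ((a • e) i) ((a • e) j) ↔ R P B (e i) (e j) := fun i j => R_iff (hA a ha)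
      refine Finset.mem_filter.2 ⟨Finset.mem_univ _, ?_⟩
      rw [hr, hr, hr, hr, hr, hr]
      exact ⟨k1, k2, k3, k4, k5, k6⟩
    have hneS : S6.Nonempty := by
      -- three classes
      have hpair : ∀ x, ∃ y, y ≠ x ∧ R P B x y := by
        intro x
        have h1 := card_nb hB htr hne x
        obtain ⟨y, hy⟩ := Finset.card_pos.1 (show 0 < (nb P B x).card by omega)
        exact ⟨y, (mem_nb.1 hy).1, (mem_nb.1 hy).2⟩
      have x : Fin m := ⟨0, by omega⟩
      have hc1 : 0 < ((cls P B x)ᶜ).card := by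
        rw [Finset.card_compl, card_cls hB htr hne, Fintype.card_fin]
        omega
      obtain ⟨z, hz⟩ := Finset.card_pos.1 hc1
      have hxz : ¬ R P B x z := fun h => (Finset.mem_compl.1 hz) (mem_cls.2 h)
      have hc2 : 0 < ((cls P B x ∪ cls P B z)ᶜ).card := by
        rw [Finset.card_compl, Fintype.card_fin]
        have e1 := Finset.card_union_le (cls P B x) (cls P B z)
        rw [card_cls hB htr hne, card_cls hB htr hne] at e1
        have e2 : 2 * B.ncard < m := by nlinarith only [hb, hb8, hm8]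
        omega
      obtain ⟨u, hu⟩ := Finset.card_pos.1 hc2
      have hxu : ¬ R P B x u := fun h => (Finset.mem_compl.1 hu) (Finset.mem_union_left _ (mem_cls.2 h))
      have hzu : ¬ R P B z u := fun h => (Finset.mem_compl.1 hu) (Finset.mem_union_right _ (mem_cls.2 h))
      obtain ⟨y, hy, hxy⟩ := hpair x
      obtain ⟨w, hw, hzw⟩ := hpair z
      obtain ⟨v, hv, huv⟩ := hpair u
      have n1 : x ≠ z := fun h => hxz (h ▸ R.refl _)
      have n2 : x ≠ w := fun h => hxz (h ▸ hzw.symm)
      have n3 : x ≠ u := fun h => hxu (h ▸ R.refl _)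
      have n4 : x ≠ v := fun h => hxu (h ▸ huv.symm)
      have n5 : y ≠ z := fun h => hxz (h ▸ hxy)
      have n6 : y ≠ w := fun h => hxz ((h ▸ hxy).trans hzw.symm)
      have n7 : y ≠ u := fun h => hxu (h ▸ hxy)
      have n8 : y ≠ v := fun h => hxu ((h ▸ hxy).trans huv.symm)
      have n9 : z ≠ u := fun h => hzu (h ▸ R.refl _)
      have n10 : z ≠ v := fun h => hzu (h ▸ huv.symm)
      have n11 : w ≠ u := fun h => hzu (h ▸ hzw)
      have n12 : w ≠ v := fun h => hzu ((h ▸ hzw).trans huv.symm)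
      have hi : Function.Injective (![x, y, z, w, u, v] : Fin 6 → Fin m) := by
        intro i j hij
        fin_cases i <;> fin_cases j
        · rfl
        · exact absurd hij hy.symm
        · exact absurd hij n1
        · exact absurd hij n2
        · exact absurd hij n3
        · exact absurd hij n4
        · exact absurd hij hy
        · rfl
        · exact absurd hij n5
        · exact absurd hij n6
        · exact absurd hij n7
        · exact absurd hij n8
        · exact absurd hij n1.symm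
        · exact absurd hij n5.symm
        · rfl
        · exact absurd hij hw.symm
        · exact absurd hij n9
        · exact absurd hij n10
        · exact absurd hij n2.symm
        · exact absurd hij n6.symm
        · exact absurd hij hw
        · rfl
        · exact absurd hij n11
        · exact absurd hij n12
        · exact absurd hij n3.symm
        · exact absurd hij n7.symm
        · exact absurd hij n9.symm
        · exact absurd hij n11.symm
        · rfl
        · exact absurd hij hv.symm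
        · exact absurd hij n4.symm
        · exact absurd hij n8.symm
        · exact absurd hij n10.symm
        · exact absurd hij n12.symm
        · exact absurd hij hv
        · rfl
      exact ⟨⟨_, hi⟩, Finset.mem_filter.2 ⟨Finset.mem_univ _, hxy, hzw, huv, hxz, hxu, hzu⟩⟩
    exact (count_six hm8 A S6 hinvS hneS).trans (Nat.mul_le_mul_left _ h7)
  exact num_end hb ha2 hb2 hm h.big hkey' h6

end

end Cfsg.Agent.H804.IF
end

-- part: H111/IFA/Dvd
section
/-!
# S5719: a subgroup of `C_T(σ)` acting freely on the points divides the number of fixed points of `σ`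
-/

set_option autoImplicit false
set_option linter.unusedSectionVars false

namespace Cfsg.Agent.H111.IFA

open MulAction Subgroup Cfsg.Agent.H284 Cfsg.Agent.H209.Fxy

variable {T : Type*} [Group T] [Finite T] {A : Subgroup T} {Γ : Subgroup (MulAut T)}

theorem smul_mem_fixSet {σ : MulAut T} {b : T} (hb : σ b = b) {c : T ⧸ A} (hc : c ∈ fixSet A σ) :
    b • c ∈ fixSet A σ := by
  obtain ⟨y, rfl, hy⟩ := hc
  refine ⟨b * y, rfl, ?_⟩
  rw [map_mul, hb]
  have : (b * y)⁻¹ * (b * σ y) = y⁻¹ * σ y := by group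
  rwa [this]

/-- `B` acting freely on the fixed points of `σ` -/
theorem dvd_fx {σ : MulAut T} {B : Subgroup T} (hB : ∀ b ∈ B, σ b = b)
    (hfree : ∀ b ∈ B, b ≠ 1 → ∀ y : T, y⁻¹ * b * y ∉ A) : Nat.card B ∣ fx A σ := by
  let S : SubMulAction B (T ⧸ A) :=
    { carrier := fixSet A σ
      smul_mem' := fun b c hc => smul_mem_fixSet (hB b b.2) hc }
  have hst : ∀ c : S, MulAction.stabilizer B c = ⊥ := by
    intro c
    rw [Subgroup.eq_bot_iff_forall]
    intro b hb
    by_contra hne
    have h1 : b • (c : T ⧸ A) = c := congrArg Subtype.val hb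
    obtain ⟨c, hc⟩ := c
    induction c using QuotientGroup.induction_on with
    | H y =>
      have h2 : (((b : T) * y : T) : T ⧸ A) = (y : T ⧸ A) := h1
      rw [QuotientGroup.eq, ← A.inv_mem_iff] at h2
      refine hfree b b.2 (fun h => hne (Subtype.ext h)) y ?_
      have h3 : (((b : T) * y)⁻¹ * y)⁻¹ = y⁻¹ * b * y := by group
      rwa [h3] at h2
  have h1 : Nat.card S = Nat.card (Quotient (orbitRel B S)) * Nat.card B := by
    rw [← Nat.card_prod]
    exact Nat.card_congr (selfEquivOrbitsQuotientProd hst)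
  have h2 : fx A σ = Nat.card S := rfl
  rw [h2, h1]
  exact Dvd.intro_left _ rfl

end Cfsg.Agent.H111.IFA
end

-- part: H111/IFA/Perm
section
/-!
# S5719, alternating groups: subgroups of the centralizer of an involution of `S_m`
-/

set_option autoImplicit false
set_option linter.unusedSectionVars false

namespace Cfsg.Agent.H111.IFA

open Equiv Equiv.Perm Subgroup

variable {α : Type*} [Fintype α] [DecidableEq α]

theorem cycleType_inv {t : Perm α} (h1 : t ≠ 1) (h2 : t * t = 1) :
    ∃ k, 0 < k ∧ t.cycleType = Multiset.replicate k 2 ∧ t.support.card = 2 * k := by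
  have ho : orderOf t = 2 := orderOf_eq_prime (by rw [pow_two, h2]) h1
  obtain ⟨n, hn⟩ := cycleType_prime_order (by rw [ho]; exact Nat.prime_two)
  rw [ho] at hn
  refine ⟨n + 1, Nat.succ_pos _, hn, ?_⟩
  rw [← sum_cycleType, hn, Multiset.sum_replicate, smul_eq_mul, mul_comm]

theorem card_centralizer {t : Perm α} {k : ℕ} (hk : t.cycleType = Multiset.replicate k 2) :
    Nat.card (centralizer {t}) = 2 ^ k * k.factorial * (Fintype.card α - 2 * k).factorial := by
  rw [nat_card_centralizer, hk, Multiset.sum_replicate, Multiset.prod_replicate, smul_eq_mul]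
  rcases Nat.eq_zero_or_pos k with rfl | h0
  · simp only [_root_.MulZeroClass.zero_mul, _root_.tsub_zero, _root_.pow_zero, _root_.mul_one, _root_.Multiset.replicate_zero, _root_.Multiset.toFinset_zero, _root_.Multiset.notMem_zero, _root_.not_false_eq_true, _root_.Multiset.count_eq_zero_of_notMem, _root_.Nat.factorial_zero, _root_.Finset.prod_const_one, _root_.MulZeroClass.mul_zero, _root_.one_mul]
  · rw [Multiset.toFinset_replicate, if_neg h0.ne', Finset.prod_singleton, Multiset.count_replicate_self,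
      mul_comm k 2]
    ring

theorem cycleType_free {β : Type*} [Fintype β] [DecidableEq β] {t : Perm β} (h2 : t * t = 1)
    (hf : ∀ x, t x ≠ x) : ∃ k, t.cycleType = Multiset.replicate k 2 ∧ Fintype.card β = 2 * k := by
  have hs : t.support = Finset.univ := by
    ext x
    simp only [hf x, _root_.Equiv.Perm.mem_support, _root_.ne_eq, _root_.not_false_eq_true, _root_.Finset.mem_univ]
  by_cases h1 : t = 1
  · refine ⟨0, by rw [h1]; simp, ?_⟩
    rw [Nat.mul_zero, Fintype.card_eq_zero_iff]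
    exact ⟨fun x => hf x (by rw [h1]; rfl)⟩
  · obtain ⟨k, -, h3, h4⟩ := cycleType_inv h1 h2
    exact ⟨k, h3, by rw [← h4, hs, Finset.card_univ]⟩

/-- a 2-subgroup of the centralizer of the involution `t`, supported in the support of `t` minus one 2-cycle -/
theorem exists_two {t : Perm α} (h2 : t * t = 1) {p : α} (hp : t p ≠ p) {k : ℕ}
    (hk : t.support.card = 2 * k) {a : ℕ} (ha : 2 ^ a ∣ 2 ^ (k - 1) * (k - 1).factorial) :
    ∃ B : Subgroup (Perm α), Nat.card B = 2 ^ a ∧ (∀ b ∈ B, b * t = t * b) ∧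
      ∀ b ∈ B, b.support ⊆ t.support.erase p := by
  classical
  have htt : ∀ x, t (t x) = x := fun x => by
    have := congrArg (fun g : Perm α => g x) h2
    simpa using this
  let Q : α → Prop := fun x => t x ≠ x ∧ x ≠ p ∧ x ≠ t p
  have hQ : ∀ x, Q (t x) ↔ Q x := by
    intro x
    simp only [Q]
    constructor
    · rintro ⟨h3, h4, h5⟩
      refine ⟨fun h => h3 (by rw [h, h]), fun h => h5 (by rw [h]), fun h => h4 (by rw [h, htt])⟩
    · rintro ⟨h3, h4, h5⟩
      refine ⟨fun h => h3 (t.injective h), fun h => h5 (by rw [← h, htt]), fun h => h4 (t.injective h)⟩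
  let t' : Perm {x // Q x} := t.subtypePerm hQ
  have ht'2 : t' * t' = 1 := by
    ext x
    simp only [t', htt, _root_.Equiv.Perm.subtypePerm_mul, _root_.Equiv.Perm.coe_mul, _root_.Function.comp_apply, _root_.imp_self, _root_.implies_true, _root_.Equiv.Perm.subtypePermOfFintype_apply, _root_.Subtype.coe_eta, _root_.Equiv.Perm.coe_one, _root_.id_eq]
  have ht'f : ∀ x, t' x ≠ x := by
    intro x hx
    exact x.2.1 (congrArg Subtype.val hx)
  obtain ⟨j, hj, hcard⟩ := cycleType_free ht'2 ht'f
  have hcQ : Fintype.card {x // Q x} = 2 * k - 2 := by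
    rw [Fintype.card_subtype]
    have h3 : (Finset.univ.filter Q) = (t.support.erase p).erase (t p) := by
      ext x
      simp only [Q, Finset.mem_filter, Finset.mem_univ, true_and, Finset.mem_erase, mem_support]
      (clear * - α t p x; tauto)
    rw [h3, Finset.card_erase_of_mem, Finset.card_erase_of_mem, hk]
    · omega
    · rwa [mem_support]
    · rw [Finset.mem_erase, mem_support]
      exact ⟨hp, fun h => hp (t.injective h)⟩
  have hjk : j = k - 1 := by omega
  have hcc : Nat.card (centralizer {t'}) = 2 ^ (k - 1) * (k - 1).factorial := by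
    rw [card_centralizer hj, hcard, Nat.sub_self, Nat.factorial_zero, mul_one, hjk]
  rw [← hcc] at ha
  have : Fact (Nat.Prime 2) := ⟨Nat.prime_two⟩
  obtain ⟨K, hK⟩ := Sylow.exists_subgroup_card_pow_prime (G := centralizer {t'}) 2 ha
  let φ : centralizer {t'} →* Perm α := (ofSubtype (p := Q)).comp (Subgroup.subtype _)
  have hφ : Function.Injective φ := (ofSubtype_injective).comp Subtype.val_injective
  refine ⟨K.map φ, ?_, ?_, ?_⟩
  · rw [← hK]
    exact (Nat.card_congr (K.equivMapOfInjective φ hφ).toEquiv).symm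
  · rintro _ ⟨⟨g, hg⟩, -, rfl⟩
    rw [mem_centralizer_singleton_iff] at hg
    ext x
    show ofSubtype g (t x) = t (ofSubtype g x)
    by_cases hx : Q x
    · have h3 : ofSubtype g x = ((g ⟨x, hx⟩ : {x // Q x}) : α) := ofSubtype_apply_of_mem g hx
      have h4 : ofSubtype g (t x) = ((g ⟨t x, (hQ x).2 hx⟩ : {x // Q x}) : α) := ofSubtype_apply_of_mem g _
      rw [h3, h4]
      have h5 := congrArg (fun u : Perm {x // Q x} => ((u ⟨x, hx⟩ : {x // Q x}) : α)) hg
      exact h5
    · have h3 : ofSubtype g x = x := ofSubtype_apply_of_not_mem g hx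
      have h4 : ofSubtype g (t x) = t x := ofSubtype_apply_of_not_mem g (fun h => hx ((hQ x).1 h))
      rw [h3, h4]
  · rintro _ ⟨⟨g, hg⟩, -, rfl⟩ x hx
    rw [mem_support] at hx
    have hx' : ofSubtype g x ≠ x := hx
    by_cases h3 : Q x
    · rw [Finset.mem_erase, mem_support]
      exact ⟨h3.2.1, h3.1⟩
    · exact absurd (ofSubtype_apply_of_not_mem g h3) hx'

/-- the even part of a subgroup -/
theorem card_dvd_two (H : Subgroup (Perm α)) :
    Nat.card H ∣ 2 * Nat.card (H.subgroupOf (alternatingGroup α)) := by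
  have h1 := ((alternatingGroup α).subgroupOf H).card_mul_index
  have h2 : ((alternatingGroup α).subgroupOf H).index ∣ 2 := by
    have h3 : (alternatingGroup α).relIndex H ∣ (alternatingGroup α).index := relIndex_dvd_index_of_normal _ _
    refine h3.trans ?_
    rcases subsingleton_or_nontrivial α with h4 | h4
    · rw [alternatingGroup.index_eq_one]
      exact one_dvd _
    · rw [alternatingGroup.index_eq_two]
  have h5 : Nat.card (H.subgroupOf (alternatingGroup α)) = Nat.card ((alternatingGroup α).subgroupOf H) := by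
    rw [Nat.card_congr (((H.subgroupOf (alternatingGroup α)).equivMapOfInjective _ (Subgroup.subtype_injective _)).toEquiv),
      Nat.card_congr ((((alternatingGroup α).subgroupOf H).equivMapOfInjective _ (Subgroup.subtype_injective _)).toEquiv),
      subgroupOf_map_subtype, subgroupOf_map_subtype, inf_comm]
  rw [h5, ← h1, mul_comm]
  exact mul_dvd_mul h2 (dvd_refl _)

/-- a cycle of length `p` outside of the support of `t` -/
theorem exists_cyc {t : Perm α} {p : ℕ} (hp : 2 ≤ p) (h : p + t.support.card ≤ Fintype.card α) :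
    ∃ c : Perm α, c.IsCycle ∧ c.support.card = p ∧ c * t = t * c := by
  have h1 : p ≤ (t.supportᶜ).card := by
    rw [Finset.card_compl]
    omega
  obtain ⟨U, hU, hUc⟩ := Finset.exists_subset_card_eq h1
  have hnd : U.toList.Nodup := U.nodup_toList
  have hlen : U.toList.length = p := by rw [Finset.length_toList, hUc]
  have hsup : (List.formPerm U.toList).support = U := by
    rw [List.support_formPerm_of_nodup _ hnd, Finset.toList_toFinset]
    intro x hx
    rw [hx] at hlen
    simp at hlen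
    omega
  refine ⟨List.formPerm U.toList, List.isCycle_formPerm hnd (by omega), by rw [hsup, hUc], ?_⟩
  apply Equiv.Perm.Disjoint.commute
  rw [disjoint_iff_disjoint_support, hsup]
  exact (Finset.disjoint_left.2 fun x hx hx' => (Finset.mem_compl.1 (hU hx)) hx')

end Cfsg.Agent.H111.IFA
end

-- part: H111/IFA/Num
section
/-!
# S5719, alternating groups: the numbers for `7 ≤ m ≤ 103`
-/

set_option autoImplicit false

namespace Cfsg.Agent.H111.IFA

/-- exponent of 2 in `(k-1)!`, `k ≤ 52` -/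
def ww (k : ℕ) : ℕ := (k - 1) / 2 + (k - 1) / 4 + (k - 1) / 8 + (k - 1) / 16 + (k - 1) / 32

/-- the odd divisor -/
def qq (s : ℕ) : ℕ := (if 3 ≤ s then 3 else 1) * (if 5 ≤ s then 5 else 1) * (if 7 ≤ s then 7 else 1)

/-- the check -/
def chk (m k : ℕ) : Bool :=
  Nat.ble m.factorial ((2 ^ (k - 2 + ww k) * qq (m - 2 * k)) ^ 5 * (2 ^ k * k.factorial * (m - 2 * k).factorial))

/-- the check for all `k` -/
def chkm (m : ℕ) : Bool := (List.range (m / 2 - 1)).all fun i => chk m (i + 2)

theorem chk_all : (List.range 97).all (fun i => chkm (i + 7)) = true := by decide +kernel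

theorem dvd_all : (List.range 51).all (fun i => (i + 1).factorial % 2 ^ ww (i + 2) == 0) = true := by decide +kernel

theorem num {m k : ℕ} (h7 : 7 ≤ m) (hm : m ≤ 103) (hk : 2 ≤ k) (hkm : 2 * k ≤ m) :
    m.factorial ≤ (2 ^ (k - 2 + ww k) * qq (m - 2 * k)) ^ 5 * (2 ^ k * k.factorial * (m - 2 * k).factorial) := by
  have h1 := List.all_eq_true.1 chk_all (m - 7) (List.mem_range.2 (by omega))
  rw [Nat.sub_add_cancel h7] at h1
  have h2 := List.all_eq_true.1 h1 (k - 2) (List.mem_range.2 (by omega))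
  rw [Nat.sub_add_cancel hk] at h2
  exact Nat.le_of_ble_eq_true h2

theorem dvd_num {k : ℕ} (hk : 2 ≤ k) (hk' : k ≤ 52) : 2 ^ (k - 1 + ww k) ∣ 2 ^ (k - 1) * (k - 1).factorial := by
  have h1 := List.all_eq_true.1 dvd_all (k - 2) (List.mem_range.2 (by omega))
  rw [beq_iff_eq, show k - 2 + 1 = k - 1 by omega, Nat.sub_add_cancel hk] at h1
  rw [pow_add]
  exact mul_dvd_mul (dvd_refl _) (Nat.dvd_of_mod_eq_zero h1)

end Cfsg.Agent.H111.IFA
end

-- part: H482/IF/Tail
section
/-!
# S5719, alternating groups of degree `m ≥ 104`, primitive case (helper482)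

* `tail_num` : `32 * 4 ^ (5 m) * m! ≤ (2 ^ k k! (m - 2k)!) ^ 6` for `m ≥ 104`;
* `card_conj` : the class of an involution in the symmetric group;
* `icl_le` : the class of `conjNormal g`;
* `tail_false`.
-/

set_option autoImplicit false
set_option linter.unusedSectionVars false

namespace Cfsg.Agent.H482.IF

open MulAction Subgroup Cfsg.Agent.H209.Fxy Cfsg.Agent.H999.IFB
open scoped Nat

/-- the order of the centralizer of an involution with `k` transpositions in `S_m` -/
def cz (m k : ℕ) : ℕ := 2 ^ k * k.factorial * (m - 2 * k).factorial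

theorem tail_104 : ∀ k < 53, 32 * 4 ^ (5 * 104) * Nat.factorial 104 ≤ (cz 104 k) ^ 6 := by
  decide +kernel

theorem tail_105 : ∀ k < 53, 32 * 4 ^ (5 * 105) * Nat.factorial 105 ≤ (cz 105 k) ^ 6 := by
  decide +kernel

theorem fifteen {m d : ℕ} (hm : 106 ≤ m) (hd : d ^ 6 < 1024 * m) : 15 * d ≤ m := by
  by_contra hcon
  have hcon : m < 15 * d := not_le.1 hcon
  have h1 : m ^ 6 < (15 * d) ^ 6 := Nat.pow_lt_pow_left hcon (by norm_num)
  have h2 : (15 * d) ^ 6 = 11390625 * d ^ 6 := by rw [mul_pow]; norm_num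
  have h3 : 11390625 * d ^ 6 < 11390625 * (1024 * m) := Nat.mul_lt_mul_of_pos_left hd (by norm_num)
  have h4 : m * m ^ 5 < m * 11664000000 := by
    calc m * m ^ 5 = m ^ 6 := by ring
      _ < 11390625 * (1024 * m) := by rw [h2] at h1; exact h1.trans h3
      _ = m * 11664000000 := by ring
  have h5 : m ^ 5 < 11664000000 := Nat.lt_of_mul_lt_mul_left h4
  have h6 : 106 ^ 5 ≤ m ^ 5 := Nat.pow_le_pow_left hm 5
  norm_num at h6
  omega

theorem tail_num' (m : ℕ) (hm : 104 ≤ m) : ∀ k : ℕ, 2 * k ≤ m →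
    32 * 4 ^ (5 * m) * m.factorial ≤ (cz m k) ^ 6 := by
  induction m using Nat.strong_induction_on with
  | _ m ih =>
    intro k hk
    rcases Nat.lt_or_ge m 106 with h1 | h1
    · have h2 : m = 104 ∨ m = 105 := by omega
      rcases h2 with rfl | rfl
      · exact tail_104 k (by omega)
      · exact tail_105 k (by omega)
    by_cases hd : (m - 2 * k) ^ 6 < 1024 * m
    · have h3 := fifteen h1 hd
      have hk1 : 1 ≤ k := by omega
      obtain ⟨k', rfl⟩ : ∃ k', k = k' + 1 := ⟨k - 1, by omega⟩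
      obtain ⟨m', rfl⟩ : ∃ m', m = m' + 2 := ⟨m - 2, by omega⟩
      have h4 := ih m' (by omega) (by omega) k' (by omega)
      have h5 : cz (m' + 2) (k' + 1) = (2 * (k' + 1)) * cz m' k' := by
        unfold cz
        rw [show m' + 2 - 2 * (k' + 1) = m' - 2 * k' by omega, Nat.factorial_succ, pow_succ]
        ring
      have h6 : 14 * (m' + 2) ≤ 15 * (2 * (k' + 1)) := by omega
      have h7 : (14 * (m' + 2)) ^ 6 ≤ (15 * (2 * (k' + 1))) ^ 6 := Nat.pow_le_pow_left h6 6
      have h8 : 1048576 * ((m' + 2) * (m' + 1)) ≤ (2 * (k' + 1)) ^ 6 := by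
        have h9 : (15 * (2 * (k' + 1))) ^ 6 = 11390625 * (2 * (k' + 1)) ^ 6 := by rw [mul_pow]; norm_num
        have h10 : (14 * (m' + 2)) ^ 6 = 7529536 * ((m' + 2) ^ 2 * (m' + 2) ^ 4) := by
          rw [mul_pow, ← pow_add]; norm_num
        have h11 : 106 ^ 4 ≤ (m' + 2) ^ 4 := Nat.pow_le_pow_left h1 4
        have h12 : (m' + 2) * (m' + 1) ≤ (m' + 2) ^ 2 := by
          rw [pow_two]
          exact Nat.mul_le_mul_left _ (by omega)
        have h13 : 11390625 * (1048576 * ((m' + 2) * (m' + 1))) ≤ 11390625 * (2 * (k' + 1)) ^ 6 := by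
          calc 11390625 * (1048576 * ((m' + 2) * (m' + 1)))
              ≤ 11390625 * (1048576 * (m' + 2) ^ 2) :=
                Nat.mul_le_mul_left _ (Nat.mul_le_mul_left _ h12)
            _ = (m' + 2) ^ 2 * 11943936000000 := by ring
            _ ≤ (m' + 2) ^ 2 * (7529536 * 106 ^ 4) := Nat.mul_le_mul_left _ (by norm_num)
            _ ≤ (m' + 2) ^ 2 * (7529536 * (m' + 2) ^ 4) :=
                Nat.mul_le_mul_left _ (Nat.mul_le_mul_left _ h11)
            _ = (14 * (m' + 2)) ^ 6 := by rw [h10]; ring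
            _ ≤ (15 * (2 * (k' + 1))) ^ 6 := h7
            _ = 11390625 * (2 * (k' + 1)) ^ 6 := h9
        exact Nat.le_of_mul_le_mul_left h13 (by norm_num)
      rw [h5, mul_pow]
      calc 32 * 4 ^ (5 * (m' + 2)) * (m' + 2).factorial
          = (1048576 * ((m' + 2) * (m' + 1))) * (32 * 4 ^ (5 * m') * m'.factorial) := by
            rw [show 5 * (m' + 2) = 5 * m' + 10 by ring, pow_add, Nat.factorial_succ, Nat.factorial_succ]
            norm_num
            ring
        _ ≤ (2 * (k' + 1)) ^ 6 * cz m' k' ^ 6 := Nat.mul_le_mul h8 h4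
    · have hd := not_lt.1 hd
      have hd1 : 1 ≤ m - 2 * k := by
        by_contra h0
        have : m - 2 * k = 0 := by omega
        rw [this] at hd
        norm_num at hd
        omega
      obtain ⟨m', rfl⟩ : ∃ m', m = m' + 1 := ⟨m - 1, by omega⟩
      have h4 := ih m' (by omega) (by omega) k (by omega)
      have h5 : cz (m' + 1) k = (m' + 1 - 2 * k) * cz m' k := by
        unfold cz
        rw [show m' + 1 - 2 * k = (m' - 2 * k) + 1 by omega, Nat.factorial_succ]
        ring
      rw [h5, mul_pow]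
      calc 32 * 4 ^ (5 * (m' + 1)) * (m' + 1).factorial
          = (1024 * (m' + 1)) * (32 * 4 ^ (5 * m') * m'.factorial) := by
            rw [show 5 * (m' + 1) = 5 * m' + 5 by ring, pow_add, Nat.factorial_succ]
            norm_num
            ring
        _ ≤ (m' + 1 - 2 * k) ^ 6 * cz m' k ^ 6 := Nat.mul_le_mul hd h4

/-- The numerical tail. -/
theorem tail_num (m k : ℕ) (hm : 104 ≤ m) (hk : 2 * k ≤ m) :
    32 * 4 ^ (5 * m) * m.factorial ≤ (2 ^ k * k.factorial * (m - 2 * k).factorial) ^ 6 :=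
  tail_num' m hm k hk

/-- The class of an involution of `S_m`. -/
theorem card_conj {m : ℕ} (g : Equiv.Perm (Fin m)) (h2 : orderOf g = 2) :
    ∃ k, 1 ≤ k ∧ 2 * k ≤ m ∧ g.support.card = 2 * k ∧ g.cycleType = Multiset.replicate k 2 ∧
      Nat.card {h : Equiv.Perm (Fin m) | IsConj g h} * (2 ^ k * k.factorial * (m - 2 * k).factorial) =
        m.factorial := by
  obtain ⟨n, hn⟩ := Equiv.Perm.cycleType_prime_order (σ := g) (by rw [h2]; exact Nat.prime_two)
  rw [h2] at hn
  have hs : g.support.card = 2 * (n + 1) := by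
    rw [← Equiv.Perm.sum_cycleType, hn, Multiset.sum_replicate, smul_eq_mul, mul_comm]
  have hle : 2 * (n + 1) ≤ m := by
    rw [← hs]
    exact (Finset.card_le_univ _).trans (by rw [Fintype.card_fin])
  refine ⟨n + 1, by omega, hle, hs, hn, ?_⟩
  have h := Equiv.Perm.card_isConj_mul_eq g
  rw [hn, Multiset.sum_replicate, Multiset.prod_replicate, Fintype.card_fin, smul_eq_mul,
    Multiset.toFinset_replicate, if_neg (by omega), Finset.prod_singleton, Multiset.count_replicate_self] at h
  rw [← h, mul_comm (n + 1) 2]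
  ring

theorem icl_le {m : ℕ} (g : Equiv.Perm (Fin m)) :
    (icl (MulAut.conjNormal g : MulAut (alternatingGroup (Fin m)))).ncard ≤
      Nat.card {h : Equiv.Perm (Fin m) | IsConj g h} := by
  have h1 : icl (MulAut.conjNormal g : MulAut (alternatingGroup (Fin m))) ⊆
      (fun h : Equiv.Perm (Fin m) => (MulAut.conjNormal h : MulAut (alternatingGroup (Fin m)))) ''
        {h | IsConj g h} := by
    rintro τ ⟨x, rfl⟩
    refine ⟨(x : Equiv.Perm (Fin m)) * g * (x : Equiv.Perm (Fin m))⁻¹, isConj_iff.2 ⟨x, rfl⟩, ?_⟩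
    change MulAut.conjNormal ((x : Equiv.Perm (Fin m)) * g * (x : Equiv.Perm (Fin m))⁻¹) = _
    rw [map_mul, map_mul, map_inv, MulAut.conjNormal_val]
  refine (Set.ncard_le_ncard h1 (Set.toFinite _)).trans ?_
  exact Set.ncard_image_le (Set.toFinite _)

/-- **S5719, `A_m`, `m ≥ 104`, primitive case.** -/
theorem tail_false {m : ℕ} (hm : 104 ≤ m) {A : Subgroup (alternatingGroup (Fin m))}
    {Γ : Subgroup (MulAut (alternatingGroup (Fin m)))} (h : IF A Γ) (P : Subgroup (Equiv.Perm (Fin m)))
    (hprim : MulAction.IsPreprimitive P (Fin m)) (hnP : ¬ alternatingGroup (Fin m) ≤ P)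
    (hA : ∀ a ∈ A, (a : Equiv.Perm (Fin m)) ∈ P) (g : Equiv.Perm (Fin m)) (h2 : orderOf g = 2)
    (hg : MulAut.conjNormal g ∈ Γ) : False := by
  have hP : Nat.card P ≤ 4 ^ m := by
    have := Cfsg.Agent.S0725.result P hprim hnP
    rwa [Fintype.card_fin] at this
  have hAP : Nat.card A ≤ 4 ^ m := by
    refine le_trans ?_ hP
    apply Nat.card_le_card_of_injective (fun a : A => (⟨((a : alternatingGroup (Fin m)) : Equiv.Perm (Fin m)), hA a a.2⟩ : P))
    intro a b hab
    have hab' : ((a : alternatingGroup (Fin m)) : Equiv.Perm (Fin m)) = ((b : alternatingGroup (Fin m)) : Equiv.Perm (Fin m)) :=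
      congrArg (fun z : P => (z : Equiv.Perm (Fin m))) hab
    exact Subtype.ext (Subtype.ext hab')
  obtain ⟨k, hk1, hkm, -, -, hcl⟩ := card_conj g h2
  -- the order of the automorphism
  have hord : orderOf (MulAut.conjNormal g : MulAut (alternatingGroup (Fin m))) = 2 := by
    apply orderOf_eq_prime
    · rw [← map_pow]
      have : g ^ 2 = 1 := by rw [← h2]; exact pow_orderOf_eq_one g
      rw [this, map_one]
    · intro h1
      -- `g` centralizes `A_m`, so it is trivial
      have h3 : ∀ x : alternatingGroup (Fin m), g * x * g⁻¹ = x := by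
        intro x
        have := congrArg (fun σ : MulAut (alternatingGroup (Fin m)) => ((σ x : alternatingGroup (Fin m)) : Equiv.Perm (Fin m))) h1
        simpa only [MulAut.conjNormal_apply, _root_.MulAut.one_apply] using this
      have hg1 : g ≠ 1 := by
        rintro rfl
        rw [orderOf_one] at h2
        omega
      obtain ⟨a, ha⟩ : ∃ a, g a ≠ a := by
        by_contra hc
        push Not at hc
        exact hg1 (Equiv.ext hc)
      -- two further points
      obtain ⟨b, hb⟩ : ∃ b : Fin m, b ∉ ({a, g a} : Finset (Fin m)) := by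
        by_contra hc
        push Not at hc
        have h4 : (Finset.univ : Finset (Fin m)) ⊆ {a, g a} := fun x _ => hc x
        have h5 := Finset.card_le_card h4
        rw [Finset.card_univ, Fintype.card_fin] at h5
        have h6 := Finset.card_le_two (a := a) (b := g a)
        omega
      obtain ⟨c, hc⟩ : ∃ c : Fin m, c ∉ ({a, g a, b} : Finset (Fin m)) := by
        by_contra hc
        push Not at hc
        have h4 : (Finset.univ : Finset (Fin m)) ⊆ {a, g a, b} := fun x _ => hc x
        have h5 := Finset.card_le_card h4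
        rw [Finset.card_univ, Fintype.card_fin] at h5
        have h6 := Finset.card_le_three (a := a) (b := g a) (c := b)
        omega
      simp only [Finset.mem_insert, Finset.mem_singleton, not_or] at hb hc
      -- the 3-cycle (g a, b, c)
      have h3c : (Equiv.swap (g a) b * Equiv.swap (g a) c).IsThreeCycle :=
        Equiv.Perm.isThreeCycle_swap_mul_swap_same (Ne.symm hb.2) (Ne.symm hc.2.1) (Ne.symm hc.2.2)
      have h7 := h3 ⟨_, h3c.mem_alternatingGroup⟩
      have h8 : g * (Equiv.swap (g a) b * Equiv.swap (g a) c) = (Equiv.swap (g a) b * Equiv.swap (g a) c) * g := by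
        have := congrArg (· * g) h7
        simpa only [mul_assoc, _root_.inv_mul_cancel, _root_.mul_one] using this
      have h9 := congrArg (fun σ : Equiv.Perm (Fin m) => σ a) h8
      simp only [Equiv.Perm.coe_mul, Function.comp_apply] at h9
      rw [Equiv.swap_apply_of_ne_of_ne (Ne.symm ha) (Ne.symm hc.1), Equiv.swap_apply_of_ne_of_ne (Ne.symm ha) (Ne.symm hb.1),
        Equiv.swap_apply_left, Equiv.swap_apply_of_ne_of_ne hc.2.1 hc.2.2] at h9
      exact hc.2.1 h9.symm
  have hE := (Cfsg.Agent.H999.IFB.IF.E2 h hg hord).2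
  have hK := icl_le g
  set K := Nat.card {h : Equiv.Perm (Fin m) | IsConj g h} with hKdef
  have hT : 2 * Nat.card (alternatingGroup (Fin m)) = m.factorial := by
    have : Nontrivial (Fin m) := Fin.nontrivial_iff_two_le.2 (by omega)
    have := two_mul_nat_card_alternatingGroup (α := Fin m)
    rw [this, Nat.card_perm, Nat.card_fin]
  have hidx : Nat.card A * A.index = Nat.card (alternatingGroup (Fin m)) := A.card_mul_index
  have h5 : m.factorial ≤ 2 * 4 ^ m * A.index := by
    rw [← hT, ← hidx, mul_assoc]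
    exact Nat.mul_le_mul_left _ (Nat.mul_le_mul_right _ hAP)
  have h6 : m.factorial ^ 5 < 32 * 4 ^ (5 * m) * K ^ 6 := by
    calc m.factorial ^ 5 ≤ (2 * 4 ^ m * A.index) ^ 5 := Nat.pow_le_pow_left h5 5
      _ = 32 * 4 ^ (5 * m) * A.index ^ 5 := by
          rw [mul_pow, mul_pow, ← pow_mul, mul_comm m 5]; norm_num
      _ < 32 * 4 ^ (5 * m) * K ^ 6 := by
          apply Nat.mul_lt_mul_of_pos_left (hE.trans_le (Nat.pow_le_pow_left hK 6))
          positivity
  have h7 := tail_num m k hm hkm
  set c := 2 ^ k * k.factorial * (m - 2 * k).factorial with hc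
  have hcpos : 0 < c := by rw [hc]; positivity
  have h8 : m.factorial ^ 5 * c ^ 6 < 32 * 4 ^ (5 * m) * m.factorial * m.factorial ^ 5 := by
    calc m.factorial ^ 5 * c ^ 6 < 32 * 4 ^ (5 * m) * K ^ 6 * c ^ 6 :=
          Nat.mul_lt_mul_of_pos_right h6 (pow_pos hcpos 6)
      _ = 32 * 4 ^ (5 * m) * (K * c) ^ 6 := by rw [mul_pow]; ring
      _ = 32 * 4 ^ (5 * m) * m.factorial * m.factorial ^ 5 := by rw [hcl]; ring
  have h9 : m.factorial ^ 5 * (32 * 4 ^ (5 * m) * m.factorial) ≤ m.factorial ^ 5 * c ^ 6 := Nat.mul_le_mul_left _ h7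
  rw [mul_comm (32 * 4 ^ (5 * m) * m.factorial)] at h8
  omega

end Cfsg.Agent.H482.IF
end

-- part: H111/IFA/Prim
section
/-!
# S5719, alternating groups: the primitive case

`t` is an involution of `P` with a minimal number `k` of transpositions, `s = m - 2k`. Subgroups `B` of `C_T(t)` acting freely on
the points `T/A` have an order dividing `fx A t` : a 2-group supported in `supp t` minus one 2-cycle (all its involutions have fewer
transpositions), and a `p`-cycle outside of `supp t` (Jordan). So `fx` is too big.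
-/

set_option autoImplicit false
set_option linter.unusedSectionVars false

namespace Cfsg.Agent.H111.IFA

open MulAction Subgroup Cfsg.Agent.H284 Cfsg.Agent.H209.Fxy Equiv Equiv.Perm

variable {m : ℕ} {A : Subgroup (alternatingGroup (Fin m))} {Γ : Subgroup (MulAut (alternatingGroup (Fin m)))}

/-- the automorphism of `A_m` given by `t` -/
abbrev cn (t : Perm (Fin m)) : MulAut (alternatingGroup (Fin m)) := MulAut.conjNormal t

theorem cn_fix {t : Perm (Fin m)} {b : alternatingGroup (Fin m)} (hb : (b : Perm (Fin m)) * t = t * b) :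
    cn t b = b := by
  apply Subtype.ext
  rw [MulAut.conjNormal_apply, ← hb, mul_inv_cancel_right]

theorem card_supp_conj (y g : Perm (Fin m)) : (y⁻¹ * g * y).support.card = g.support.card := by
  have := card_support_conj (σ := y⁻¹) (τ := g)
  rwa [inv_inv] at this

/-- the 2-part -/
theorem two_dvd {P : Subgroup (Perm (Fin m))} (hA : ∀ a ∈ A, (a : Perm (Fin m)) ∈ P) {t : Perm (Fin m)}
    (ht1 : t ≠ 1) (ht2 : t * t = 1)
    (hmin : ∀ g ∈ P, g ≠ 1 → g * g = 1 → t.support.card ≤ g.support.card) {k : ℕ}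
    (hk : t.support.card = 2 * k) {a : ℕ} (ha : 2 ^ a ∣ 2 ^ (k - 1) * (k - 1).factorial) :
    2 ^ a ∣ 2 * fx A (cn t) := by
  obtain ⟨p, hp⟩ : ∃ p, t p ≠ p := by
    by_contra hc
    push Not at hc
    exact ht1 (Equiv.ext hc)
  obtain ⟨B, hBc, hBt, hBs⟩ := exists_two ht2 hp hk ha
  have h1 : 2 ^ a ∣ 2 * Nat.card (B.subgroupOf (alternatingGroup (Fin m))) := by
    rw [← hBc]
    exact card_dvd_two B
  refine h1.trans (mul_dvd_mul (dvd_refl _) (dvd_fx ?_ ?_))
  · intro b hb
    exact cn_fix (hBt b hb)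
  · intro b hb hb1 y hy
    have hb' : (b : Perm (Fin m)) ∈ B := hb
    -- the order of `b` is a power of 2
    have h2 : orderOf (⟨b, hb'⟩ : B) ∣ 2 ^ a := by
      rw [← hBc]
      exact orderOf_dvd_natCard _
    obtain ⟨i, -, hi⟩ := (Nat.dvd_prime_pow Nat.prime_two).1 h2
    have ho : orderOf (b : Perm (Fin m)) = 2 ^ i := by
      rw [← hi]
      exact (Subgroup.orderOf_mk _ _).symm
    have hi0 : i ≠ 0 := by
      rintro rfl
      rw [pow_zero, orderOf_eq_one_iff] at ho
      exact hb1 (Subtype.ext ho)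
    obtain ⟨j, rfl⟩ := Nat.exists_eq_succ_of_ne_zero hi0
    set c : Perm (Fin m) := (b : Perm (Fin m)) ^ (2 ^ j) with hc
    have hc2 : c * c = 1 := by
      rw [hc, ← pow_add, ← two_mul, ← pow_succ']
      have := pow_orderOf_eq_one (b : Perm (Fin m))
      rwa [ho] at this
    have hc1 : c ≠ 1 := by
      intro h3
      have h4 := orderOf_dvd_of_pow_eq_one h3
      rw [ho] at h4
      have h5 := Nat.le_of_dvd (pow_pos (by norm_num) j) h4
      have h6 : 2 ^ j < 2 ^ (j + 1) := Nat.pow_lt_pow_right (by norm_num) (Nat.lt_succ_self j)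
      exact absurd h5 (by simpa using h6)
    have hcB : c ∈ B := B.pow_mem hb' _
    have h3 : ((y⁻¹ * b * y : alternatingGroup (Fin m)) : Perm (Fin m)) ∈ P := hA _ hy
    have h4 : (y : Perm (Fin m))⁻¹ * c * y ∈ P := by
      have h5 := P.pow_mem h3 (2 ^ j)
      have h6 : ((y⁻¹ * b * y : alternatingGroup (Fin m)) : Perm (Fin m)) ^ (2 ^ j) = (y : Perm (Fin m))⁻¹ * c * y := by
        have h7 := conj_pow (i := 2 ^ j) (a := (y : Perm (Fin m))⁻¹) (b := (b : Perm (Fin m)))
        rw [inv_inv] at h7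
        rw [hc, ← h7]
        rfl
      rwa [h6] at h5
    have h5 : (y : Perm (Fin m))⁻¹ * c * y ≠ 1 := by
      intro h6
      apply hc1
      have h7 : c = y * ((y : Perm (Fin m))⁻¹ * c * y) * (y : Perm (Fin m))⁻¹ := by group
      rw [h7, h6, mul_one, mul_inv_cancel]
    have h6 : (y : Perm (Fin m))⁻¹ * c * y * ((y : Perm (Fin m))⁻¹ * c * y) = 1 := by
      have h7 : (y : Perm (Fin m))⁻¹ * c * y * ((y : Perm (Fin m))⁻¹ * c * y) = (y : Perm (Fin m))⁻¹ * (c * c) * y := by
        group
      rw [h7, hc2, mul_one, inv_mul_cancel]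
    have h7 := hmin _ h4 h5 h6
    rw [card_supp_conj] at h7
    have h8 := Finset.card_le_card (hBs c hcB)
    have h9 : (t.support.erase p).card < t.support.card :=
      Finset.card_lt_card (Finset.erase_ssubset (by rwa [mem_support]))
    omega

/-- the odd part -/
theorem odd_dvd {P : Subgroup (Perm (Fin m))} (hA : ∀ a ∈ A, (a : Perm (Fin m)) ∈ P)
    (hprim : MulAction.IsPreprimitive P (Fin m)) (hnP : ¬ alternatingGroup (Fin m) ≤ P) {t : Perm (Fin m)}
    {p : ℕ} (hp : p.Prime) (hp2 : p ≠ 2) (h5 : 5 ≤ m) (hpm : p + 3 ≤ m) (hpt : p + t.support.card ≤ m) :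
    p ∣ fx A (cn t) := by
  obtain ⟨c, hcc, hcs, hct⟩ := exists_cyc (t := t) hp.two_le (by rwa [Fintype.card_fin])
  have hceven : c ∈ alternatingGroup (Fin m) := by
    rw [mem_alternatingGroup, hcc.sign, hcs, (hp.odd_of_ne_two hp2).neg_one_pow, neg_neg]
  have hco : orderOf (⟨c, hceven⟩ : alternatingGroup (Fin m)) = p := by
    rw [Subgroup.orderOf_mk, hcc.orderOf, hcs]
  have h1 : p = Nat.card (zpowers (⟨c, hceven⟩ : alternatingGroup (Fin m))) := by
    rw [Nat.card_zpowers, hco]
  rw [h1]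
  apply dvd_fx
  · rintro _ ⟨i, rfl⟩
    apply cn_fix
    have : Commute c t := hct
    show ((((⟨c, hceven⟩ : alternatingGroup (Fin m)) ^ i : alternatingGroup (Fin m)) : Perm (Fin m))) * t = _
    rw [Subgroup.coe_zpow]
    exact (this.zpow_left i).eq
  · intro b hb hb1 y hy
    -- `b` generates
    have h2 : (⟨c, hceven⟩ : alternatingGroup (Fin m)) ∈ zpowers b := by
      have h3 : zpowers b = zpowers (⟨c, hceven⟩ : alternatingGroup (Fin m)) := by
        apply Subgroup.eq_of_le_of_card_ge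
        · rwa [zpowers_le]
        · rw [← h1, Nat.card_zpowers]
          obtain ⟨i, rfl⟩ := hb
          have h4 : orderOf ((⟨c, hceven⟩ : alternatingGroup (Fin m)) ^ i) ∣ p := by
            rw [← hco]
            exact orderOf_dvd_of_pow_eq_one (by rw [← zpow_natCast, ← zpow_mul, mul_comm, zpow_mul, zpow_natCast,
              pow_orderOf_eq_one, one_zpow])
          rcases (Nat.dvd_prime hp).1 h4 with h5 | h5
          · exact absurd (orderOf_eq_one_iff.1 h5) hb1
          · exact h5.ge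
      rw [h3]
      exact mem_zpowers _
    obtain ⟨j, hj⟩ := h2
    have h3 : y⁻¹ * (⟨c, hceven⟩ : alternatingGroup (Fin m)) * y ∈ A := by
      have h4 := A.zpow_mem hy j
      have h5 : (y⁻¹ * b * y) ^ j = y⁻¹ * b ^ j * y := by
        have h6 := conj_zpow (i := j) (a := y⁻¹) (b := b)
        rwa [inv_inv] at h6
      rw [h5] at h4
      have h6 : b ^ j = (⟨c, hceven⟩ : alternatingGroup (Fin m)) := hj
      rwa [h6] at h4
    have h4 : (y : Perm (Fin m))⁻¹ * c * y ∈ P := hA _ h3
    apply hnP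
    refine Cfsg.Agent.S0713.result P hprim hp (by rwa [Fintype.card_fin]) (by rwa [Fintype.card_fin])
      (g := (y : Perm (Fin m))⁻¹ * c * y) ?_ ?_ h4
    · have h5 := hcc.conj (g := (y : Perm (Fin m))⁻¹)
      rwa [inv_inv] at h5
    · rw [card_supp_conj, hcs]

theorem eq_one_of_cn {g : Perm (Fin m)} (h4 : 4 ≤ m) (h1 : cn g = 1) : g = 1 := by
  by_contra hg1
  have h3 : ∀ x : alternatingGroup (Fin m), g * x * g⁻¹ = x := by
    intro x
    have := congrArg (fun σ : MulAut (alternatingGroup (Fin m)) => ((σ x : alternatingGroup (Fin m)) : Perm (Fin m))) h1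
    simpa only [MulAut.conjNormal_apply, _root_.MulAut.one_apply] using this
  obtain ⟨a, ha⟩ : ∃ a, g a ≠ a := by
    by_contra hc
    push Not at hc
    exact hg1 (Equiv.ext hc)
  obtain ⟨b, hb⟩ : ∃ b : Fin m, b ∉ ({a, g a} : Finset (Fin m)) := by
    by_contra hc
    push Not at hc
    have h4 : (Finset.univ : Finset (Fin m)) ⊆ {a, g a} := fun x _ => hc x
    have h5 := Finset.card_le_card h4
    rw [Finset.card_univ, Fintype.card_fin] at h5
    have h6 := Finset.card_le_two (a := a) (b := g a)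
    omega
  obtain ⟨c, hc⟩ : ∃ c : Fin m, c ∉ ({a, g a, b} : Finset (Fin m)) := by
    by_contra hc
    push Not at hc
    have h4 : (Finset.univ : Finset (Fin m)) ⊆ {a, g a, b} := fun x _ => hc x
    have h5 := Finset.card_le_card h4
    rw [Finset.card_univ, Fintype.card_fin] at h5
    have h6 := Finset.card_le_three (a := a) (b := g a) (c := b)
    omega
  simp only [Finset.mem_insert, Finset.mem_singleton, not_or] at hb hc
  have h3c : (Equiv.swap (g a) b * Equiv.swap (g a) c).IsThreeCycle :=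
    Equiv.Perm.isThreeCycle_swap_mul_swap_same (Ne.symm hb.2) (Ne.symm hc.2.1) (Ne.symm hc.2.2)
  have h7 := h3 ⟨_, h3c.mem_alternatingGroup⟩
  have h8 : g * (Equiv.swap (g a) b * Equiv.swap (g a) c) = (Equiv.swap (g a) b * Equiv.swap (g a) c) * g := by
    have := congrArg (· * g) h7
    simpa only [mul_assoc, _root_.inv_mul_cancel, _root_.mul_one] using this
  have h9 := congrArg (fun σ : Equiv.Perm (Fin m) => σ a) h8
  simp only [Equiv.Perm.coe_mul, Function.comp_apply] at h9
  rw [Equiv.swap_apply_of_ne_of_ne (Ne.symm ha) (Ne.symm hc.1), Equiv.swap_apply_of_ne_of_ne (Ne.symm ha) (Ne.symm hb.1),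
    Equiv.swap_apply_left, Equiv.swap_apply_of_ne_of_ne hc.2.1 hc.2.2] at h9
  exact hc.2.1 h9.symm

/-- **S5719, `A_m`, primitive case** (`|A|` odd included). -/
theorem prim_false (hm : 7 ≤ m) (h : IF A Γ) (P : Subgroup (Perm (Fin m)))
    (hP : ∀ σ ∈ Γ, ∃ g ∈ P, σ = MulAut.conjNormal g) (hP' : ∀ g ∈ P, MulAut.conjNormal g ∈ Γ)
    (hA : ∀ a ∈ A, (a : Perm (Fin m)) ∈ P) (hprim : MulAction.IsPreprimitive P (Fin m)) : False := by
  have hnP : ¬ alternatingGroup (Fin m) ≤ P := by
    intro hle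
    apply h.ne_top
    rw [Subgroup.eq_top_iff']
    intro a
    rw [← h.conj]
    have h1 := hP' a (hle a.2)
    rwa [MulAut.conjNormal_val] at h1
  -- an involution of `P`
  have hne : {g : Perm (Fin m) | g ∈ P ∧ g ≠ 1 ∧ g * g = 1}.Nonempty := by
    obtain ⟨σ, hσ, hσ2, -⟩ := h.ex
    obtain ⟨g, hg, rfl⟩ := hP σ hσ
    refine ⟨g, hg, ?_, ?_⟩
    · rintro rfl
      rw [map_one, orderOf_one] at hσ2
      omega
    · apply eq_one_of_cn (by omega)
      show MulAut.conjNormal (g * g) = 1
      rw [map_mul, ← pow_two, ← hσ2, pow_orderOf_eq_one]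
  obtain ⟨t, ⟨htP, ht1, ht2⟩, hmin'⟩ := Set.exists_min_image _ (fun g : Perm (Fin m) => g.support.card)
    (Set.toFinite _) hne
  have hmin : ∀ g ∈ P, g ≠ 1 → g * g = 1 → t.support.card ≤ g.support.card := fun g h1 h2 h3 =>
    hmin' g ⟨h1, h2, h3⟩
  have hto : orderOf t = 2 := orderOf_eq_prime (by rw [pow_two, ht2]) ht1
  rcases Nat.lt_or_ge 103 m with h104 | h103
  · exact Cfsg.Agent.H482.IF.tail_false h104 h P hprim hnP hA t hto (hP' t htP)
  have hcn : orderOf (cn t) = 2 := by
    apply orderOf_eq_prime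
    · show MulAut.conjNormal t ^ 2 = 1
      rw [← map_pow, pow_two, ht2, map_one]
    · intro h1
      exact ht1 (eq_one_of_cn (by omega) h1)
  obtain ⟨k, hk1, hkm, hks, -, hkc⟩ := Cfsg.Agent.H482.IF.card_conj t hto
  have hE := (Cfsg.Agent.H999.IFB.IF.E2 h (hP' t htP) hcn).1
  have hE' := lt_of_lt_of_le hE (Cfsg.Agent.H482.IF.icl_le t)
  -- `k ≥ 2`
  have hk2 : 2 ≤ k := by
    by_contra hcon
    have hk : k = 1 := by omega
    rw [hk, mul_one, card_support_eq_two] at hks
    apply hnP
    rw [subgroup_eq_top_of_isPreprimitive_of_isSwap_mem hprim t hks htP]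
    exact le_top
  have hf0 : 0 < fx A (cn t) := Cfsg.Agent.H999.IFB.fx_pos A _
  have hd2 : 2 ^ (k - 2 + ww k) ∣ fx A (cn t) := by
    have h1 := two_dvd hA ht1 ht2 hmin hks (dvd_num hk2 (by omega))
    have h2 : k - 1 + ww k = (k - 2 + ww k) + 1 := by omega
    rw [h2, pow_succ', mul_dvd_mul_iff_left (by norm_num)] at h1
    exact h1
  have hdp : ∀ p : ℕ, p.Prime → p ≠ 2 → (if p ≤ m - 2 * k then p else 1) ∣ fx A (cn t) := by
    intro p hp hp2
    split_ifs with h1
    · exact odd_dvd hA hprim hnP hp hp2 (by omega) (by omega) (by omega)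
    · exact one_dvd _
  have hdq : 2 ^ (k - 2 + ww k) * qq (m - 2 * k) ∣ fx A (cn t) := by
    refine Nat.Coprime.mul_dvd_of_dvd_of_dvd ?_ hd2 ?_
    · apply Nat.Coprime.pow_left
      unfold qq
      split_ifs <;> norm_num
    · refine Nat.Coprime.mul_dvd_of_dvd_of_dvd ?_ (Nat.Coprime.mul_dvd_of_dvd_of_dvd ?_
        (hdp 3 (by norm_num) (by norm_num)) (hdp 5 (by norm_num) (by norm_num))) (hdp 7 (by norm_num) (by norm_num))
      · split_ifs <;> norm_num
      · split_ifs <;> norm_num
  have hle := Nat.le_of_dvd hf0 hdq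
  have h1 := num hm h103 hk2 hkm
  have hKpos : 0 < 2 ^ k * k.factorial * (m - 2 * k).factorial := by positivity
  have h2 : fx A (cn t) ^ 5 * (2 ^ k * k.factorial * (m - 2 * k).factorial) < m.factorial := by
    rw [← hkc]
    exact Nat.mul_lt_mul_of_pos_right hE' hKpos
  have h3 := Nat.mul_le_mul_right (2 ^ k * k.factorial * (m - 2 * k).factorial) (Nat.pow_le_pow_left hle 5)
  omega

end Cfsg.Agent.H111.IFA
end

-- part: H132/IF/AltRow
section
/-!
# S5719, block ALT: the row
-/

set_option autoImplicit false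

namespace Cfsg.Agent.H132.IF

open Equiv Equiv.Perm MulAction Subgroup Cfsg.Agent.H209.Fxy

/-- **No counterexample to S5719 in the alternating groups.** -/
theorem kill_alt (n : ℕ) (h5 : 5 ≤ n) : Kill (alternatingGroup (Fin n)) := by
  rcases Nat.lt_or_ge 6 n with h6 | h6
  · intro A Γ h
    have hm : 7 ≤ n := h6
    have hP : ∀ σ ∈ Γ, ∃ g ∈ PG Γ, σ = MulAut.conjNormal g := fun σ hσ => exists_PG hm hσ
    have hA : ∀ a ∈ A, (a : Perm (Fin n)) ∈ PG Γ := fun a ha => (mem_A h a).1 ha
    exact Cfsg.Agent.H111.IFA.prim_false hm h (PG Γ) hP (fun g hg => hg) hA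
      (Cfsg.Agent.H804.IF.isPreprimitive hm h (PG Γ) hP hA)
  · exact kill_small h5 h6

end Cfsg.Agent.H132.IF
end
end

-- part: H999/IF/Heis_mg
section
prune_inst 0x4115055404d00120000000016520000003800050200408c00242102000348002a890228000c000009582280000005002813100010424000000e20040000040501008006002140010880000e000000400000000000000000000000000000000000200000000
set_option linter.all false
open scoped Cfsg.Agent.FastGrp

-- part: H999/IF/Heis
section
/-!
# S5719, unitary groups: the Heisenberg lemma (helper999)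

`HP hF u` : the group of pairs `(w, μ)` with `w ⟂ u`, `μ + μ^q + h(w,w) = 0`; `rho` : `HP hF u →* SU n F q`
(Siegel elements of the isotropic vector `u`).

* `card_heis` : `X ≤ SU`, not all transvections of centre `u` in `X`: `|ρ⁻¹(X)| ≤ q^n |Z(u)|`.
-/

set_option autoImplicit false
set_option linter.unusedSectionVars false

namespace Cfsg.Agent.H999.IFU

open Cfsg Matrix Cfsg.Agent.LieClassical.HermBasic Cfsg.Agent.LieClassical.HermSiegel
  Cfsg.Agent.LieClassical.HermSimple

section Char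

/-- A totally isotropic subgroup for a nondegenerate pairing with values in `ℂˣ`. -/
theorem iso_card {V : Type*} [AddCommGroup V] [Finite V] (Ψ : V → AddChar V ℂ) (hinj : Function.Injective Ψ)
    (Y : AddSubgroup V) (hY : ∀ y ∈ Y, ∀ v ∈ Y, Ψ y v = 1) : Nat.card Y * Nat.card Y ≤ Nat.card V := by
  classical
  have hk : ∀ y : Y, ∀ v ∈ Y, (AddChar.toAddMonoidHom (Ψ y)) v = 0 := fun y v hv => hY y y.2 v hv
  let f : Y → AddChar (V ⧸ Y) ℂ := fun y =>
    AddChar.toAddMonoidHomEquiv.symm (QuotientAddGroup.lift Y (AddChar.toAddMonoidHom (Ψ y)) (hk y))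
  have hf : ∀ (y : Y) (v : V), f y (v : V ⧸ Y) = Ψ y v := fun y v => rfl
  have hfi : Function.Injective f := by
    intro y y' h
    apply Subtype.ext
    apply hinj
    ext v
    rw [← hf, ← hf, h]
  have h1 : Nat.card Y ≤ Nat.card (AddChar (V ⧸ Y) ℂ) := Nat.card_le_card_of_injective f hfi
  have h2 : Nat.card (AddChar (V ⧸ Y) ℂ) = Nat.card (V ⧸ Y) := by
    have := Fintype.ofFinite (V ⧸ Y)
    rw [Nat.card_eq_fintype_card, Nat.card_eq_fintype_card]
    exact AddChar.card_eq (α := V ⧸ Y)
  rw [h2] at h1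
  rw [AddSubgroup.card_eq_card_quotient_mul_card_addSubgroup Y]
  exact Nat.mul_le_mul_right _ h1

end Char

variable {F : Type*} [Field F] [Fintype F] {q n : ℕ}

/-- The Heisenberg group of `u`. -/
def HP (_hF : Fintype.card F = q ^ 2) (u : Fin n → F) : Type _ :=
  {p : (Fin n → F) × F // hermForm n F q p.1 u = 0 ∧ p.2 + p.2 ^ q + hermForm n F q p.1 p.1 = 0}

instance (hF : Fintype.card F = q ^ 2) (u : Fin n → F) : Finite (HP hF u) := by
  classical
  exact Subtype.finite

instance (hF : Fintype.card F = q ^ 2) (u : Fin n → F) : Mul (HP hF u) :=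
  ⟨fun a b => ⟨(a.1.1 + b.1.1, a.1.2 + b.1.2 - hermForm n F q b.1.1 a.1.1), by
    refine ⟨by rw [herm_add_left, a.2.1, b.2.1, add_zero], ?_⟩
    rw [sub_pow_q hF, add_pow_q hF, ← herm_swap hF, herm_add_left, herm_add_right hF, herm_add_right hF]
    linear_combination a.2.2 + b.2.2⟩⟩

instance (hF : Fintype.card F = q ^ 2) (u : Fin n → F) : One (HP hF u) :=
  ⟨⟨(0, 0), ⟨herm_zero_left u, by rw [zero_pow_q hF, herm_zero_left]; ring⟩⟩⟩

instance (hF : Fintype.card F = q ^ 2) (u : Fin n → F) : Inv (HP hF u) :=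
  ⟨fun a => ⟨(-a.1.1, a.1.2 ^ q), by
    refine ⟨by rw [herm_neg_left, a.2.1, neg_zero], ?_⟩
    rw [pow_q_pow_q hF, herm_neg_left, herm_neg_right hF, neg_neg]
    linear_combination a.2.2⟩⟩

theorem HP.ext {hF : Fintype.card F = q ^ 2} {u : Fin n → F} {a b : HP hF u} (h1 : a.1.1 = b.1.1)
    (h2 : a.1.2 = b.1.2) : a = b := Subtype.ext (Prod.ext h1 h2)

theorem HP.mul_fst {hF : Fintype.card F = q ^ 2} {u : Fin n → F} (a b : HP hF u) : (a * b).1.1 = a.1.1 + b.1.1 := rfl

theorem HP.mul_snd {hF : Fintype.card F = q ^ 2} {u : Fin n → F} (a b : HP hF u) :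
    (a * b).1.2 = a.1.2 + b.1.2 - hermForm n F q b.1.1 a.1.1 := rfl

theorem HP.one_fst {hF : Fintype.card F = q ^ 2} {u : Fin n → F} : (1 : HP hF u).1.1 = 0 := rfl

theorem HP.one_snd {hF : Fintype.card F = q ^ 2} {u : Fin n → F} : (1 : HP hF u).1.2 = 0 := rfl

theorem HP.inv_fst {hF : Fintype.card F = q ^ 2} {u : Fin n → F} (a : HP hF u) : (a⁻¹).1.1 = -a.1.1 := rfl

theorem HP.inv_snd {hF : Fintype.card F = q ^ 2} {u : Fin n → F} (a : HP hF u) : (a⁻¹).1.2 = a.1.2 ^ q := rfl

instance (hF : Fintype.card F = q ^ 2) (u : Fin n → F) : Group (HP hF u) :=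
  Group.ofLeftAxioms
    (fun a b c => HP.ext (by rw [HP.mul_fst, HP.mul_fst, HP.mul_fst, HP.mul_fst, add_assoc]) (by
      rw [HP.mul_snd, HP.mul_snd, HP.mul_snd, HP.mul_snd, HP.mul_fst, HP.mul_fst, herm_add_right hF, herm_add_left]
      ring))
    (fun a => HP.ext (by rw [HP.mul_fst, HP.one_fst, zero_add]) (by
      rw [HP.mul_snd, HP.one_fst, HP.one_snd, herm_zero_right hF]; ring))
    (fun a => HP.ext (by rw [HP.mul_fst, HP.inv_fst, HP.one_fst, neg_add_cancel]) (by
      rw [HP.mul_snd, HP.inv_fst, HP.inv_snd, HP.one_snd, herm_neg_right hF]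
      linear_combination a.2.2))

/-- the Siegel elements of `u` -/
def rho (hF : Fintype.card F = q ^ 2) {u : Fin n → F} (hu : hermForm n F q u u = 0) : HP hF u →* SU n F q :=
  MonoidHom.mk' (fun p => siegel hF u p.1.1 p.1.2 ⟨hu, p.2.1, p.2.2⟩) (fun a b => (siegel_mul hF _ _).symm)

theorem rho_apply (hF : Fintype.card F = q ^ 2) {u : Fin n → F} (hu : hermForm n F q u u = 0) (p : HP hF u) :
    rho hF hu p = siegel hF u p.1.1 p.1.2 ⟨hu, p.2.1, p.2.2⟩ := rfl

/-- the projection to the vector -/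
def prV (hF : Fintype.card F = q ^ 2) (u : Fin n → F) : HP hF u →* Multiplicative (Fin n → F) :=
  MonoidHom.mk' (fun p => Multiplicative.ofAdd p.1.1) (fun _ _ => rfl)

/-- the trace zero elements -/
def Km (hF : Fintype.card F = q ^ 2) : AddSubgroup F where
  carrier := {κ | κ + κ ^ q = 0}
  zero_mem' := by change (0 : F) + 0 ^ q = 0; rw [zero_pow_q hF, add_zero]
  add_mem' := by
    intro a b ha hb
    change a + a ^ q = 0 at ha
    change b + b ^ q = 0 at hb
    change (a + b) + (a + b) ^ q = 0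
    rw [add_pow_q hF]
    linear_combination ha + hb
  neg_mem' := by
    intro a ha
    change a + a ^ q = 0 at ha
    change -a + (-a) ^ q = 0
    rw [neg_pow_q hF]
    linear_combination -ha

theorem mem_Km {hF : Fintype.card F = q ^ 2} {κ : F} : κ ∈ Km hF ↔ κ + κ ^ q = 0 := Iff.rfl

/-- a transvection is a Siegel element -/
theorem isT {hF : Fintype.card F = q ^ 2} {u : Fin n → F} (hu : hermForm n F q u u = 0) {κ : F} (hκ : κ ∈ Km hF) :
    IsSiegel q u 0 κ := ⟨hu, herm_zero_left u, by rw [herm_zero_left, add_zero]; exact hκ⟩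

/-- the transvections of centre `u` in `X` -/
def Zu (hF : Fintype.card F = q ^ 2) {u : Fin n → F} (hu : hermForm n F q u u = 0) (X : Subgroup (SU n F q)) :
    AddSubgroup (Km hF) where
  carrier := {κ | siegel hF u 0 κ.1 (isT hu κ.2) ∈ X}
  zero_mem' := by
    change siegel hF u 0 0 _ ∈ X
    rw [siegel_zero]; exact one_mem X
  add_mem' := by
    intro a b ha hb
    change siegel hF u 0 a.1 _ ∈ X at ha
    change siegel hF u 0 b.1 _ ∈ X at hb
    change siegel hF u 0 (a.1 + b.1) _ ∈ X
    have h := X.mul_mem ha hb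
    rw [siegel_mul] at h
    rwa [siegel_congr hF _ (isT hu (a + b).2) rfl (add_zero _) (by rw [herm_zero_left, sub_zero]; rfl)] at h
  neg_mem' := by
    intro a ha
    change siegel hF u 0 a.1 _ ∈ X at ha
    change siegel hF u 0 (-a.1) _ ∈ X
    have h := X.inv_mem ha
    rw [siegel_inv] at h
    have h3 : a.1 ^ q = -a.1 := by have h4 : a.1 + a.1 ^ q = 0 := a.2; linear_combination h4
    rwa [siegel_congr hF _ (isT hu (-a).2) rfl neg_zero (by rw [h3]; rfl)] at h

theorem mem_Zu {hF : Fintype.card F = q ^ 2} {u : Fin n → F} {hu : hermForm n F q u u = 0} {X : Subgroup (SU n F q)}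
    {κ : Km hF} : κ ∈ Zu hF hu X ↔ siegel hF u 0 κ.1 (isT hu κ.2) ∈ X := Iff.rfl

/-- the vectors of the Siegel elements in `X` -/
def Yu (hF : Fintype.card F = q ^ 2) {u : Fin n → F} (hu : hermForm n F q u u = 0) (X : Subgroup (SU n F q)) :
    AddSubgroup (Fin n → F) where
  carrier := {w | ∃ p : HP hF u, p ∈ X.comap (rho hF hu) ∧ p.1.1 = w}
  zero_mem' := ⟨1, one_mem _, rfl⟩
  add_mem' := by
    rintro _ _ ⟨p, hp, rfl⟩ ⟨p', hp', rfl⟩
    exact ⟨p * p', mul_mem hp hp', rfl⟩
  neg_mem' := by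
    rintro _ ⟨p, hp, rfl⟩
    exact ⟨p⁻¹, inv_mem hp, rfl⟩

theorem card_F (hF : Fintype.card F = q ^ 2) : Nat.card (Fin n → F) = q ^ (2 * n) := by
  rw [Nat.card_eq_fintype_card, Fintype.card_fun, hF, Fintype.card_fin, pow_mul]

/-- `h(v,y) - h(y,v)` -/
def alt (hF : Fintype.card F = q ^ 2) (v y : Fin n → F) : Km hF :=
  ⟨hermForm n F q v y - hermForm n F q y v, by
    rw [mem_Km, sub_pow_q hF, ← herm_swap hF, ← herm_swap hF]; ring⟩

theorem alt_add (hF : Fintype.card F = q ^ 2) (v v' y : Fin n → F) : alt hF (v + v') y = alt hF v y + alt hF v' y := by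
  apply Subtype.ext
  change hermForm n F q (v + v') y - hermForm n F q y (v + v') = (hermForm n F q v y - hermForm n F q y v) +
    (hermForm n F q v' y - hermForm n F q y v')
  rw [herm_add_left, herm_add_right hF]
  ring

theorem alt_zero (hF : Fintype.card F = q ^ 2) (y : Fin n → F) : alt hF 0 y = 0 := by
  apply Subtype.ext
  change hermForm n F q 0 y - hermForm n F q y 0 = 0
  rw [herm_zero_left, herm_zero_right hF, sub_zero]

theorem alt_sub (hF : Fintype.card F = q ^ 2) (v y y' : Fin n → F) : alt hF v (y - y') = alt hF v y - alt hF v y' := by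
  apply Subtype.ext
  change hermForm n F q v (y - y') - hermForm n F q (y - y') v = (hermForm n F q v y - hermForm n F q y v) -
    (hermForm n F q v y' - hermForm n F q y' v)
  rw [herm_sub_left, herm_sub_right hF]
  ring

/-- `x - x^q` is onto the trace zero elements (for `|F| = q²`) -/
theorem exists_sub_pow (hF : Fintype.card F = q ^ 2) {κ : F} (hκ : κ ∈ Km hF) : ∃ x : F, x - x ^ q = κ := by
  obtain ⟨z, hz0, hz⟩ := exists_trace_zero_ne hF
  have hzq : z ^ q = -z := by linear_combination hz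
  have hκq : κ ^ q = -κ := by have := mem_Km.1 hκ; linear_combination this
  have hc : (κ / z) ^ q = κ / z := by rw [div_pow, hzq, hκq, neg_div_neg_eq]
  obtain ⟨x, hx⟩ := exists_trace_eq hF hc
  refine ⟨x * z, ?_⟩
  rw [mul_pow, hzq]
  have : x * z - x ^ q * -z = (x + x ^ q) * z := by ring
  rw [this, hx, div_mul_cancel₀ _ hz0]

/-- **The vectors of the Siegel elements in `X` form a totally isotropic group.** -/
theorem card_Yu (hF : Fintype.card F = q ^ 2) {u : Fin n → F} (hu : hermForm n F q u u = 0) {X : Subgroup (SU n F q)}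
    (hZ : Zu hF hu X ≠ ⊤) : Nat.card (Yu hF hu X) ≤ q ^ n := by
  classical
  obtain ⟨κ0, -, hκ0⟩ : ∃ κ ∈ (⊤ : AddSubgroup (Km hF)), κ ∉ Zu hF hu X := by
    by_contra hcon
    push Not at hcon
    exact hZ (top_le_iff.1 hcon)
  obtain ⟨ψ, hψ⟩ := AddChar.exists_apply_ne_zero (a := (κ0 : Km hF ⧸ Zu hF hu X)).2
    (by rwa [Ne, QuotientAddGroup.eq_zero_iff])
  let Ψ : (Fin n → F) → AddChar (Fin n → F) ℂ := fun y =>
    { toFun := fun v => ψ ((alt hF v y : Km hF) : Km hF ⧸ Zu hF hu X)
      map_zero_eq_one' := by rw [alt_zero]; exact AddChar.map_zero_eq_one ψ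
      map_add_eq_mul' := by
        intro v v'
        rw [alt_add, QuotientAddGroup.mk_add, AddChar.map_add_eq_mul] }
  have hΨ : ∀ y v, Ψ y v = ψ ((alt hF v y : Km hF) : Km hF ⧸ Zu hF hu X) := fun _ _ => rfl
  have hinj : Function.Injective Ψ := by
    intro y y' hyy
    by_contra hne
    have hne' : y - y' ≠ 0 := sub_ne_zero.2 hne
    obtain ⟨v, hv⟩ := exists_herm_ne_zero hF hne'
    have hv' : hermForm n F q v (y - y') ≠ 0 := fun h => hv (herm_eq_zero_swap hF h)
    obtain ⟨x, hx⟩ := exists_sub_pow hF κ0.2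
    let c : F := x / hermForm n F q v (y - y')
    have h1 : alt hF (c • v) (y - y') = κ0 := by
      apply Subtype.ext
      change hermForm n F q (c • v) (y - y') - hermForm n F q (y - y') (c • v) = κ0.1
      rw [herm_swap hF (c • v) (y - y'), herm_smul_left, div_mul_cancel₀ _ hv', hx]
    have h2 : Ψ y (c • v) = Ψ y' (c • v) := by rw [hyy]
    apply hψ
    rw [← h1, alt_sub, QuotientAddGroup.mk_sub, AddChar.map_sub_eq_div, ← hΨ, ← hΨ, h2, div_self]
    rw [hΨ]
    exact (AddChar.val_isUnit ψ _).ne_zero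
  have h1 := iso_card Ψ hinj (Yu hF hu X) (by
    rintro _ ⟨p, hp, rfl⟩ _ ⟨p', hp', rfl⟩
    rw [hΨ]
    have h2 : (alt hF p'.1.1 p.1.1 : Km hF) ∈ Zu hF hu X := by
      rw [mem_Zu]
      have h3 := commutator_siegel hF (IsSiegel.mk hu p'.2.1 p'.2.2) (IsSiegel.mk hu p.2.1 p.2.2)
      have h4 : siegel hF u 0 _ (isT hu (alt hF p'.1.1 p.1.1).2) = _ := h3.symm
      rw [h4, commutatorElement_def]
      exact mul_mem (mul_mem (mul_mem hp' hp) (inv_mem hp')) (inv_mem hp)
    rw [(QuotientAddGroup.eq_zero_iff _).2 h2]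
    exact AddChar.map_zero_eq_one ψ)
  rw [card_F hF, mul_comm 2 n, pow_mul, pow_two] at h1
  exact Nat.mul_self_le_mul_self_iff.1 h1

/-- the kernel-range count -/
theorem card_le_of_hom {G H : Type*} [Group G] [Finite G] [Group H] (X : Subgroup G) (f : G →* H) {a b : ℕ}
    (ha : (f '' (X : Set G)).ncard ≤ a) (hb : ({x | x ∈ X ∧ f x = 1} : Set G).ncard ≤ b) : Nat.card X ≤ a * b := by
  let g : X →* H := f.comp X.subtype
  have h1 : g.ker.index = Nat.card g.range := Subgroup.index_ker g
  have h2 := Subgroup.card_mul_index g.ker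
  have h3 : Nat.card g.range ≤ a := by
    refine le_trans (le_of_eq ?_) ha
    rw [← Nat.card_coe_set_eq]
    apply Nat.card_congr
    apply Equiv.setCongr
    ext x
    constructor
    · rintro ⟨y, rfl⟩
      exact ⟨y, y.2, rfl⟩
    · rintro ⟨y, hy, rfl⟩
      exact ⟨⟨y, hy⟩, rfl⟩
  have h4 : Nat.card g.ker ≤ b := by
    refine le_trans ?_ hb
    rw [← Nat.card_coe_set_eq]
    apply Nat.card_le_card_of_injective (fun x : g.ker => (⟨x.1.1, x.1.2, x.2⟩ : {x : G // x ∈ X ∧ f x = 1}))
    intro x y hxy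
    exact Subtype.ext (Subtype.ext (congrArg (fun z : {x : G // x ∈ X ∧ f x = 1} => z.1) hxy))
  rw [← h2, h1, mul_comm a b]
  exact Nat.mul_le_mul h4 h3

/-- **Heisenberg lemma.** -/
theorem card_heis (hF : Fintype.card F = q ^ 2) {u : Fin n → F} (hu : hermForm n F q u u = 0)
    {X : Subgroup (SU n F q)} (hZ : Zu hF hu X ≠ ⊤) :
    Nat.card (X.comap (rho hF hu)) ≤ q ^ n * Nat.card (Zu hF hu X) := by
  apply card_le_of_hom _ (prV hF u)
  · refine le_trans ?_ (card_Yu hF hu hZ)
    rw [← Nat.card_coe_set_eq]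
    apply Nat.card_le_card_of_injective (fun x : (prV hF u '' (X.comap (rho hF hu) : Set (HP hF u))) =>
      (⟨Multiplicative.toAdd x.1, by
        obtain ⟨p, hp, h⟩ := x.2
        refine ⟨p, hp, ?_⟩
        rw [← h]; rfl⟩ : Yu hF hu X))
    intro x y hxy
    exact Subtype.ext (congrArg (fun z : Yu hF hu X => (z : Fin n → F)) hxy)
  · rw [← Nat.card_coe_set_eq]
    have h0 : ∀ x : HP hF u, prV hF u x = 1 → x.1.1 = 0 := fun x hx => hx
    have hK : ∀ x : HP hF u, prV hF u x = 1 → x.1.2 ∈ Km hF := by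
      intro x hx
      have h2 := x.2.2
      rw [h0 x hx, herm_zero_left, add_zero] at h2
      exact h2
    apply Nat.card_le_card_of_injective (fun x : ({x | x ∈ X.comap (rho hF hu) ∧ prV hF u x = 1} : Set (HP hF u)) =>
      (⟨⟨x.1.1.2, hK x.1 x.2.2⟩, by
        rw [mem_Zu]
        have h1 : rho hF hu x.1 ∈ X := x.2.1
        rw [rho_apply] at h1
        rwa [siegel_congr hF _ (isT hu (hK x.1 x.2.2)) rfl (h0 x.1 x.2.2) rfl] at h1⟩ : Zu hF hu X))
    intro x y hxy
    have h1 : x.1.1.2 = y.1.1.2 := congrArg (fun z : Zu hF hu X => (z.1.1 : F)) hxy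
    exact Subtype.ext (HP.ext (by rw [h0 x.1 x.2.2, h0 y.1 y.2.2]) h1)

/-- the index form -/
theorem heis_index (hF : Fintype.card F = q ^ 2) {u : Fin n → F} (hu : hermForm n F q u u = 0)
    {X : Subgroup (SU n F q)} (hZ : Zu hF hu X ≠ ⊤) (D : Subgroup (HP hF u)) :
    Nat.card D ≤ (X.comap (rho hF hu)).relIndex D * (q ^ n * Nat.card (Zu hF hu X)) := by
  have h1 := Subgroup.card_mul_index ((X.comap (rho hF hu)).subgroupOf D)
  have h2 : Nat.card ((X.comap (rho hF hu)).subgroupOf D) ≤ Nat.card (X.comap (rho hF hu)) := by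
    apply Nat.card_le_card_of_injective (fun x : (X.comap (rho hF hu)).subgroupOf D =>
      (⟨x.1.1, x.2⟩ : X.comap (rho hF hu)))
    intro x y hxy
    exact Subtype.ext (Subtype.ext (congrArg (fun z : X.comap (rho hF hu) => (z : HP hF u)) hxy))
  rw [← h1, mul_comm]
  exact Nat.mul_le_mul_left _ (h2.trans (card_heis hF hu hZ))

end Cfsg.Agent.H999.IFU
end

-- part: H847/IF/ClassU
section
/-!
# S5719, unitary groups: the class of the involution `x ↦ x + ∑ B (u i) x • u i` (helper847)

`class_le` : `|SU(V) : C(t)| * q ^ k ≤ (q + 1) ^ k * q ^ (2 k (n - k))`.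
-/

set_option autoImplicit false
set_option linter.unusedSectionVars false

namespace Cfsg.Agent.H847.IF

open Module Cfsg.Agent.H91.U Cfsg.Agent.H450.UF
open Cfsg.Agent.H950 (isoNum)

/-! ### numbers -/

theorem isoNum_le {q : ℕ} (hq : 2 ≤ q) {N : ℕ} (hN : 1 ≤ N) :
    isoNum q N * q ^ 2 ≤ (q + 1) * q ^ (2 * N) := by
  obtain ⟨M, rfl⟩ : ∃ M, N = M + 1 := ⟨N - 1, by omega⟩
  have hx : 1 ≤ q ^ M := Nat.one_le_pow _ _ (by omega)
  unfold isoNum
  split_ifs with h
  · have hM : 1 ≤ M := by
      rcases Nat.eq_zero_or_pos M with rfl | h0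
      · exact absurd h (by decide)
      · exact h0
    have hxq : q ≤ q ^ M := by
      calc q = q ^ 1 := (pow_one q).symm
        _ ≤ q ^ M := Nat.pow_le_pow_right (by omega) hM
    rw [Nat.add_sub_cancel]
    calc (q ^ (M + 1) - 1) * (q ^ M + 1) * q ^ 2 ≤ q ^ (M + 1) * (q ^ M + 1) * q ^ 2 := by
          gcongr
          exact Nat.sub_le _ _
      _ = q ^ M * q ^ M * q ^ 3 + q ^ M * q ^ 2 * q := by ring
      _ ≤ q ^ M * q ^ M * q ^ 3 + q ^ M * q ^ 2 * q ^ M := by gcongr
      _ = (q + 1) * q ^ (2 * (M + 1)) := by ring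
  · rw [Nat.add_sub_cancel]
    have h1 : (q ^ (M + 1) + 1) * (q ^ M - 1) ≤ q ^ M * q ^ (M + 1) := by
      obtain ⟨y, hy⟩ : ∃ y, q ^ M = y + 1 := ⟨q ^ M - 1, by omega⟩
      rw [pow_succ, hy, Nat.add_sub_cancel]
      nlinarith only [hq]
    calc (q ^ (M + 1) + 1) * (q ^ M - 1) * q ^ 2 ≤ q ^ M * q ^ (M + 1) * q ^ 2 := by gcongr
      _ = q * q ^ (2 * (M + 1)) := by ring
      _ ≤ (q + 1) * q ^ (2 * (M + 1)) := by gcongr; omega

theorem prod_even {q : ℕ} (hq : 2 ≤ q) (j : ℕ) :
    q ^ (j * (2 * j + 1)) ≤ ∏ i ∈ Finset.range (2 * j), (if Even i then q ^ (i + 1) + 1 else q ^ (i + 1) - 1) := by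
  induction j with
  | zero => simp only [_root_.MulZeroClass.mul_zero, _root_.zero_add, _root_.mul_one, _root_.pow_zero, _root_.Finset.range_zero, _root_.Finset.prod_empty, _root_.Std.le_refl]
  | succ j ih =>
    rw [show 2 * (j + 1) = 2 * j + 1 + 1 by ring, Finset.prod_range_succ, Finset.prod_range_succ,
      if_pos (even_two_mul j), if_neg (by simp only [_root_.Nat.not_even_bit1, _root_.not_false_eq_true])]
    have h1 : q ^ (4 * j + 3) ≤ (q ^ (2 * j + 1) + 1) * (q ^ (2 * j + 1 + 1) - 1) := by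
      obtain ⟨y, hy⟩ : ∃ y, q ^ (2 * j + 1 + 1) = y + 1 :=
        ⟨q ^ (2 * j + 1 + 1) - 1, by have : 1 ≤ q ^ (2 * j + 1 + 1) := Nat.one_le_pow _ _ (by omega); omega⟩
      rw [hy, Nat.add_sub_cancel]
      have h2 : q ^ (4 * j + 3) = q ^ (2 * j + 1) * (y + 1) := by rw [← hy]; ring
      have h3 : 2 * q ^ (2 * j + 1) ≤ y + 1 := by
        rw [← hy, pow_succ q (2 * j + 1), mul_comm]
        gcongr
      have h4 : 1 ≤ q ^ (2 * j + 1) := Nat.one_le_pow _ _ (by omega)
      rw [h2]
      linarith only [h3]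
    calc q ^ ((j + 1) * (2 * j + 1 + 1 + 1)) = q ^ (j * (2 * j + 1)) * q ^ (4 * j + 3) := by rw [← pow_add]; congr 1; ring
      _ ≤ _ := by rw [mul_assoc]; exact Nat.mul_le_mul ih h1

theorem le_card_GU {F : Type*} [Field F] [Fintype F] {q : ℕ} (hF : Fintype.card F = q ^ 2) (k : ℕ) :
    q ^ (k * k) ≤ Nat.card (Cfsg.GU k F q) := by
  have hq : 2 ≤ q := Cfsg.Agent.LieClassical.GUOrder.two_le hF
  rw [Cfsg.Agent.S0277.result hF k]
  rcases Nat.even_or_odd' k with ⟨j, rfl | rfl⟩
  · have h1 : 2 * j * (2 * j - 1) / 2 = j * (2 * j - 1) := by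
      rw [mul_assoc, Nat.mul_div_cancel_left _ (by norm_num)]
    rw [h1]
    calc q ^ (2 * j * (2 * j)) = q ^ (j * (2 * j - 1)) * q ^ (j * (2 * j + 1)) := by
          rw [← pow_add]
          congr 1
          rcases Nat.eq_zero_or_pos j with rfl | hj
          · rfl
          · obtain ⟨i, rfl⟩ : ∃ i, j = i + 1 := ⟨j - 1, by omega⟩
            rw [show 2 * (i + 1) - 1 = 2 * i + 1 by omega]
            ring
      _ ≤ _ := Nat.mul_le_mul le_rfl (prod_even hq j)
  · have h1 : (2 * j + 1) * (2 * j + 1 - 1) / 2 = j * (2 * j + 1) := by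
      rw [Nat.add_sub_cancel, mul_comm (2 * j + 1) (2 * j), mul_assoc, Nat.mul_div_cancel_left _ (by norm_num)]
    rw [h1, Finset.prod_range_succ, if_pos (even_two_mul j)]
    calc q ^ ((2 * j + 1) * (2 * j + 1)) = q ^ (j * (2 * j + 1)) * (q ^ (j * (2 * j + 1)) * q ^ (2 * j + 1)) := by
          rw [← pow_add, ← pow_add]
          congr 1
          ring
      _ ≤ _ := Nat.mul_le_mul le_rfl (Nat.mul_le_mul (prod_even hq j) (Nat.le_succ _))

/-! ### frames -/

variable {F V : Type*} [Field F] [AddCommGroup V] [Module F V] {σ : F →+* F} {B : V →ₛₗ[σ] V →ₗ[F] F}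

variable (B) in
/-- the number of totally isotropic frames of length `k` -/
noncomputable def fr (k : ℕ) : ℕ := Nat.card {u : Fin k → V // Frame B u}

theorem fr_succ_le [Fintype F] [FiniteDimensional F V] {q : ℕ} (hF : Fintype.card F = q ^ 2) (hB : HForm B) (k : ℕ) :
    fr B (k + 1) ≤ fr B k * ((q ^ 2) ^ k * isoNum q (finrank F V - 2 * k)) := by
  classical
  have : Finite V := Module.finite_of_finite F
  have hinit : ∀ u : Fin (k + 1) → V, Frame B u → Frame B (Fin.init u) := fun u hu =>
    ⟨(linearIndependent_finSucc'.1 hu.li).1, fun i l => hu.ti _ _⟩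
  let X : {u : Fin k → V // Frame B u} → Type _ := fun u =>
    {v : V // v ∉ Submodule.span F (Set.range u.1) ∧ v ∈ perp B (Submodule.span F (Set.range u.1)) ∧ B v v = 0}
  let Φ : {u : Fin (k + 1) → V // Frame B u} → Σ u : {u : Fin k → V // Frame B u}, X u := fun u =>
    ⟨⟨Fin.init u.1, hinit u.1 u.2⟩, ⟨u.1 (Fin.last k), (linearIndependent_finSucc'.1 u.2.li).2, by
      intro z hz
      induction hz using Submodule.span_induction with
      | mem z hz => obtain ⟨i, rfl⟩ := hz; exact u.2.ti _ _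
      | zero => rw [map_zero]
      | add y z _ _ h1 h2 => rw [map_add, h1, h2, add_zero]
      | smul c y _ h => rw [smul_right', h, mul_zero], u.2.ti _ _⟩⟩
  have hΦ : Function.Injective Φ := by
    intro u u' h
    apply Subtype.ext
    have h1 : Fin.init u.1 = Fin.init u'.1 := congrArg (fun s : Σ u : {u : Fin k → V // Frame B u}, X u => s.1.1) h
    have h2 : u.1 (Fin.last k) = u'.1 (Fin.last k) :=
      congrArg (fun s : Σ u : {u : Fin k → V // Frame B u}, X u => s.2.1) h
    rw [← Fin.snoc_init_self u.1, ← Fin.snoc_init_self u'.1, h1, h2]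
  have := Fintype.ofFinite {u : Fin k → V // Frame B u}
  have hcard : ∀ u, Nat.card (X u) = (q ^ 2) ^ k * isoNum q (finrank F V - 2 * k) := by
    intro u
    have h1 : finrank F (Submodule.span F (Set.range u.1)) = k := by
      rw [finrank_span_eq_card u.2.li, Fintype.card_fin]
    have h2 := card_iso_perp hF hB (C := Submodule.span F (Set.range u.1)) (Frame.span_ti u.2)
    rw [h1] at h2
    exact h2
  calc fr B (k + 1) ≤ Nat.card (Σ u : {u : Fin k → V // Frame B u}, X u) := Nat.card_le_card_of_injective Φ hΦ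
    _ = ∑ u : {u : Fin k → V // Frame B u}, Nat.card (X u) := Nat.card_sigma
    _ = fr B k * ((q ^ 2) ^ k * isoNum q (finrank F V - 2 * k)) := by
        rw [Finset.sum_congr rfl fun u _ => hcard u, Finset.sum_const, Finset.card_univ, smul_eq_mul, fr,
          Nat.card_eq_fintype_card]

theorem fr_le [Fintype F] [FiniteDimensional F V] {q : ℕ} (hF : Fintype.card F = q ^ 2) (hB : HForm B) (k : ℕ) :
    fr B k * q ^ (k * k + k) ≤ (q + 1) ^ k * q ^ (2 * (finrank F V) * k) := by
  have hq : 2 ≤ q := Cfsg.Agent.LieClassical.GUOrder.two_le hF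
  induction k with
  | zero =>
    have h1 : fr B 0 ≤ 1 := by
      rw [fr]
      have : Subsingleton {u : Fin 0 → V // Frame B u} := ⟨fun a b => Subtype.ext (Subsingleton.elim _ _)⟩
      exact Finite.card_le_one_iff_subsingleton.2 this
    simpa using h1
  | succ k ih =>
    set n := finrank F V with hn
    rcases Nat.lt_or_ge (2 * k) n with h | h
    · have h1 := isoNum_le hq (N := n - 2 * k) (by omega)
      calc fr B (k + 1) * q ^ ((k + 1) * (k + 1) + (k + 1))
          ≤ fr B k * ((q ^ 2) ^ k * isoNum q (n - 2 * k)) * q ^ ((k + 1) * (k + 1) + (k + 1)) := by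
            gcongr
            exact fr_succ_le hF hB k
        _ = (fr B k * q ^ (k * k + k)) * ((isoNum q (n - 2 * k) * q ^ 2) * q ^ (4 * k)) := by ring
        _ ≤ ((q + 1) ^ k * q ^ (2 * n * k)) * (((q + 1) * q ^ (2 * (n - 2 * k))) * q ^ (4 * k)) := by gcongr
        _ = (q + 1) ^ (k + 1) * q ^ (2 * n * k + (2 * (n - 2 * k) + 4 * k)) := by ring
        _ = (q + 1) ^ (k + 1) * q ^ (2 * n * (k + 1)) := by
            congr 2
            have : 2 * (n - 2 * k) + 4 * k = 2 * n := by omega
            rw [this]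
            ring
    · have h1 : fr B (k + 1) ≤ 0 := by
        refine (fr_succ_le hF hB k).trans ?_
        rw [← hn, show n - 2 * k = 0 by omega]
        simp only [isoNum, _root_.Even.zero, ↓ _root_.reduceIte, _root_.pow_zero, _root_.tsub_self, _root_.zero_tsub, _root_.Nat.reduceAdd, _root_.MulZeroClass.zero_mul, _root_.MulZeroClass.mul_zero, _root_.Std.le_refl]
      rw [Nat.le_zero.1 h1, zero_mul]
      exact Nat.zero_le _

/-! ### the class -/

theorem GU_rel {F : Type*} [Field F] [Fintype F] {q : ℕ} (hF : Fintype.card F = q ^ 2) {k : ℕ} {σ : F →+* F}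
    (hσ : ∀ x, σ x = x ^ q) (a : Cfsg.GU k F q) (i l : Fin k) :
    ∑ j, ((a : GL (Fin k) F) : Matrix (Fin k) (Fin k) F) l j * σ (((a : GL (Fin k) F) : Matrix (Fin k) (Fin k) F) i j) =
      if i = l then 1 else 0 := by
  classical
  set A : Matrix (Fin k) (Fin k) F := ((a : GL (Fin k) F) : Matrix (Fin k) (Fin k) F) with hA
  have h1 : A.transpose * A.map σ = 1 := by
    ext c d
    have h2 := (Cfsg.Agent.LieClassical.GUOrder.mem_GU_iff _).1 a.2 (Pi.single c 1) (Pi.single d 1)
    rw [Matrix.mulVec_single_one, Matrix.mulVec_single_one, Cfsg.Agent.LieClassical.GUOrder.herm_def,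
      Cfsg.Agent.LieClassical.GUOrder.herm_def] at h2
    rw [Matrix.mul_apply, Matrix.one_apply]
    have hq0 : q ≠ 0 := by have := Cfsg.Agent.LieClassical.GUOrder.two_le hF; omega
    have h3 : ∑ i, (Pi.single c (1 : F) : Fin k → F) i * (Pi.single d (1 : F) : Fin k → F) i ^ q = if c = d then 1 else 0 := by
      rw [Finset.sum_eq_single c]
      · rw [Pi.single_eq_same, one_mul, Pi.single_apply]
        split_ifs <;> simp [hq0]
      · intro b _ hb
        rw [Pi.single_eq_of_ne hb, zero_mul]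
      · intro h
        exact absurd (Finset.mem_univ _) h
    rw [h3] at h2
    rw [← h2]
    refine Finset.sum_congr rfl fun i _ => ?_
    rw [Matrix.transpose_apply, Matrix.map_apply, hσ]
    rfl
  have h2 : A.map σ * A.transpose = 1 := mul_eq_one_comm.1 h1
  have h3 := congrFun (congrFun h2 i) l
  rw [Matrix.mul_apply, Matrix.one_apply] at h3
  rw [← h3]
  refine Finset.sum_congr rfl fun j _ => ?_
  rw [Matrix.map_apply, Matrix.transpose_apply, mul_comm]

/-- **the class of the involution of a frame** -/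
theorem class_le [Fintype F] [FiniteDimensional F V] {q : ℕ} (hF : Fintype.card F = q ^ 2) (hB : HForm B)
    (h2 : (2 : F) = 0) {k : ℕ} {u : Fin k → V} (hu : Frame B u) {t : SIso B}
    (ht : ∀ x, t.1 x = x + ∑ i, B (u i) x • u i) :
    (Subgroup.centralizer ({t} : Set (SIso B))).index * q ^ k ≤ (q + 1) ^ k * q ^ (2 * k * (finrank F V - k)) := by
  classical
  have : Finite V := Module.finite_of_finite F
  have hfin : Finite (V ≃ₗ[F] V) := Finite.of_injective (fun g : V ≃ₗ[F] V => (g : V → V)) DFunLike.coe_injective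
  have hq : 2 ≤ q := Cfsg.Agent.LieClassical.GUOrder.two_le hF
  have hσ : ∀ x, σ x = x ^ q := sig_eq hF hB.ne_id hB.invol
  set C := Subgroup.centralizer ({t} : Set (SIso B)) with hC
  -- the conjugates
  have hconj : ∀ (g : SIso B) (x : V), (g * t * g⁻¹).1 x = x + ∑ i, B (g.1 (u i)) x • g.1 (u i) := by
    intro g x
    have h1 : (g * t * g⁻¹).1 x = g.1 (t.1 (g.1⁻¹ x)) := rfl
    have hgg : g.1 (g.1⁻¹ x) = x := g.1.apply_symm_apply x
    rw [h1, ht, map_add, map_sum, hgg]
    congr 1
    refine Finset.sum_congr rfl fun i _ => ?_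
    rw [map_smul]
    congr 1
    have h3 := g.2.2 (u i) (g.1⁻¹ x)
    rw [hgg] at h3
    exact h3.symm
  let w : (SIso B ⧸ C) × Cfsg.GU k F q → (Fin k → V) := fun p j =>
    ∑ i, ((p.2 : GL (Fin k) F) : Matrix (Fin k) (Fin k) F) i j • (p.1.out).1 (u i)
  have hli : ∀ c : SIso B ⧸ C, LinearIndependent F (fun i => (c.out).1 (u i)) := fun c => (Frame.map hu (c.out).2).li
  have hw : ∀ p, Frame B (w p) := by
    intro p
    refine ⟨?_, fun i l => ?_⟩
    · rw [Fintype.linearIndependent_iff]
      intro g hg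
      have h1 : ∑ i, (∑ j, ((p.2 : GL (Fin k) F) : Matrix (Fin k) (Fin k) F) i j * g j) • (p.1.out).1 (u i) = 0 := by
        rw [← hg]
        simp only [w, Finset.smul_sum, Finset.sum_smul, smul_smul]
        rw [Finset.sum_comm]
        refine Finset.sum_congr rfl fun j _ => Finset.sum_congr rfl fun i _ => ?_
        rw [mul_comm]
      have h3 := Fintype.linearIndependent_iff.1 (hli p.1) _ h1
      have h4 : ((p.2 : GL (Fin k) F) : Matrix (Fin k) (Fin k) F).mulVec g = 0 := funext h3
      have h5 := Matrix.eq_zero_of_mulVec_eq_zero (by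
        have := (p.2 : GL (Fin k) F).isUnit
        rw [Matrix.isUnit_iff_isUnit_det] at this
        exact this.ne_zero) h4
      exact fun i => congrFun h5 i
    · simp only [w, map_sum, LinearMap.sum_apply, smul_left', smul_right']
      refine Finset.sum_eq_zero fun a _ => Finset.sum_eq_zero fun b _ => ?_
      rw [(Frame.map hu (p.1.out).2).ti]
      ring
  have hsum : ∀ p x, ∑ j, B (w p j) x • w p j = ∑ i, B ((p.1.out).1 (u i)) x • (p.1.out).1 (u i) := by
    intro p x
    have hr := GU_rel hF hσ p.2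
    set A : Matrix (Fin k) (Fin k) F := ((p.2 : GL (Fin k) F) : Matrix (Fin k) (Fin k) F) with hA
    have e1 : ∀ j, B (w p j) x • w p j =
        ∑ i, ∑ l, (A l j * σ (A i j)) • (B ((p.1.out).1 (u i)) x • (p.1.out).1 (u l)) := by
      intro j
      have e0 : B (w p j) x = ∑ i, σ (A i j) * B ((p.1.out).1 (u i)) x := by
        simp only [w, map_sum, LinearMap.sum_apply, smul_left']
        rfl
      rw [e0, Finset.sum_smul]
      refine Finset.sum_congr rfl fun i _ => ?_
      simp only [w, Finset.smul_sum, smul_smul]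
      refine Finset.sum_congr rfl fun l _ => ?_
      congr 1
      change _ * A l j = _
      ring
    rw [Finset.sum_congr rfl fun j _ => e1 j, Finset.sum_comm]
    refine Finset.sum_congr rfl fun i _ => ?_
    rw [Finset.sum_comm]
    have e2 : ∀ l, ∑ j, (A l j * σ (A i j)) • (B ((p.1.out).1 (u i)) x • (p.1.out).1 (u l)) =
        (if i = l then (1 : F) else 0) • (B ((p.1.out).1 (u i)) x • (p.1.out).1 (u l)) := by
      intro l
      rw [← Finset.sum_smul, hr]
    rw [Finset.sum_congr rfl fun l _ => e2 l]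
    simp only [_root_.ite_smul, _root_.one_smul, _root_.zero_smul, _root_.Finset.sum_ite_eq, _root_.Finset.mem_univ, ↓ _root_.reduceIte]
  have hinj : Function.Injective w := by
    intro p p' h
    have h1 : p.1 = p'.1 := by
      have h3 : (p.1.out) * t * (p.1.out)⁻¹ = (p'.1.out) * t * (p'.1.out)⁻¹ := by
        apply Subtype.ext
        ext x
        rw [hconj, hconj, ← hsum, ← hsum, h]
      have h4 : (p.1.out)⁻¹ * ((p.1.out) * t * (p.1.out)⁻¹) * (p'.1.out) =
        (p.1.out)⁻¹ * ((p'.1.out) * t * (p'.1.out)⁻¹) * (p'.1.out) := by rw [h3]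
      have h5 : (p.1.out)⁻¹ * (p'.1.out) ∈ C := by
        refine Subgroup.mem_centralizer_singleton_iff.2 ?_
        simpa only [mul_assoc, _root_.inv_mul_cancel, _root_.mul_one, _root_.inv_mul_cancel_left] using h4.symm
      have h6 := QuotientGroup.eq.2 h5
      rwa [QuotientGroup.out_eq', QuotientGroup.out_eq'] at h6
    obtain ⟨c, a⟩ := p
    obtain ⟨c', a'⟩ := p'
    obtain rfl : c = c' := h1
    have h5 : ∀ i j, ((a : GL (Fin k) F) : Matrix (Fin k) (Fin k) F) i j = ((a' : GL (Fin k) F) : Matrix (Fin k) (Fin k) F) i j := by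
      intro i j
      have h6 : ∑ i, (((a : GL (Fin k) F) : Matrix (Fin k) (Fin k) F) i j - ((a' : GL (Fin k) F) : Matrix (Fin k) (Fin k) F) i j) •
          (c.out).1 (u i) = 0 := by
        simp only [sub_smul, Finset.sum_sub_distrib]
        exact sub_eq_zero.2 (congrFun h j)
      exact sub_eq_zero.1 (Fintype.linearIndependent_iff.1 (hli c) _ h6 i)
    have h7 : a = a' := Subtype.ext (Units.ext (Matrix.ext h5))
    rw [h7]
  have hle : C.index * Nat.card (Cfsg.GU k F q) ≤ fr B k := by
    rw [Subgroup.index, ← Nat.card_prod, fr]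
    exact Nat.card_le_card_of_injective (fun p => (⟨w p, hw p⟩ : {u : Fin k → V // Frame B u}))
      (fun p p' h => hinj (congrArg Subtype.val h))
  have h2k : 2 * k ≤ finrank F V := by
    have h1 := ti_two_mul_le hB (Frame.span_ti hu)
    rw [finrank_span_eq_card hu.li, Fintype.card_fin] at h1
    exact h1
  have h3 := fr_le hF hB k
  set n := finrank F V with hn
  have h4 : C.index * q ^ k * q ^ (2 * k * k) ≤ (q + 1) ^ k * q ^ (2 * k * (n - k)) * q ^ (2 * k * k) := by
    calc C.index * q ^ k * q ^ (2 * k * k) = C.index * q ^ (k * k) * q ^ (k * k + k) := by ring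
      _ ≤ C.index * Nat.card (Cfsg.GU k F q) * q ^ (k * k + k) := by
          gcongr
          exact le_card_GU hF k
      _ ≤ fr B k * q ^ (k * k + k) := by gcongr
      _ ≤ (q + 1) ^ k * q ^ (2 * n * k) := h3
      _ = (q + 1) ^ k * q ^ (2 * k * (n - k)) * q ^ (2 * k * k) := by
          have e5 : 2 * k * (n - k) + 2 * k * k = 2 * n * k := by
            rw [← mul_add, Nat.sub_add_cancel (by omega)]
            ring
          rw [← e5, pow_add, ← mul_assoc ((q + 1) ^ k)]
  exact Nat.le_of_mul_le_mul_right h4 (by positivity)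

end Cfsg.Agent.H847.IF
end

private theorem dce_c12729873de7 : _root_.True := by
  try have : _root_.True := by simp only [_root_.Cfsg.Agent.H999.IFU.Zu.congr_simp]
  try have : _root_.True := by simp only [_root_.Cfsg.Agent.H847.IF.fr.eq_1]
  try have : _root_.True := by simp only [_root_.Cfsg.Agent.H950.isoNum.eq_1]
  exact _root_.True.intro
end

-- part: H838/IF/Defs
section
set_option linter.all false
open scoped Cfsg.Agent.FastGrp

/-!
# S5719, `PSU_4(q)`: definitions (helper838)

`V` hermitian space of dimension four, `H ≤ GL(V)` the preimage of `A` in `SIso B`.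
* `NP B P` : nondegenerate plane; `Neg B t P` : `t = -1` on `P`, `1` on `P^⊥`; `Scal g`; `Comm h t` : modulo scalars;
* `cls B t` : the number of `SIso B`-conjugates; `SUW B W` : `SU(W)`; `On B H W` : all transvections with centre in `W`
  are in `H`; `Pk B H` : the package of properties of `H`.
-/

set_option autoImplicit false
set_option linter.unusedSectionVars false

namespace Cfsg.Agent.H838.IF

open Module Subgroup Cfsg Cfsg.Agent.H91.U Cfsg.Agent.H450.UF Cfsg.Agent.H450.Bs Cfsg.Agent.H209.Fxy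

section

variable {F V : Type*} [Field F] [AddCommGroup V] [Module F V] {σ : F →+* F} (B : V →ₛₗ[σ] V →ₗ[F] F)

/-- nondegenerate plane -/
structure NP (P : Submodule F V) : Prop where
  dim : finrank F P = 2
  nd : ∀ x ∈ P, (∀ y ∈ P, B x y = 0) → x = 0

/-- `t` is `-1` on `P` and `1` on the orthogonal space -/
def Neg (t : V ≃ₗ[F] V) (P : Submodule F V) : Prop := (∀ x ∈ P, t x = -x) ∧ ∀ u ∈ pp B P, t u = u

/-- scalar transformations -/
def Scal (g : V ≃ₗ[F] V) : Prop := ∃ a : F, ∀ v, g v = a • v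

/-- `h` commutes with `t` modulo scalars -/
def Comm (h t : V ≃ₗ[F] V) : Prop := ∃ a : F, ∀ v, h (t v) = a • t (h v)

/-- the number of `SIso B`-conjugates of `t` -/
noncomputable def cls (t : V ≃ₗ[F] V) : ℕ := {s : V ≃ₗ[F] V | ∃ g ∈ SIso B, s = g * t * g⁻¹}.ncard

/-- the subgroup `SU(W)`: special isometries, trivial on the orthogonal space of `W` -/
def SUW (W : Submodule F V) : Subgroup (V ≃ₗ[F] V) where
  carrier := {g | g ∈ SIso B ∧ ∀ u ∈ pp B W, g u = u}
  mul_mem' := fun {g h} hg hh => ⟨mul_mem hg.1 hh.1, fun u hu => by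
    rw [LinearEquiv.mul_apply, hh.2 u hu, hg.2 u hu]⟩
  one_mem' := ⟨one_mem _, fun _ _ => rfl⟩
  inv_mem' := fun {g} hg => ⟨inv_mem hg.1, fun u hu => by
    have h1 : g⁻¹ (g u) = u := by
      rw [← LinearEquiv.mul_apply, inv_mul_cancel]
      rfl
    rwa [hg.2 u hu] at h1⟩

/-- all transvections with centre in `W` are in `H` -/
def On (H : Subgroup (V ≃ₗ[F] V)) (W : Submodule F V) : Prop := ∀ c ∈ W, c ≠ 0 → B c c = 0 → PP B H c

/-- the package of properties of the preimage `H` of `A` -/
structure Pk (H : Subgroup (V ≃ₗ[F] V)) : Prop where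
  le : H ≤ SIso B
  ne : ¬ SIso B ≤ H
  sc : ∀ g ∈ SIso B, Scal g → g ∈ H
  /-- (E2) -/
  e2 : ∀ t ∈ H, ¬ Scal t → Scal (t * t) → ∀ K : Subgroup (V ≃ₗ[F] V), K ≤ SIso B → (∀ k ∈ K, Comm k t) →
    H.relIndex K ^ 5 < cls B t

/-- (step C) -/
def StepC (H : Subgroup (V ≃ₗ[F] V)) : Prop :=
  ∀ (P : Submodule F V) (t : V ≃ₗ[F] V), NP B P → Neg B t P → t ∈ H → On B H P ∨ On B H (pp B P)

end

end Cfsg.Agent.H838.IF
end

-- part: H27/IF/PhiDec
section
prune_inst 0x4d07071444d0012000000001460001c63fa00040200488c0004210c0405c9cc0a00020020a0b005194022080400300048121000100040000004200000011c0581000014002000a088800008000000400000000000000000000000000000000000200000000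
set_option linter.all false
open scoped Cfsg.Agent.FastGrp

-- part: H27/IF/Tot
section
/-!
# Additive subgroups of a hermitian space on which the form is symmetric (helper27, S5719)

`card_le` : `D ≤ V` additive, `B x y = B y x` on `D`: `|D| ≤ q ^ dim V`, where `|F| = q ^ 2`.
-/

set_option autoImplicit false
set_option linter.unusedSectionVars false

namespace Cfsg.Agent.H27.IF

open Module Cfsg.Agent.H91.U Cfsg.Agent.H450.UF

variable {F V : Type*} [Field F] [AddCommGroup V] [Module F V] {σ : F →+* F} {B : V →ₛₗ[σ] V →ₗ[F] F}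

/-- an additive functional of `F` which vanishes exactly ... on the fixed field and is not zero -/
theorem exists_functional [Fintype F] (p : ℕ) [Fact p.Prime] [CharP F p] (hB : HForm B) :
    ∃ ψ : F →+ ZMod p, (∀ a, σ a = a → ψ a = 0) ∧ ∃ a, ψ a ≠ 0 := by
  let := ZMod.algebra F p
  let K : AddSubgroup F :=
    { carrier := {a | σ a = a}
      add_mem' := fun {a b} ha hb => by
        change σ (a + b) = a + b
        rw [map_add, ha, hb]
      zero_mem' := map_zero σ
      neg_mem' := fun {a} ha => by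
        change σ (-a) = -a
        rw [map_neg, ha] }
  let W : Submodule (ZMod p) F := AddSubgroup.toZModSubmodule p K
  have hW : W < ⊤ := by
    rw [lt_top_iff_ne_top]
    intro e
    refine hB.ne_id (RingHom.ext fun a => ?_)
    have : a ∈ W := by rw [e]; trivial
    exact this
  obtain ⟨f, hf, hfW⟩ := Submodule.exists_le_ker_of_lt_top W hW
  refine ⟨f.toAddMonoidHom, fun a ha => hfW (show a ∈ W from ha), ?_⟩
  by_contra hcon
  push Not at hcon
  exact hf (LinearMap.ext hcon)

/-- **the size of an additive subgroup on which the form is symmetric** -/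
theorem card_le [Fintype F] [FiniteDimensional F V] {q : ℕ} (hF : Fintype.card F = q ^ 2) (hB : HForm B)
    (D : AddSubgroup V) (hD : ∀ x ∈ D, ∀ y ∈ D, B x y = B y x) : Nat.card D ≤ q ^ finrank F V := by
  classical
  have hfV : Finite V := Module.finite_of_finite F
  obtain ⟨p, hp⟩ := CharP.exists F
  have hpp : p.Prime := CharP.char_is_prime F p
  have := Fact.mk hpp
  let := ZMod.algebra F p
  let : Module (ZMod p) V := Module.compHom V (algebraMap (ZMod p) F)
  obtain ⟨ψ, hψ, a, ha⟩ := exists_functional p hB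
  let β : LinearMap.BilinForm (ZMod p) V := LinearMap.mk₂ (ZMod p) (fun x y => ψ (B x y))
    (fun x x' y => by rw [map_add, LinearMap.add_apply, map_add])
    (fun c x y => by
      let f : V →+ ZMod p :=
        { toFun := fun x => ψ (B x y)
          map_zero' := by rw [map_zero, LinearMap.zero_apply, map_zero]
          map_add' := fun x x' => by rw [map_add, LinearMap.add_apply, map_add] }
      exact (AddMonoidHom.toZModLinearMap p f).map_smul c x)
    (fun x y y' => by rw [map_add, map_add])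
    (fun c x y => by
      let f : V →+ ZMod p :=
        { toFun := fun y => ψ (B x y)
          map_zero' := by rw [map_zero, map_zero]
          map_add' := fun x x' => by rw [map_add, map_add] }
      exact (AddMonoidHom.toZModLinearMap p f).map_smul c y)
  have hβ : ∀ x y, β x y = ψ (B x y) := fun x y => rfl
  have hker : LinearMap.ker β = ⊥ := by
    rw [eq_bot_iff]
    intro x hx
    rw [Submodule.mem_bot]
    apply hB.eq_zero
    intro y
    by_contra hne
    apply ha
    have h1 : β x ((a / B x y) • y) = 0 := by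
      have h2 : β x = 0 := LinearMap.mem_ker.1 hx
      rw [h2, LinearMap.zero_apply]
    rwa [hβ, smul_right, div_mul_cancel₀ _ hne] at h1
  let W : Submodule (ZMod p) V := AddSubgroup.toZModSubmodule p D
  have hW : W ≤ β.orthogonal W := by
    intro x hx y hy
    change β y x = 0
    rw [hβ]
    apply hψ
    rw [← sw hB, hD x hx y hy]
  have h1 := LinearMap.BilinForm.finrank_add_finrank_orthogonal' (B := β) W
  rw [hker, inf_bot_eq, finrank_bot, add_zero] at h1
  have h2 := Submodule.finrank_mono hW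
  have h3 : Nat.card W = p ^ finrank (ZMod p) W := by
    rw [Module.natCard_eq_pow_finrank (K := ZMod p), Nat.card_zmod]
  have h4 : Nat.card V = p ^ finrank (ZMod p) V := by
    rw [Module.natCard_eq_pow_finrank (K := ZMod p), Nat.card_zmod]
  have h5 : Nat.card V = (q ^ finrank F V) ^ 2 := by
    rw [Module.natCard_eq_pow_finrank (K := F), Nat.card_eq_fintype_card, hF, ← pow_mul, ← pow_mul, mul_comm]
  have h6 : Nat.card D = Nat.card W := rfl
  rw [h6]
  have h7 : Nat.card W ^ 2 ≤ (q ^ finrank F V) ^ 2 := by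
    rw [← h5, h4, h3, ← pow_mul]
    exact Nat.pow_le_pow_right hpp.pos (by omega)
  exact (Nat.pow_le_pow_iff_left two_ne_zero).1 h7

end Cfsg.Agent.H27.IF
end

-- part: H27/IF/QGrp
section
/-!
# The unipotent radical of the stabiliser of an isotropic point in `SU(V)` (helper27, S5719)

* `IsX B e w c g` : `g v = v + B(e, v) w - B(w, v) e + c B(e, v) e`;
* `QQ` : the group of these elements, `w ∈ ⟨e, f⟩^⊥`, for a hyperbolic pair `(e, f)`;
* `le_card_QQ` : `q ^ (2 dim V - 3) ≤ |QQ|`; `odd_QQ`; `card_inf_le` : a subgroup without transvections with centre `e` has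
  order at most `q ^ (dim V - 2)`.
-/

set_option autoImplicit false
set_option linter.unusedSectionVars false

namespace Cfsg.Agent.H27.IF

open Module Cfsg.Agent.H91.U Cfsg.Agent.H450.UF Cfsg.Agent.H450.Bs

variable {F V : Type*} [Field F] [AddCommGroup V] [Module F V] {σ : F →+* F} {B : V →ₛₗ[σ] V →ₗ[F] F}

variable (B) in
/-- the elements of the unipotent radical -/
def IsX (e w : V) (c : F) (g : V ≃ₗ[F] V) : Prop := ∀ v, g v = v + B e v • w - B w v • e + (c * B e v) • e

theorem exists_X [FiniteDimensional F V] (hB : HForm B) {e w : V} (he : B e e = 0) (hw : B e w = 0) {c : F}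
    (hc : c + σ c + B w w = 0) : ∃ g : SIso B, IsX B e w c g.1 := by
  have hwe : B w e = 0 := hB.swap_zero hw
  let T1 : V ≃ₗ[F] V := LinearEquiv.transvection (f := -B w) (v := e) (by rw [LinearMap.neg_apply, hwe, neg_zero])
  let T2 : V ≃ₗ[F] V := LinearEquiv.transvection (f := B e) (v := w + c • e)
    (by rw [map_add, map_smul, hw, he, smul_zero, add_zero])
  have h1 : ∀ v, T1 v = v - B w v • e := fun v => by
    rw [LinearEquiv.transvection.apply, LinearMap.neg_apply, neg_smul, sub_eq_add_neg]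
  have h2 : ∀ v, T2 v = v + B e v • (w + c • e) := fun v => by rw [LinearEquiv.transvection.apply]
  have h3 : IsX B e w c (T2 * T1) := by
    intro v
    rw [LinearEquiv.mul_apply, h2, h1, map_sub, map_smul, he, smul_zero, sub_zero, smul_add, smul_smul,
      mul_comm (B e v) c]
    abel
  have h4 : LinearMap.det (T1 : V →ₗ[F] V) = 1 := by
    have h : (T1 : V →ₗ[F] V) = LinearMap.transvection (-B w) e := by
      ext x
      rw [LinearMap.transvection.apply, LinearEquiv.coe_coe, LinearEquiv.transvection.apply]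
    rw [h, LinearMap.transvection.det, LinearMap.neg_apply, hwe, neg_zero, add_zero]
  have h5 : LinearMap.det (T2 : V →ₗ[F] V) = 1 := by
    have h : (T2 : V →ₗ[F] V) = LinearMap.transvection (B e) (w + c • e) := by
      ext x
      rw [LinearMap.transvection.apply, LinearEquiv.coe_coe, LinearEquiv.transvection.apply]
    rw [h, LinearMap.transvection.det, map_add, map_smul, hw, he, smul_zero, add_zero, add_zero]
  refine ⟨⟨T2 * T1, ?_, ?_⟩, h3⟩
  · rw [map_mul]
    have e1 : LinearEquiv.det T1 = 1 := Units.ext (by rw [LinearEquiv.coe_det, h4, Units.val_one])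
    have e2 : LinearEquiv.det T2 = 1 := Units.ext (by rw [LinearEquiv.coe_det, h5, Units.val_one])
    rw [e1, e2, one_mul]
  · intro x y
    rw [h3, h3]
    simp only [map_add, map_sub, LinearMap.add_apply, LinearMap.sub_apply, smul_left, smul_right, he, hw, hwe,
      mul_zero, add_zero, sub_zero]
    rw [map_mul, ← sw hB e x, ← sw hB w x]
    have := hB.swap x e
    linear_combination (B x e * B e y) * hc

theorem IsX.mul {e w w' : V} {c c' : F} {g g' : V ≃ₗ[F] V} (he : B e e = 0) (hB : HForm B) (hw : B e w = 0)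
    (hw' : B e w' = 0) (hg : IsX B e w c g) (hg' : IsX B e w' c' g') :
    IsX B e (w + w') (c + c' - B w w') (g * g') := by
  intro v
  have hwe : B w e = 0 := hB.swap_zero hw
  have h1 : B e (g' v) = B e v := by
    rw [hg', map_add, map_sub, map_add, map_smul, map_smul, map_smul, he, hw']
    simp
  have h2 : B w (g' v) = B w v + B e v * B w w' := by
    rw [hg', map_add, map_sub, map_add, map_smul, map_smul, map_smul, hwe]
    simp
  rw [LinearEquiv.mul_apply, hg, h1, h2, hg', map_add, LinearMap.add_apply]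
  module

theorem IsX.one (e : V) : IsX B e 0 0 (1 : V ≃ₗ[F] V) := by
  intro v
  rw [map_zero, LinearMap.zero_apply, smul_zero, zero_smul, zero_mul, zero_smul]
  simp

theorem IsX.inj {e f w w' : V} {c c' : F} {g : V ≃ₗ[F] V} (hf : B e f = 1) (hfe : B f e = 1) (hB : HForm B)
    (hw : B f w = 0) (hw' : B f w' = 0) (hg : IsX B e w c g) (hg' : IsX B e w' c' g) : w = w' ∧ c = c' := by
  have h1 := hg f
  rw [hg' f, hf, hB.swap_zero hw, hB.swap_zero hw', one_smul, one_smul, zero_smul, sub_zero, sub_zero, mul_one,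
    mul_one, add_assoc, add_assoc, add_right_inj] at h1
  have h2 := congrArg (B f) h1
  rw [map_add, map_add, hw, hw', map_smul, map_smul, hfe, zero_add, zero_add, smul_eq_mul, smul_eq_mul, mul_one,
    mul_one] at h2
  refine ⟨?_, h2.symm⟩
  rw [h2, add_left_inj] at h1
  exact h1.symm

theorem IsX.inv {e w : V} {c : F} {g : V ≃ₗ[F] V} (he : B e e = 0) (hB : HForm B) (hw : B e w = 0)
    (hg : IsX B e w c g) : IsX B e (-w) (-c - B w w) (g⁻¹) := by
  intro v
  have hwe : B w e = 0 := hB.swap_zero hw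
  change g.symm v = _
  rw [LinearEquiv.symm_apply_eq, hg]
  simp only [map_add, map_sub, map_neg, map_smul, LinearMap.neg_apply, he, hw, hwe, smul_eq_mul, mul_zero, add_zero,
    sub_zero, neg_zero]
  module

/-- the trace zero elements -/
theorem isX_zero_iff {e : V} {c : F} {g : V ≃ₗ[F] V} : IsX B e 0 c g ↔ IsTv B e c g := by
  constructor
  · intro h v
    rw [h, map_zero, LinearMap.zero_apply, smul_zero, zero_smul, add_zero, sub_zero]
  · intro h v
    rw [h, map_zero, LinearMap.zero_apply, smul_zero, zero_smul, add_zero, sub_zero]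


/-! ### the number of elements of trace zero -/

theorem card_trz [Fintype F] {q : ℕ} (hF : Fintype.card F = q ^ 2) (hB : HForm B) :
    Nat.card {t : F // t + σ t = 0} = q := by
  classical
  let τ : F →+ F :=
    { toFun := fun a => a + σ a
      map_zero' := by rw [map_zero, add_zero]
      map_add' := fun a b => by rw [map_add]; ring }
  have h1 : Nat.card τ.ker = Nat.card {t : F // t + σ t = 0} := rfl
  have h2 : Nat.card τ.range = Nat.card {t : F // t + σ t = 0} := by
    obtain ⟨ι, h0, hι⟩ := exists_trz hB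
    have hι' : σ ι = -ι := by linear_combination hι
    refine Nat.card_congr
      { toFun := fun a => ⟨ι * a.1, ?_⟩
        invFun := fun t => ⟨ι⁻¹ * t.1, ?_⟩
        left_inv := fun a => Subtype.ext (by
          change ι⁻¹ * (ι * a.1) = a.1
          rw [inv_mul_cancel_left₀ h0])
        right_inv := fun t => Subtype.ext (by
          change ι * (ι⁻¹ * t.1) = t.1
          rw [mul_inv_cancel_left₀ h0]) }
    · obtain ⟨b, hb⟩ := a.2
      have h3 : σ a.1 = a.1 := by
        rw [← hb]
        change σ (b + σ b) = b + σ b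
        rw [map_add, hB.invol, add_comm]
      rw [map_mul, h3, hι']
      ring
    · have h3 : σ (ι⁻¹ * t.1) = ι⁻¹ * t.1 := by
        have h4 : σ t.1 = -t.1 := by linear_combination t.2
        rw [map_mul, map_inv₀, hι', h4, inv_neg, neg_mul_neg]
      obtain ⟨c, hc⟩ := exists_trace hB h3
      exact ⟨c, hc⟩
  have h3 : Nat.card τ.ker * τ.ker.index = Nat.card F := AddSubgroup.card_mul_index _
  rw [AddSubgroup.index_ker, h2, h1, Nat.card_eq_fintype_card (α := F), hF] at h3
  have h4 : Nat.card {t : F // t + σ t = 0} ^ 2 = q ^ 2 := by rw [pow_two]; exact h3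
  exact Nat.pow_left_injective (n := 2) (by norm_num) h4

/-! ### the group -/

/-- hyperbolic pair -/
structure Hyp (B : V →ₛₗ[σ] V →ₗ[F] F) (e f : V) : Prop where
  ee : B e e = 0
  ff : B f f = 0
  ef : B e f = 1
  fe : B f e = 1

theorem Hyp.symm {e f : V} (h : Hyp B e f) : Hyp B f e := ⟨h.ff, h.ee, h.fe, h.ef⟩

theorem exists_Hyp [Finite F] [FiniteDimensional F V] (hB : HForm B) (h2 : 2 ≤ finrank F V) : ∃ e f, Hyp B e f := by
  obtain ⟨e, -, he0, he⟩ := exists_iso_mem hB (U := ⊤) (by rwa [finrank_top])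
  obtain ⟨f, hf, hef⟩ := exists_hyp hB he0 he
  exact ⟨e, f, he, hf, hef, by rw [sw hB e f, hef, map_one]⟩

/-- the unipotent radical -/
def QQ (hB : HForm B) {e f : V} (h : Hyp B e f) : Subgroup (SIso B) where
  carrier := {g | ∃ w c, B e w = 0 ∧ B f w = 0 ∧ c + σ c + B w w = 0 ∧ IsX B e w c g.1}
  mul_mem' := by
    rintro g g' ⟨w, c, h1, h2, h3, h4⟩ ⟨w', c', h1', h2', h3', h4'⟩
    refine ⟨w + w', c + c' - B w w', by rw [map_add, h1, h1', add_zero], by rw [map_add, h2, h2', add_zero], ?_,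
      h4.mul h.ee hB h1 h1' h4'⟩
    rw [map_sub, map_add, map_add, map_add, LinearMap.add_apply, LinearMap.add_apply, ← sw hB w w']
    linear_combination h3 + h3'
  one_mem' := ⟨0, 0, map_zero _, map_zero _, by simp, IsX.one e⟩
  inv_mem' := by
    rintro g ⟨w, c, h1, h2, h3, h4⟩
    refine ⟨-w, -c - B w w, by rw [map_neg, h1, neg_zero], by rw [map_neg, h2, neg_zero], ?_, h4.inv h.ee hB h1⟩
    rw [map_sub, map_neg, self_fix hB, map_neg, map_neg, LinearMap.neg_apply]
    linear_combination -h3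

variable [FiniteDimensional F V]

/-- the orthogonal space of the pair -/
def VV (B : V →ₛₗ[σ] V →ₗ[F] F) (e f : V) : Submodule F V where
  carrier := {w | B e w = 0 ∧ B f w = 0}
  add_mem' := fun {x y} hx hy => ⟨by rw [map_add, hx.1, hy.1, add_zero], by rw [map_add, hx.2, hy.2, add_zero]⟩
  zero_mem' := ⟨map_zero _, map_zero _⟩
  smul_mem' := fun c x hx => ⟨by rw [smul_right, hx.1, mul_zero], by rw [smul_right, hx.2, mul_zero]⟩

theorem mem_VV {e f w : V} : w ∈ VV B e f ↔ B e w = 0 ∧ B f w = 0 := Iff.rfl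

theorem pr_mem {e f : V} (h : Hyp B e f) (v : V) : v - B f v • e - B e v • f ∈ VV B e f := by
  rw [mem_VV]
  constructor
  · rw [map_sub, map_sub, map_smul, map_smul, h.ee, h.ef, smul_eq_mul, smul_eq_mul]
    ring
  · rw [map_sub, map_sub, map_smul, map_smul, h.ff, h.fe, smul_eq_mul, smul_eq_mul]
    ring

theorem VV_nd (hB : HForm B) {e f : V} (h : Hyp B e f) : ∀ x ∈ VV B e f, (∀ y ∈ VV B e f, B x y = 0) → x = 0 := by
  intro x hx hxy
  apply hB.eq_zero
  intro y
  have h1 := hxy _ (pr_mem h y)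
  rw [map_sub, map_sub, map_smul, map_smul, hB.swap_zero hx.1, hB.swap_zero hx.2, smul_zero, smul_zero, sub_zero,
    sub_zero] at h1
  exact h1

theorem isCompl_VV (_hB : HForm B) {e f : V} (h : Hyp B e f) : IsCompl (Submodule.span F {e, f}) (VV B e f) := by
  rw [isCompl_iff, Submodule.disjoint_def, codisjoint_iff, eq_top_iff]
  constructor
  · intro x hx hx'
    obtain ⟨a, b, rfl⟩ := Submodule.mem_span_pair.1 hx
    obtain ⟨h1, h2⟩ := mem_VV.1 hx'
    rw [map_add, map_smul, map_smul, h.ee, h.ef, smul_zero, zero_add, smul_eq_mul, mul_one] at h1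
    rw [map_add, map_smul, map_smul, h.fe, h.ff, smul_zero, add_zero, smul_eq_mul, mul_one] at h2
    rw [h1, h2, zero_smul, zero_smul, add_zero]
  · intro v _
    rw [Submodule.mem_sup]
    refine ⟨B f v • e + B e v • f, Submodule.mem_span_pair.2 ⟨_, _, rfl⟩, _, pr_mem h v, ?_⟩
    abel

theorem li_pair {e f : V} (h : Hyp B e f) : LinearIndependent F ![e, f] :=
  li_of_not_perp h.ee (by rw [h.ef]; exact one_ne_zero)

theorem finrank_VV (hB : HForm B) {e f : V} (h : Hyp B e f) : finrank F (VV B e f) + 2 = finrank F V := by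
  have h1 := Submodule.finrank_add_eq_of_isCompl (isCompl_VV hB h)
  have h2 : finrank F (Submodule.span F {e, f}) = 2 := by
    have h3 := finrank_span_eq_card (li_pair h)
    rw [Fintype.card_fin] at h3
    have h4 : ({e, f} : Set V) = Set.range ![e, f] := by
      rw [Matrix.range_cons, Matrix.range_cons, Matrix.range_empty, Set.union_empty]
      rfl
    rw [h4]
    exact h3
  omega

theorem finite_SIso [Finite F] : Finite (SIso B) := by
  have : Finite V := Module.finite_of_finite F
  have : Finite (V ≃ₗ[F] V) := Finite.of_injective (fun e : V ≃ₗ[F] V => (e : V → V))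
    (fun _ _ h => LinearEquiv.ext fun v => congrFun h v)
  infer_instance

/-- **the order of the unipotent radical** -/
theorem le_card_QQ [Fintype F] {q : ℕ} (hF : Fintype.card F = q ^ 2) (hB : HForm B) {e f : V} (h : Hyp B e f) {d : ℕ}
    (hd : finrank F V = d + 2) : q ^ (2 * d + 1) ≤ Nat.card (QQ hB h) := by
  classical
  have : Finite (SIso B) := finite_SIso
  have hfV : Finite V := Module.finite_of_finite F
  choose c₀ hc₀ using fun w : V => exists_trace hB (s := -B w w) (by rw [map_neg, self_fix hB])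
  have key : ∀ p : VV B e f × {t : F // t + σ t = 0}, ∃ g : SIso B, IsX B e p.1.1 (c₀ p.1 + p.2) g.1 := by
    rintro ⟨w, t⟩
    refine exists_X hB h.ee w.2.1 ?_
    rw [map_add]
    linear_combination hc₀ w + t.2
  choose g hg using key
  have hinj : Function.Injective (fun p : VV B e f × {t : F // t + σ t = 0} => (⟨g p, p.1, _, p.1.2.1, p.1.2.2, by
      rw [map_add]
      linear_combination hc₀ p.1 + p.2.2, hg p⟩ : QQ hB h)) := by
    intro p p' hpp
    have h1 : g p = g p' := congrArg Subtype.val hpp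
    have h2 := hg p
    rw [h1] at h2
    obtain ⟨h3, h4⟩ := h2.inj h.ef h.fe hB p.1.2.2 p'.1.2.2 (hg p')
    have h5 : p.1 = p'.1 := Subtype.ext h3
    rw [h3, add_right_inj] at h4
    exact Prod.ext h5 (Subtype.ext h4)
  have h1 := Nat.card_le_card_of_injective _ hinj
  rw [Nat.card_prod, card_trz hF hB, Module.natCard_eq_pow_finrank (K := F), Nat.card_eq_fintype_card (α := F), hF,
    ← pow_mul, ← pow_succ] at h1
  have h2 := finrank_VV hB h
  have h3 : finrank F (VV B e f) = d := by omega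
  rw [h3] at h1
  exact h1

/-- the unipotent radical has odd order -/
theorem odd_QQ [Finite F] (hB : HForm B) {e f : V} (h : Hyp B e f) (h2 : (2 : F) ≠ 0) :
    Odd (Nat.card (QQ hB h)) := by
  have : Finite (SIso B) := finite_SIso
  by_contra hcon
  rw [Nat.not_odd_iff_even, even_iff_two_dvd] at hcon
  have : Fact (Nat.Prime 2) := ⟨Nat.prime_two⟩
  obtain ⟨⟨g, w, c, h1, h1', h3, h4⟩, hg⟩ := exists_prime_orderOf_dvd_card' 2 hcon
  have h5 : g * g = 1 := by
    have := pow_orderOf_eq_one (⟨g, w, c, h1, h1', h3, h4⟩ : QQ hB h)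
    rw [hg, pow_two] at this
    exact congrArg Subtype.val this
  have h6 := h4.mul h.ee hB h1 h1 h4
  have h7 : g.1 * g.1 = 1 := congrArg Subtype.val h5
  rw [h7] at h6
  obtain ⟨h8, h9⟩ := h6.inj h.ef h.fe hB (by rw [map_add, h1', add_zero]) (map_zero _) (IsX.one e)
  have h10 : w = 0 := by
    have : (2 : F) • w = 0 := by rw [two_smul, h8]
    exact (smul_eq_zero.1 this).resolve_left h2
  have h11 : c = 0 := by
    rw [h10, map_zero, sub_zero, ← two_mul] at h9
    exact (mul_eq_zero.1 h9).resolve_left h2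
  have h12 : g = 1 := by
    apply Subtype.ext
    ext v
    rw [h4, h10, h11]
    simp
  have h13 : (⟨g, w, c, h1, h1', h3, h4⟩ : QQ hB h) = 1 := Subtype.ext h12
  rw [h13, orderOf_one] at hg
  exact absurd hg (by norm_num)

/-- **subgroups of the unipotent radical without transvections** -/
theorem card_inf_le [Fintype F] {q : ℕ} (hF : Fintype.card F = q ^ 2) (hB : HForm B) {e f : V} (h : Hyp B e f) {d : ℕ}
    (hd : finrank F V = d + 2) (D : Subgroup (SIso B)) (hD : ∀ g ∈ D, ∀ c, IsTv B e c g.1 → g = 1) :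
    Nat.card (D ⊓ QQ hB h : Subgroup (SIso B)) ≤ q ^ d := by
  classical
  have : Finite (SIso B) := finite_SIso
  have hfV : Finite V := Module.finite_of_finite F
  let S : AddSubgroup (VV B e f) :=
    { carrier := {w | ∃ g ∈ D, ∃ c, c + σ c + B (w : V) w = 0 ∧ IsX B e w c g.1}
      add_mem' := by
        rintro w w' ⟨g, hg, c, h3, h4⟩ ⟨g', hg', c', h3', h4'⟩
        refine ⟨g * g', D.mul_mem hg hg', c + c' - B (w : V) w', ?_, h4.mul h.ee hB w.2.1 w'.2.1 h4'⟩
        rw [Submodule.coe_add, map_sub, map_add, map_add, map_add, LinearMap.add_apply, LinearMap.add_apply,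
          ← sw hB (w : V) w']
        linear_combination h3 + h3'
      zero_mem' := ⟨1, D.one_mem, 0, by simp, IsX.one e⟩
      neg_mem' := by
        rintro w ⟨g, hg, c, h3, h4⟩
        refine ⟨g⁻¹, D.inv_mem hg, -c - B (w : V) w, ?_, h4.inv h.ee hB w.2.1⟩
        rw [Submodule.coe_neg, map_sub, map_neg, self_fix hB, map_neg, map_neg, LinearMap.neg_apply]
        linear_combination -h3 }
  have hS : ∀ w ∈ S, ∀ w' ∈ S, res B (VV B e f) w w' = res B (VV B e f) w' w := by
    rintro w ⟨g, hg, c, h3, h4⟩ w' ⟨g', hg', c', h3', h4'⟩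
    rw [res_apply, res_apply]
    have h5 := h4.mul h.ee hB w.2.1 w'.2.1 h4'
    have h6 := h4'.mul h.ee hB w'.2.1 w.2.1 h4
    have h7 := h6.inv h.ee hB (by rw [map_add, w.2.1, w'.2.1, add_zero])
    have h8 := h5.mul h.ee hB (by rw [map_add, w.2.1, w'.2.1, add_zero])
      (by rw [map_neg, map_add, w.2.1, w'.2.1, add_zero, neg_zero]) h7
    have h9 : (w : V) + w' + -(w' + w) = 0 := by abel
    rw [h9, isX_zero_iff] at h8
    have h10 := hD _ (D.mul_mem (D.mul_mem hg hg') (D.inv_mem (D.mul_mem hg' hg))) _ h8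
    have h11 : g.1 * g'.1 = g'.1 * g.1 := by
      have := congrArg Subtype.val (mul_inv_eq_one.1 h10)
      exact this
    rw [← h11] at h6
    have h12 := (h5.inj h.ef h.fe hB (by rw [map_add, w.2.2, w'.2.2, add_zero])
      (by rw [map_add, w.2.2, w'.2.2, add_zero]) h6).2
    linear_combination -h12
  have h1 := card_le hF (hform_res hB (VV_nd hB h)) S hS
  have h2 := finrank_VV hB h
  have h3 : finrank F (VV B e f) = d := by omega
  rw [h3] at h1
  refine le_trans ?_ h1
  have key : ∀ g : (D ⊓ QQ hB h : Subgroup (SIso B)), ∃ w : S, ∃ c, IsX B e (w : VV B e f) c g.1.1 := by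
    rintro ⟨g, hg, w, c, h4, h5, h6, h7⟩
    exact ⟨⟨⟨w, h4, h5⟩, g, hg, c, h6, h7⟩, c, h7⟩
  choose φ c hφ using key
  refine Nat.card_le_card_of_injective φ fun g g' hgg => ?_
  have h4 := hφ g
  rw [hgg] at h4
  have hw := (φ g').1.2
  have h5 := h4.mul h.ee hB hw.1 (by rw [map_neg, hw.1, neg_zero]) ((hφ g').inv h.ee hB hw.1)
  rw [add_neg_cancel, isX_zero_iff] at h5
  have h6 := hD (g.1 * g'.1⁻¹) (D.mul_mem g.2.1 (D.inv_mem g'.2.1)) _ h5
  exact Subtype.ext (mul_inv_eq_one.1 h6)

/-- conjugation -/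
theorem IsX.conj {e w : V} {c : F} {g h : V ≃ₗ[F] V} (hh : ∀ x y, B (h x) (h y) = B x y) (he : h e = e)
    (hg : IsX B e w c g) : IsX B e (h w) c (h * g * h⁻¹) := by
  intro v
  have h1 : (h * g * h⁻¹) v = h (g (h⁻¹ v)) := rfl
  have h2 : h (h⁻¹ v) = v := h.apply_symm_apply v
  rw [h1, hg, map_add, map_sub, map_add, map_smul, map_smul, map_smul, h2, he]
  have h3 : B e (h⁻¹ v) = B e v := by
    rw [← hh, he, h2]
  have h4 : B w (h⁻¹ v) = B (h w) v := by
    rw [← hh, h2]
  rw [h3, h4]

end Cfsg.Agent.H27.IF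
end

-- part: H27/IF/PhiSU
section
/-!
# S5719 (involution fixity): (PHI) for `SU(V)`, `q` odd (helper27)

* `extS` : `SU(U) → SU(V)` for an orthogonal decomposition `V = D ⊥ U`;
* `phi` : the relative form; `phi_abs`, `phi_two`.
-/

set_option autoImplicit false
set_option linter.unusedSectionVars false

universe u v w

namespace Cfsg.Agent.H27.IF

open Module Cfsg.Agent.H91.U Cfsg.Agent.H450.UF Cfsg.Agent.H450.Bs
open Cfsg.Agent.H353.Phi (fund ext ext_fund ext_mem ext_add ext_fix ext_coe exists_add finite_equiv pair mem_slV)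
open Cfsg.Agent.H847.Bs (slV)

section Basic

variable {F : Type u} {V : Type v} [Field F] [AddCommGroup V] [Module F V] [FiniteDimensional F V] {σ : F →+* F}
  {B : V →ₛₗ[σ] V →ₗ[F] F}

theorem SIso_le_slV (g : SIso B) : g.1 ∈ slV F V := by
  rw [mem_slV, ← LinearEquiv.coe_det, g.2.1, Units.val_one]

/-- `SU(U) → SU(V)` for an orthogonal decomposition -/
noncomputable def extS {D U : Submodule F V} (h : IsCompl D U) (hDU : ∀ a ∈ D, ∀ b ∈ U, B a b = 0)
    (hUD : ∀ b ∈ U, ∀ a ∈ D, B b a = 0) : SIso (res B U) →* SIso B where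
  toFun y := ⟨ext h y.1, by
      refine ⟨Units.ext ?_, fun x x' => ?_⟩
      · rw [LinearEquiv.coe_det, Units.val_one]
        exact mem_slV.1 (ext_mem h (SIso_le_slV y))
      · obtain ⟨a, b, rfl⟩ := exists_add h x
        obtain ⟨a', b', rfl⟩ := exists_add h x'
        rw [ext_add, ext_add]
        simp only [map_add, LinearMap.add_apply]
        rw [hDU a a.2 _ (y.1 b').2, hUD _ (y.1 b).2 a' a'.2, hDU a a.2 b' b'.2, hUD b b.2 a' a'.2]
        have := y.2.2 b b'
        rw [res_apply, res_apply] at this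
        rw [this]⟩
  map_one' := Subtype.ext (map_one (ext h))
  map_mul' a b := Subtype.ext (map_mul (ext h) _ _)

theorem extS_coe {D U : Submodule F V} (h : IsCompl D U) (hDU : ∀ a ∈ D, ∀ b ∈ U, B a b = 0)
    (hUD : ∀ b ∈ U, ∀ a ∈ D, B b a = 0) (y : SIso (res B U)) : (extS h hDU hUD y).1 = ext h y.1 := rfl

theorem fund_conj {g z : V ≃ₗ[F] V} (hz : fund z) : fund (g * z * g⁻¹) := by
  obtain ⟨h1, h2⟩ := hz
  refine ⟨by rw [show g * z * g⁻¹ * (g * z * g⁻¹) = g * (z * z) * g⁻¹ by group, h1, mul_one, mul_inv_cancel], ?_⟩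
  have h3 : LinearMap.range (((g * z * g⁻¹ : V ≃ₗ[F] V) : V →ₗ[F] V) - 1) =
      (LinearMap.range ((z : V →ₗ[F] V) - 1)).map (g : V →ₗ[F] V) := by
    ext v
    constructor
    · rintro ⟨x, rfl⟩
      refine ⟨z (g⁻¹ x) - g⁻¹ x, ⟨g⁻¹ x, rfl⟩, ?_⟩
      rw [LinearEquiv.coe_coe, map_sub]
      have : g (g⁻¹ x) = x := g.apply_symm_apply x
      rw [this]
      rfl
    · rintro ⟨_, ⟨x, rfl⟩, rfl⟩
      refine ⟨g x, ?_⟩
      have : g⁻¹ (g x) = x := g.symm_apply_apply x
      change g (z (g⁻¹ (g x))) - g x = g (z x - x)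
      rw [this, map_sub]
  rw [h3]
  exact (LinearEquiv.finrank_map_eq g _).trans h2

variable [Finite F]

/-- **(LR)** two transvections of a group without fundamental involutions have orthogonal centres -/
theorem orth_of_tv (h2 : (2 : F) ≠ 0)
    (hFT : ∀ (D : Type v) [Group D] [Finite D], Odd (Nat.card D) → Group.IsSolvable D)
    (hB : HForm B) {X : Subgroup (SIso B)} (hX : ∀ z ∈ X, ¬ fund z.1) {e e' : V} {c c' : F} {t t' : SIso B}
    (ht : t ∈ X) (ht' : t' ∈ X) (h : IsTv B e c t.1) (h' : IsTv B e' c' t'.1) (h1 : t ≠ 1) (h1' : t' ≠ 1)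
    (he : B e e = 0) (he' : B e' e' = 0) : B e e' = 0 := by
  have : Finite V := Module.finite_of_finite F
  have hc : c ≠ 0 := by
    rintro rfl
    apply h1
    apply Subtype.ext
    ext v
    rw [h, zero_mul, zero_smul, add_zero]
    rfl
  have hc' : c' ≠ 0 := by
    rintro rfl
    apply h1'
    apply Subtype.ext
    ext v
    rw [h', zero_mul, zero_smul, add_zero]
    rfl
  have key := pair (F := F) (V := V) h2 hFT (Y := X.map (SIso B).subtype) (by
      rintro _ ⟨g, -, rfl⟩
      exact SIso_le_slV g) (by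
      rintro _ ⟨g, hg, rfl⟩
      exact hX g hg) (t := t.1) (t' := t'.1) ⟨t, ht, rfl⟩ ⟨t', ht', rfl⟩ (φ := c • B e) (ψ := c' • B e') (v₀ := e)
    (v₁ := e') (fun v => by rw [h, LinearMap.smul_apply, smul_eq_mul])
    (fun v => by rw [h', LinearMap.smul_apply, smul_eq_mul])
    (by rw [LinearMap.smul_apply, he, smul_zero]) (by rw [LinearMap.smul_apply, he', smul_zero])
  rcases key with key | key
  · rw [LinearMap.smul_apply, smul_eq_mul, mul_eq_zero] at key
    exact key.resolve_left hc
  · rw [LinearMap.smul_apply, smul_eq_mul, mul_eq_zero] at key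
    exact hB.swap_zero (key.resolve_left hc')

/-- **choice of the centre** -/
theorem exists_good (h2 : (2 : F) ≠ 0)
    (hFT : ∀ (D : Type v) [Group D] [Finite D], Odd (Nat.card D) → Group.IsSolvable D)
    (hB : HForm B) (hd : 2 ≤ finrank F V) {X : Subgroup (SIso B)} (hX : ∀ z ∈ X, ¬ fund z.1) :
    ∃ e f, Hyp B e f ∧ ∀ g ∈ X, ∀ c, IsTv B e c g.1 → g = 1 := by
  obtain ⟨e, f, h⟩ := exists_Hyp hB hd
  by_cases h1 : ∀ g ∈ X, ∀ c, IsTv B e c g.1 → g = 1
  · exact ⟨e, f, h, h1⟩
  refine ⟨f, e, h.symm, fun g' hg' c' hc' => ?_⟩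
  push Not at h1
  obtain ⟨g, hg, c, hc, hg1⟩ := h1
  by_contra hg1'
  have := orth_of_tv h2 hFT hB hX hg hg' hc hc' hg1 hg1' h.ee h.ff
  rw [h.ef] at this
  exact one_ne_zero this

end Basic

/-- **(PHI) for `SU(V)`, relative form** (`q` odd) -/
theorem phi {F : Type u} [Field F] [Fintype F] {q : ℕ} (hF : Fintype.card F = q ^ 2) (h2 : (2 : F) ≠ 0)
    (hFT : ∀ (D : Type v) [Group D] [Finite D], Odd (Nat.card D) → Group.IsSolvable D) {σ : F →+* F} :
    ∀ (d : ℕ) (V : Type v) [AddCommGroup V] [Module F V] [Module.Finite F V] (B : V →ₛₗ[σ] V →ₗ[F] F),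
      HForm B → finrank F V = d →
      ∀ (Γ : Type w) [Group Γ] [Finite Γ] (Z : Set Γ) (c : ℕ), (∀ z ∈ Z, z * z = 1) →
        (∀ g, ∀ z ∈ Z, g * z * g⁻¹ ∈ Z) → (∀ Y : Subgroup Γ, (∀ z ∈ Z, z ∉ Y) → c ≤ Y.index) →
        ∀ X : Subgroup (SIso B × Γ), (∀ z : SIso B, fund z.1 → (z, 1) ∉ X) →
          (∀ z ∈ Z, ((1 : SIso B), z) ∉ X) → q ^ (d ^ 2 / 4) * c ≤ X.index := by
  have hq : 0 < q := by
    rcases Nat.eq_zero_or_pos q with rfl | h
    · rw [zero_pow two_ne_zero] at hF
      exact absurd hF Fintype.card_ne_zero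
    · exact h
  have base : ∀ (V : Type v) [AddCommGroup V] [Module F V] [Module.Finite F V] (B : V →ₛₗ[σ] V →ₗ[F] F)
      (Γ : Type w) [Group Γ] [Finite Γ] (Z : Set Γ) (c : ℕ),
      (∀ Y : Subgroup Γ, (∀ z ∈ Z, z ∉ Y) → c ≤ Y.index) → ∀ X : Subgroup (SIso B × Γ),
      (∀ z ∈ Z, ((1 : SIso B), z) ∉ X) → c ≤ X.index := by
    intro V _ _ _ B Γ _ _ Z c hc X hX2
    have : Finite V := Module.finite_of_finite F
    have := finite_equiv F V
    have h1 : c ≤ (X.comap (MonoidHom.inr (SIso B) Γ)).index := hc _ fun z hz h => hX2 z hz h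
    have h3 : (X.comap (MonoidHom.inr (SIso B) Γ)).index ≤ X.index := by
      rw [Subgroup.index_comap]
      rw [← Subgroup.relIndex_top_right X]
      exact Subgroup.relIndex_le_of_le_right le_top Subgroup.index_ne_zero_of_finite
    exact h1.trans h3
  intro d
  induction d using Nat.twoStepInduction with
  | zero =>
    intro V _ _ _ B hB hd Γ _ _ Z c hZ hZc hc X hX1 hX2
    simpa using base V B Γ Z c hc X hX2
  | one =>
    intro V _ _ _ B hB hd Γ _ _ Z c hZ hZc hc X hX1 hX2
    simpa using base V B Γ Z c hc X hX2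
  | more n ih _ =>
    intro V _ _ _ B hB hd Γ _ _ Z c hZ hZc hc X hX1 hX2
    have : Finite V := Module.finite_of_finite F
    have := finite_equiv F V
    let Y : Subgroup (SIso B) := X.comap (MonoidHom.inl (SIso B) Γ)
    have hYno : ∀ z ∈ Y, ¬ fund z.1 := fun z hz hf => hX1 z hf hz
    obtain ⟨e, f, h, hgood⟩ := exists_good h2 hFT hB (by omega) hYno
    have hc1 := isCompl_VV hB h
    have hort : ∀ a ∈ Submodule.span F {e, f}, ∀ b ∈ VV B e f, B a b = 0 := by
      intro a ha b hb
      obtain ⟨x, y, rfl⟩ := Submodule.mem_span_pair.1 ha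
      rw [map_add, LinearMap.add_apply, smul_left, smul_left, hb.1, hb.2, mul_zero, mul_zero, add_zero]
    have hort' : ∀ b ∈ VV B e f, ∀ a ∈ Submodule.span F {e, f}, B b a = 0 :=
      fun b hb a ha => hB.swap_zero (hort a ha b hb)
    let lam : SIso (res B (VV B e f)) × Γ →* SIso B × Γ :=
      MonoidHom.prodMap (extS hc1 hort hort') (MonoidHom.id Γ)
    have : Finite (SIso (res B (VV B e f))) := finite_SIso
    let Q : Subgroup (SIso B × Γ) := (QQ hB h).prod ⊥
    have hQ1 : ∀ g : SIso B, ∀ γ : Γ, (g, γ) ∈ Q ↔ g ∈ QQ hB h ∧ γ = 1 := by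
      intro g γ
      rw [Subgroup.mem_prod, Subgroup.mem_bot]
    have hQcard : Nat.card Q = Nat.card (QQ hB h) := by
      refine Nat.card_congr
        { toFun := fun p => ⟨p.1.1, p.2.1⟩
          invFun := fun g => ⟨(g.1, 1), g.2, Subgroup.mem_bot.2 rfl⟩
          left_inv := fun p => Subtype.ext (Prod.ext rfl (Subgroup.mem_bot.1 p.2.2).symm)
          right_inv := fun g => rfl }
    let Zs : Set (SIso B × Γ) := {p | (fund p.1.1 ∧ p.2 = 1) ∨ (p.1 = 1 ∧ p.2 ∈ Z)}
    have key := H847.IF.abs_index lam Q X ?_ ?_ Zs ?_ ?_ ?_ (q ^ (n ^ 2 / 4) * c) ?_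
    · have h4 : q ^ (2 * n + 1) ≤ Nat.card Q := by
        rw [hQcard]
        exact le_card_QQ hF hB h hd
      have h5 : Nat.card (X ⊓ Q : Subgroup (SIso B × Γ)) ≤ q ^ n := by
        refine le_trans ?_ (card_inf_le hF hB h hd Y hgood)
        refine Nat.card_le_card_of_injective (fun p => (⟨p.1.1, ?_, ((hQ1 _ _).1 p.2.2).1⟩ :
          (Y ⊓ QQ hB h : Subgroup (SIso B)))) ?_
        · have h6 := ((hQ1 p.1.1 p.1.2).1 p.2.2).2
          have h7 := p.2.1
          change (p.1.1, (1 : Γ)) ∈ X
          rw [← h6]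
          exact h7
        · intro p p' hpp
          have h6 := ((hQ1 p.1.1 p.1.2).1 p.2.2).2
          have h7 := ((hQ1 p'.1.1 p'.1.2).1 p'.2.2).2
          exact Subtype.ext (Prod.ext (congrArg Subtype.val hpp) (h6.trans h7.symm))
      have h6 : (n + 2) ^ 2 / 4 = n ^ 2 / 4 + n + 1 := by
        have : (n + 2) ^ 2 = n ^ 2 + (n + 1) * 4 := by ring
        rw [this, Nat.add_mul_div_right _ _ (by norm_num)]
        ring
      rw [h6]
      have h7 : q ^ n * (q ^ (n ^ 2 / 4 + n + 1) * c) ≤ q ^ n * X.index := by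
        calc q ^ n * (q ^ (n ^ 2 / 4 + n + 1) * c) = q ^ (2 * n + 1) * (q ^ (n ^ 2 / 4) * c) := by ring
          _ ≤ Nat.card Q * (q ^ (n ^ 2 / 4) * c) := Nat.mul_le_mul_right _ h4
          _ ≤ _ := key
          _ ≤ _ := Nat.mul_le_mul_right _ h5
      exact Nat.le_of_mul_le_mul_left h7 (pow_pos hq n)
    · rw [hQcard]
      exact odd_QQ hB h h2
    · rintro ⟨l, γ⟩ ⟨g, γ'⟩ hg
      obtain ⟨⟨w, c', h4, h5, h6, h7⟩, rfl⟩ := (hQ1 g γ').1 hg
      refine (hQ1 _ _).2 ⟨?_, ?_⟩
      · have h8 : ∀ x, x ∈ VV B e f → (extS hc1 hort hort' l).1 x ∈ VV B e f := by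
          intro x hx
          rw [extS_coe]
          have := ext_coe hc1 l.1 ⟨x, hx⟩
          rw [this]
          exact (l.1 ⟨x, hx⟩).2
        have h9 : (extS hc1 hort hort' l).1 e = e := by
          rw [extS_coe]
          exact ext_fix hc1 l.1 e (Submodule.subset_span (by simp))
        have h10 := h8 w ⟨h4, h5⟩
        exact ⟨_, c', h10.1, h10.2, by rw [(extS hc1 hort hort' l).2.2, h6],
          IsX.conj (extS hc1 hort hort' l).2.2 h9 h7⟩
      · change γ * 1 * γ⁻¹ = 1
        rw [mul_one, mul_inv_cancel]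
    · rintro ⟨g, γ⟩ (⟨h4, h5⟩ | ⟨h4, h5⟩)
      · change γ = 1 at h5
        exact Prod.ext (Subtype.ext h4.1) (by change γ * γ = 1; rw [h5, one_mul])
      · change g = 1 at h4
        exact Prod.ext (by change g * g = 1; rw [h4, one_mul]) (hZ γ h5)
    · rintro ⟨g, γ⟩ ⟨z, γ'⟩ (⟨h4, h5⟩ | ⟨h4, h5⟩)
      · change γ' = 1 at h5
        exact Or.inl ⟨fund_conj h4, by change γ * γ' * γ⁻¹ = 1; rw [h5, mul_one, mul_inv_cancel]⟩
      · change z = 1 at h4
        exact Or.inr ⟨by change g * z * g⁻¹ = 1; rw [h4, mul_one, mul_inv_cancel], hZc γ _ h5⟩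
    · rintro ⟨g, γ⟩ (⟨h4, h5⟩ | ⟨h4, h5⟩) hX
      · change γ = 1 at h5
        rw [h5] at hX
        exact hX1 g h4 hX
      · change g = 1 at h4
        rw [h4] at hX
        exact hX2 γ h5 hX
    · intro Y' hY'
      refine ih (VV B e f) (res B (VV B e f)) (hform_res hB (VV_nd hB h)) (by
        have := finrank_VV hB h
        omega) Γ Z c hZ hZc hc Y' ?_ ?_
      · intro z hz hzY
        exact hY' _ hzY (Or.inl ⟨ext_fund h2 hc1 hz, rfl⟩)
      · intro z hz hzY
        exact hY' _ hzY (Or.inr ⟨map_one (extS hc1 hort hort'), hz⟩)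

end Cfsg.Agent.H27.IF
end

-- part: H27/IF/PhiDec
section
/-!
# S5719 (involution fixity): (PHI) for `SU(V)`, `q` odd: absolute form, products, orthogonal decompositions (helper27)

* `phi_abs` : `X ≤ SU(V)` without fundamental involutions has index at least `q ^ (dim V ^ 2 / 4)`;
* `phi_two` : the same for a product of two special unitary groups;
* `DW B W` : the image of `SU(W) × SU(W^⊥)` in `SU(V)`; `phi_dec`, `DW_comm`, `card_DW`.
-/

set_option autoImplicit false
set_option linter.unusedSectionVars false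

universe u v w

namespace Cfsg.Agent.H27.IF

open Module Cfsg.Agent.H91.U Cfsg.Agent.H450.UF Cfsg.Agent.H450.Bs
open Cfsg.Agent.H353.Phi (fund ext ext_fund ext_mem ext_add ext_fix ext_coe exists_add finite_equiv pair mem_slV)
open Cfsg.Agent.H847.Bs (slV)

section Phi

variable {F : Type u} [Field F] [Fintype F] {q : ℕ} (hF : Fintype.card F = q ^ 2) (h2 : (2 : F) ≠ 0)
  (hFT : ∀ (D : Type v) [Group D] [Finite D], Odd (Nat.card D) → Group.IsSolvable D) {σ : F →+* F}

include hF h2 hFT

/-- **(PHI) for `SU(V)`** (`q` odd) -/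
theorem phi_abs {V : Type v} [AddCommGroup V] [Module F V] [Module.Finite F V] {B : V →ₛₗ[σ] V →ₗ[F] F}
    (hB : HForm B) (X : Subgroup (SIso B)) (hX : ∀ z ∈ X, ¬ fund z.1) : q ^ (finrank F V ^ 2 / 4) ≤ X.index := by
  have : Finite (SIso B) := finite_SIso
  have h1 := phi hF h2 hFT (finrank F V) V B hB rfl PUnit.{1} ∅ 1 (by simp) (by simp)
    (fun Y _ => Nat.one_le_iff_ne_zero.2 Subgroup.index_ne_zero_of_finite)
    (X.comap (MonoidHom.fst (SIso B) PUnit)) (fun z hz hzX => hX z hzX hz) (by simp)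
  rw [mul_one, Subgroup.index_comap_of_surjective _ (fun x => ⟨(x, 1), rfl⟩)] at h1
  exact h1

/-- **(PHI) for `SU(V₁) × SU(V₂)`** (`q` odd) -/
theorem phi_two {V₁ V₂ : Type v} [AddCommGroup V₁] [Module F V₁] [Module.Finite F V₁] [AddCommGroup V₂] [Module F V₂]
    [Module.Finite F V₂] {B₁ : V₁ →ₛₗ[σ] V₁ →ₗ[F] F} {B₂ : V₂ →ₛₗ[σ] V₂ →ₗ[F] F} (hB₁ : HForm B₁) (hB₂ : HForm B₂)
    (X : Subgroup (SIso B₁ × SIso B₂)) (h₁ : ∀ z : SIso B₁, fund z.1 → (z, 1) ∉ X)
    (h₂ : ∀ z : SIso B₂, fund z.1 → (1, z) ∉ X) :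
    q ^ (finrank F V₁ ^ 2 / 4 + finrank F V₂ ^ 2 / 4) ≤ X.index := by
  have : Finite (SIso B₁) := finite_SIso
  have : Finite (SIso B₂) := finite_SIso
  rw [pow_add]
  refine phi hF h2 hFT (finrank F V₁) V₁ B₁ hB₁ rfl (SIso B₂) {z | fund z.1} _ (fun z hz => Subtype.ext hz.1)
    (fun g z hz => fund_conj hz) (fun Y hY => phi_abs hF h2 hFT hB₂ Y fun z hz hf => hY z hf hz) X h₁ h₂

end Phi

section Dec

variable {F : Type u} {V : Type v} [Field F] [AddCommGroup V] [Module F V] [FiniteDimensional F V] {σ : F →+* F}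
  {B : V →ₛₗ[σ] V →ₗ[F] F}

theorem isCompl_pp [Finite F] (hB : HForm B) {W : Submodule F V} (hW : ∀ x ∈ W, (∀ y ∈ W, B x y = 0) → x = 0) :
    IsCompl W (pp B W) := by
  have hd : Disjoint W (pp B W) := by
    rw [Submodule.disjoint_def]
    exact fun x hx hx' => hW x hx fun y hy => hx' y hy
  refine ⟨hd, ?_⟩
  rw [codisjoint_iff]
  have h1 := finrank_pp hB W
  have h2 := Submodule.finrank_sup_add_finrank_inf_eq W (pp B W)
  rw [hd.eq_bot, finrank_bot, add_zero] at h2
  exact Submodule.eq_top_of_finrank_eq (by omega)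

theorem pp_nd [Finite F] (hB : HForm B) {W : Submodule F V} (hW : ∀ x ∈ W, (∀ y ∈ W, B x y = 0) → x = 0) :
    ∀ x ∈ pp B W, (∀ y ∈ pp B W, B x y = 0) → x = 0 := by
  intro x hx h
  apply hB.eq_zero
  intro y
  have hy : y ∈ W ⊔ pp B W := by rw [(isCompl_pp hB hW).sup_eq_top]; trivial
  obtain ⟨a, ha, b, hb, rfl⟩ := Submodule.mem_sup.1 hy
  rw [map_add, hx a ha, h b hb, add_zero]

theorem orth1 (hB : HForm B) (W : Submodule F V) : ∀ a ∈ W, ∀ b ∈ pp B W, B a b = 0 :=
  fun a ha _b hb => hB.swap_zero (hb a ha)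

theorem orth2 (W : Submodule F V) : ∀ b ∈ pp B W, ∀ a ∈ W, B b a = 0 := fun _b hb a ha => hb a ha

variable [Finite F] (hB : HForm B) {W : Submodule F V} (hW : ∀ x ∈ W, (∀ y ∈ W, B x y = 0) → x = 0)

/-- `SU(W) → SU(V)` -/
noncomputable def e1 : SIso (res B W) →* SIso B := extS (isCompl_pp hB hW).symm (orth2 W) (orth1 hB W)

/-- `SU(W^⊥) → SU(V)` -/
noncomputable def e2 : SIso (res B (pp B W)) →* SIso B := extS (isCompl_pp hB hW) (orth1 hB W) (orth2 W)

theorem e1_W (g : SIso (res B W)) {v : V} (hv : v ∈ W) : (e1 hB hW g).1 v = g.1 ⟨v, hv⟩ :=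
  ext_coe (isCompl_pp hB hW).symm g.1 ⟨v, hv⟩

theorem e1_pp (g : SIso (res B W)) {v : V} (hv : v ∈ pp B W) : (e1 hB hW g).1 v = v :=
  ext_fix (isCompl_pp hB hW).symm g.1 v hv

theorem e2_pp (g : SIso (res B (pp B W))) {v : V} (hv : v ∈ pp B W) : (e2 hB hW g).1 v = g.1 ⟨v, hv⟩ :=
  ext_coe (isCompl_pp hB hW) g.1 ⟨v, hv⟩

theorem e2_W (g : SIso (res B (pp B W))) {v : V} (hv : v ∈ W) : (e2 hB hW g).1 v = v :=
  ext_fix (isCompl_pp hB hW) g.1 v hv

include hB hW in
/-- linear maps are determined by their values on `W` and `W^⊥` -/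
theorem ext_dec {g h : SIso B} (h1 : ∀ v ∈ W, g.1 v = h.1 v) (h2 : ∀ v ∈ pp B W, g.1 v = h.1 v) : g = h := by
  apply Subtype.ext
  ext v
  have hv : v ∈ W ⊔ pp B W := by rw [(isCompl_pp hB hW).sup_eq_top]; trivial
  obtain ⟨a, ha, b, hb, rfl⟩ := Submodule.mem_sup.1 hv
  rw [map_add, map_add, h1 a ha, h2 b hb]

theorem e1_e2 (g : SIso (res B W)) (h : SIso (res B (pp B W))) : Commute (e1 hB hW g) (e2 hB hW h) := by
  refine ext_dec hB hW (fun v hv => ?_) (fun v hv => ?_)
  · change (e1 hB hW g).1 ((e2 hB hW h).1 v) = (e2 hB hW h).1 ((e1 hB hW g).1 v)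
    rw [e2_W hB hW h hv, e1_W hB hW g hv, e2_W hB hW h (g.1 ⟨v, hv⟩).2]
  · change (e1 hB hW g).1 ((e2 hB hW h).1 v) = (e2 hB hW h).1 ((e1 hB hW g).1 v)
    rw [e1_pp hB hW g hv, e2_pp hB hW h hv, e1_pp hB hW g (h.1 ⟨v, hv⟩).2]

/-- `SU(W) × SU(W^⊥) → SU(V)` -/
noncomputable def e12 : SIso (res B W) × SIso (res B (pp B W)) →* SIso B :=
  (e1 hB hW).noncommCoprod (e2 hB hW) (e1_e2 hB hW)

theorem e12_apply (p : SIso (res B W) × SIso (res B (pp B W))) : e12 hB hW p = e1 hB hW p.1 * e2 hB hW p.2 := rfl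

theorem e12_W (p : SIso (res B W) × SIso (res B (pp B W))) {v : V} (hv : v ∈ W) :
    (e12 hB hW p).1 v = p.1.1 ⟨v, hv⟩ := by
  rw [e12_apply]
  change (e1 hB hW p.1).1 ((e2 hB hW p.2).1 v) = _
  rw [e2_W hB hW p.2 hv, e1_W hB hW p.1 hv]

theorem e12_pp (p : SIso (res B W) × SIso (res B (pp B W))) {v : V} (hv : v ∈ pp B W) :
    (e12 hB hW p).1 v = p.2.1 ⟨v, hv⟩ := by
  rw [e12_apply]
  change (e1 hB hW p.1).1 ((e2 hB hW p.2).1 v) = _
  rw [e2_pp hB hW p.2 hv, e1_pp hB hW p.1 (p.2.1 ⟨v, hv⟩).2]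

theorem e12_injective : Function.Injective (e12 hB hW) := by
  intro p p' h
  refine Prod.ext (Subtype.ext (LinearEquiv.ext fun v => Subtype.ext ?_))
    (Subtype.ext (LinearEquiv.ext fun v => Subtype.ext ?_))
  · have h1 := e12_W hB hW p v.2
    rw [h, e12_W hB hW p' v.2] at h1
    exact h1.symm
  · have h1 := e12_pp hB hW p v.2
    rw [h, e12_pp hB hW p' v.2] at h1
    exact h1.symm

/-- the group `SU(W) × SU(W^⊥)` as a subgroup of `SU(V)` -/
noncomputable def DW : Subgroup (SIso B) := (e12 hB hW).range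

end Dec

section Dec2

variable {F : Type u} {V : Type v} [Field F] [Fintype F] [AddCommGroup V] [Module F V] [FiniteDimensional F V]
  {σ : F →+* F} {B : V →ₛₗ[σ] V →ₗ[F] F} {q : ℕ}

/-- **(PHI) for `SU(W) × SU(W^⊥)`** (`q` odd) -/
theorem phi_dec (hF : Fintype.card F = q ^ 2) (h2 : (2 : F) ≠ 0)
    (hFT : ∀ (D : Type v) [Group D] [Finite D], Odd (Nat.card D) → Group.IsSolvable D)
    (hB : HForm B) {W : Submodule F V} (hW : ∀ x ∈ W, (∀ y ∈ W, B x y = 0) → x = 0)
    (X : Subgroup (SIso B)) (hX : ∀ z ∈ X, ¬ fund z.1) {k m : ℕ} (hk : finrank F W = k)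
    (hm : finrank F V = k + m) : q ^ (k ^ 2 / 4 + m ^ 2 / 4) ≤ X.relIndex (DW hB hW) := by
  have h3 : finrank F (pp B W) = m := by
    have := finrank_pp hB W
    omega
  have key := phi_two hF h2 hFT (hform_res hB hW) (hform_res hB (pp_nd hB hW)) (X.comap (e12 hB hW)) (by
      intro z hz hzX
      refine hX _ hzX ?_
      rw [e12_apply, map_one, mul_one]
      exact ext_fund h2 _ hz) (by
      intro z hz hzX
      refine hX _ hzX ?_
      rw [e12_apply, map_one, one_mul]
      exact ext_fund h2 _ hz)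
  rw [hk, h3, Subgroup.index_comap] at key
  exact key

/-- the order of `SU(V)` depends only on the dimension -/
theorem card_SIso (hF : Fintype.card F = q ^ 2) (hB : HForm B) {n : ℕ} (hn : finrank F V = n) :
    Nat.card (SIso B) = Nat.card (Cfsg.SU n F q) := by
  subst hn
  obtain ⟨φ, hφ⟩ := exists_model hF hB
  rw [Nat.card_congr (toIso (n := finrank F V) hF).toEquiv]
  have hb : ∀ v w, B v w = Cfsg.Agent.H77.Witt.formB hF (finrank F V) (φ v) (φ w) := by
    intro v w
    rw [hφ, Cfsg.Agent.H77.Witt.formB_apply]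
  refine Nat.card_congr
    { toFun := fun g => ⟨(φ.symm.trans g.1).trans φ, ?_, ?_⟩
      invFun := fun g => ⟨(φ.trans g.1).trans φ.symm, ?_, ?_⟩
      left_inv := fun g => Subtype.ext (LinearEquiv.ext fun v => by
        change φ.symm (φ (g.1 (φ.symm (φ v)))) = g.1 v
        rw [φ.symm_apply_apply, φ.symm_apply_apply])
      right_inv := fun g => Subtype.ext (LinearEquiv.ext fun v => by
        change φ (φ.symm (g.1 (φ (φ.symm v)))) = g.1 v
        rw [φ.apply_symm_apply, φ.apply_symm_apply]) }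
  · rw [← g.2.1]
    exact LinearEquiv.det_conj g.1 φ
  · intro x y
    change Cfsg.Agent.H77.Witt.formB hF _ (φ (g.1 (φ.symm x))) (φ (g.1 (φ.symm y))) = _
    rw [← hb, g.2.2, hb, φ.apply_symm_apply, φ.apply_symm_apply]
  · rw [← g.2.1]
    exact LinearEquiv.det_conj g.1 φ.symm
  · intro x y
    change B (φ.symm (g.1 (φ x))) (φ.symm (g.1 (φ y))) = _
    rw [hb, φ.apply_symm_apply, φ.apply_symm_apply, g.2.2, ← hb]

/-- the order of `SU(W) × SU(W^⊥)` -/
theorem card_DW (hF : Fintype.card F = q ^ 2) (hB : HForm B) {W : Submodule F V}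
    (hW : ∀ x ∈ W, (∀ y ∈ W, B x y = 0) → x = 0) {k m : ℕ} (hk : finrank F W = k) (hm : finrank F V = k + m) :
    Nat.card (DW hB hW) = Nat.card (Cfsg.SU k F q) * Nat.card (Cfsg.SU m F q) := by
  have h3 : finrank F (pp B W) = m := by
    have := finrank_pp hB W
    omega
  rw [← card_SIso hF (hform_res hB hW) hk, ← card_SIso hF (hform_res hB (pp_nd hB hW)) h3, ← Nat.card_prod]
  exact (Nat.card_congr (MonoidHom.ofInjective (e12_injective hB hW)).toEquiv).symm

end Dec2

end Cfsg.Agent.H27.IF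
end
end

-- part: H847/IF/PSUfour
section
prune_inst 0x4f17075044d0012000000001660001c63fa000492004b8c0004610f460e88cc6a09022e61bcb0071950220884403d0068120000104050000004200400411c058100811402b11c0c8882000e000880400000000000000000000000000000000000200000000
set_option linter.all false
open scoped Cfsg.Agent.FastGrp

/-!
# S5719, `PSU_4(q)`: W0 and the assembly (helper847)

Pieces of helper838's plan `tools/plans/S5719_psu4.md` as hypotheses.
* `pi_eq_one_iff` : the kernel of `pi hF 4`; `HA hF A` : the preimage of `A`; `pk_of_IF` : W0;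
* `false_of_comm` : two commuting involutions; `four_of` : the row.
-/

set_option autoImplicit false
set_option linter.unusedSectionVars false

namespace Cfsg.Agent.H847.IF

open Module Subgroup Cfsg Cfsg.Agent.H91.U Cfsg.Agent.H450.UF Cfsg.Agent.H450.Bs Cfsg.Agent.H209.Fxy
open Cfsg.Agent.H838.IF
open Cfsg.Agent.H77.Witt (formB)

section

variable {F V : Type*} [Field F] [AddCommGroup V] [Module F V] {σ : F →+* F} {B : V →ₛₗ[σ] V →ₗ[F] F}

/-- `Neg` determines the transformation -/
theorem neg_unique [Finite F] [FiniteDimensional F V] (hB : HForm B) {P : Submodule F V} (hP : NP B P)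
    {s t : V ≃ₗ[F] V} (hs : _root_.Cfsg.Agent.H838.IF.Neg B s P) (ht : _root_.Cfsg.Agent.H838.IF.Neg B t P) : s = t := by
  ext v
  obtain ⟨a, ha, b, hb, rfl⟩ := exists_decomp hB hP.nd v
  have hb' : b ∈ pp B P := fun w hw => hB.swap_zero (hb w hw)
  rw [map_add, map_add, hs.1 a ha, ht.1 a ha, hs.2 b hb', ht.2 b hb']

/-- `Neg` on orthogonal planes -/
theorem neg_perp [Finite F] [FiniteDimensional F V] (hB : HForm B) {P : Submodule F V} (hP : NP B P)
    {s t : V ≃ₗ[F] V} (hs : _root_.Cfsg.Agent.H838.IF.Neg B s (pp B P)) (ht : _root_.Cfsg.Agent.H838.IF.Neg B t P) (v : V) : s v = -t v := by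
  obtain ⟨a, ha, b, hb, rfl⟩ := exists_decomp hB hP.nd v
  have hb' : b ∈ pp B P := fun w hw => hB.swap_zero (hb w hw)
  have ha' : a ∈ pp B (pp B P) := fun w hw => hB.swap_zero (hw a ha)
  rw [map_add, map_add, hs.1 b hb', ht.1 a ha, hs.2 a ha', ht.2 b hb', neg_add, neg_neg]

/-- **two commuting involutions** (modulo scalars) -/
theorem false_of_comm [Finite F] [FiniteDimensional F V] (hB : HForm B) (hV : finrank F V = 4) {q : ℕ}
    {H : Subgroup (V ≃ₗ[F] V)} (hH : Pk B H)
    (types : ∀ t ∈ SIso B, ¬ Scal t → Scal (t * t) →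
      (∃ (P : Submodule F V) (s : V ≃ₗ[F] V) (a : F), NP B P ∧ _root_.Cfsg.Agent.H838.IF.Neg B s P ∧ s ∈ SIso B ∧ (∀ v, t v = a • s v)) ∨
      (∃ (v : V) (m : F), B v v ≠ 0 ∧ m ≠ 0 ∧ t v = -(m • v) ∧ ∀ u, B v u = 0 → t u = m • u) ∨
      (∃ m : F, m ^ (q + 1) = -1 ∧ ∀ v, t (t v) = (m * m) • v))
    (no_second : ∀ t ∈ H, ∀ m : F, m ^ (q + 1) = -1 → (∀ v, t (t v) = (m * m) • v) → False)
    (no_refl : ∀ t ∈ H, ∀ v : V, B v v ≠ 0 → ∀ m : F, m ≠ 0 → t v = -(m • v) →
      (∀ u, B v u = 0 → t u = m • u) → False)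
    (no_comm : ∀ P Q : Submodule F V, NP B P → NP B Q → ∀ s t : V ≃ₗ[F] V, _root_.Cfsg.Agent.H838.IF.Neg B s P → _root_.Cfsg.Agent.H838.IF.Neg B t Q → s ∈ H → t ∈ H →
      P ≠ Q → P ≠ pp B Q → Comm s t → False)
    {s t : V ≃ₗ[F] V} (hs : s ∈ H) (ht : t ∈ H) (hs1 : ¬ Scal s) (ht1 : ¬ Scal t) (hs2 : Scal (s * s))
    (ht2 : Scal (t * t)) (hst : ¬ Scal (s * t⁻¹)) (hc : Comm s t) : False := by
  have hnt : Nontrivial V := Module.nontrivial_of_finrank_pos (R := F) (by omega)
  obtain ⟨v0, hv0⟩ := exists_ne (0 : V)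
  have first : ∀ s ∈ H, ¬ Scal s → Scal (s * s) → ∃ (P : Submodule F V) (s0 : V ≃ₗ[F] V) (a : F), NP B P ∧
      _root_.Cfsg.Agent.H838.IF.Neg B s0 P ∧ s0 ∈ H ∧ a ≠ 0 ∧ ∀ v, s v = a • s0 v := by
    intro s hs hs1 hs2
    rcases types s (hH.le hs) hs1 hs2 with ⟨P, s0, a, hP, hN, h0, h⟩ | ⟨v, m, h1, h2, h3, h4⟩ | ⟨m, h1, h2⟩
    · have ha : a ≠ 0 := by
        rintro rfl
        have h1 := h v0
        rw [zero_smul, LinearEquiv.map_eq_zero_iff] at h1
        exact hv0 h1
      refine ⟨P, s0, a, hP, hN, ?_, ha, h⟩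
      have hz : s0 * s⁻¹ ∈ H := by
        refine hH.sc _ ((SIso B).mul_mem h0 ((SIso B).inv_mem (hH.le hs))) ⟨a⁻¹, fun v => ?_⟩
        have h1 : s (s⁻¹ v) = v := by
          rw [← LinearEquiv.mul_apply, mul_inv_cancel]
          rfl
        rw [h] at h1
        rw [LinearEquiv.mul_apply, eq_inv_smul_iff₀ ha, h1]
      have h2 := H.mul_mem hz hs
      rwa [inv_mul_cancel_right] at h2
    · exact (no_refl s hs v h1 m h2 h3 h4).elim
    · exact (no_second s hs m h1 h2).elim
  obtain ⟨P, s0, a, hP, hN, hs0, ha, hsa⟩ := first s hs hs1 hs2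
  obtain ⟨Q, t0, b, hQ, hM, ht0, hb, htb⟩ := first t ht ht1 ht2
  have key : ∀ v, t (t⁻¹ v) = v := fun v => by
    rw [← LinearEquiv.mul_apply, mul_inv_cancel]
    rfl
  refine no_comm P Q hP hQ s0 t0 hN hM hs0 ht0 ?_ ?_ ?_
  · rintro rfl
    have h0 := neg_unique hB hP hN hM
    subst h0
    refine hst ⟨a * b⁻¹, fun v => ?_⟩
    have h1 := key v
    rw [htb] at h1
    rw [LinearEquiv.mul_apply, hsa, mul_smul, ← h1, smul_smul b⁻¹, inv_mul_cancel₀ hb, one_smul]
    congr 2
    rw [h1]
  · rintro rfl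
    refine hst ⟨-(a * b⁻¹), fun v => ?_⟩
    have h1 := key v
    rw [htb] at h1
    rw [LinearEquiv.mul_apply, hsa, neg_perp hB hQ hN hM, neg_smul, mul_smul, smul_neg]
    congr 2
    rw [eq_inv_smul_iff₀ hb]
    exact h1
  · obtain ⟨c, hc⟩ := hc
    refine ⟨c, fun v => ?_⟩
    have h1 := hc v
    rw [hsa, htb, htb, hsa, map_smul, map_smul, smul_smul, smul_smul, smul_smul] at h1
    have h2 : (a * b) • s0 (t0 v) = (a * b) • (c • t0 (s0 v)) := by
      rw [h1, smul_smul]
      congr 1
      ring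
    exact smul_right_injective V (mul_ne_zero ha hb) h2

/-- the number of conjugates -/
theorem index_le_cls [Finite F] [FiniteDimensional F V] (t : SIso B) :
    (centralizer ({t} : Set (SIso B))).index ≤ cls B t.1 := by
  classical
  have : Finite V := Module.finite_of_finite F
  have hf : Finite (V ≃ₗ[F] V) := by
    refine Finite.of_injective (fun g : V ≃ₗ[F] V => (g : V → V)) ?_
    intro a b hab
    exact DFunLike.coe_injective hab
  rw [Subgroup.index, cls, ← Nat.card_coe_set_eq]
  refine Nat.card_le_card_of_injective (Quotient.lift (fun g : SIso B =>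
    (⟨g.1 * t.1 * g.1⁻¹, g.1, g.2, rfl⟩ : {s : V ≃ₗ[F] V | ∃ g ∈ SIso B, s = g * t.1 * g⁻¹})) ?_) ?_
  · intro a b hab
    have h1 : a⁻¹ * b ∈ centralizer ({t} : Set (SIso B)) := QuotientGroup.leftRel_apply.1 hab
    rw [mem_centralizer_iff] at h1
    have h2 := h1 t rfl
    apply Subtype.ext
    change (a * t * a⁻¹).1 = (b * t * b⁻¹).1
    congr 1
    have h3 : a * t * a⁻¹ = a * (t * (a⁻¹ * b)) * b⁻¹ := by group
    rw [h3, h2]
    group
  · intro x y
    induction x using QuotientGroup.induction_on with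
    | H a =>
      induction y using QuotientGroup.induction_on with
      | H b =>
        intro hab
        have h1 : (⟨a.1 * t.1 * a.1⁻¹, a.1, a.2, rfl⟩ : {s : V ≃ₗ[F] V | ∃ g ∈ SIso B, s = g * t.1 * g⁻¹}) =
          ⟨b.1 * t.1 * b.1⁻¹, b.1, b.2, rfl⟩ := hab
        have h2' : a.1 * t.1 * a.1⁻¹ = b.1 * t.1 * b.1⁻¹ := congrArg Subtype.val h1
        have h2 : a * t * a⁻¹ = b * t * b⁻¹ := Subtype.ext h2'
        rw [QuotientGroup.eq, mem_centralizer_iff]
        intro u hu
        have hu' : u = t := hu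
        rw [hu']
        have h3 : t = a⁻¹ * (b * t * b⁻¹) * a := by rw [← h2]; group
        calc t * (a⁻¹ * b) = (a⁻¹ * (b * t * b⁻¹) * a) * (a⁻¹ * b) := by rw [← h3]
          _ = a⁻¹ * b * t := by group

end

section

variable {F : Type*} [Field F] [Fintype F] {q : ℕ}

/-- the kernel of the projection: the scalars -/
theorem pi_eq_one_iff (hF : Fintype.card F = q ^ 2) {n : ℕ} (hn : 3 ≤ n) (g : SIso (formB hF n)) :
    _root_.Cfsg.Agent.H450.UF.pi hF n g = 1 ↔ Scal g.1 := by
  obtain ⟨x, rfl⟩ := (toIso (n := n) hF).surjective g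
  rw [pi_toIso, QuotientGroup.mk'_apply, QuotientGroup.eq_one_iff]
  constructor
  · intro h
    obtain ⟨c, -, -, hc⟩ := Cfsg.Agent.ClassicalGeometry.PSUAutBasic.exists_scalar_of_mem_center hF hn h
    exact ⟨c, fun v => by rw [toIso_apply]; exact hc v⟩
  · rintro ⟨a, ha⟩
    exact Cfsg.Agent.ClassicalGeometry.PSUAutBasic.mem_center_of_act (c := a) fun v => by
      rw [← toIso_apply hF]
      exact ha v

/-- the preimage of `A` -/
noncomputable def HA (hF : Fintype.card F = q ^ 2) (A : Subgroup (PSU 4 F q)) :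
    Subgroup ((Fin 4 → F) ≃ₗ[F] (Fin 4 → F)) :=
  (A.comap (_root_.Cfsg.Agent.H450.UF.pi hF 4)).map (SIso (formB hF 4)).subtype

theorem mem_HA (hF : Fintype.card F = q ^ 2) (A : Subgroup (PSU 4 F q)) (g : SIso (formB hF 4)) :
    g.1 ∈ HA hF A ↔ _root_.Cfsg.Agent.H450.UF.pi hF 4 g ∈ A := by
  constructor
  · rintro ⟨x, hx, hxg⟩
    have h1 : x = g := Subtype.ext hxg
    rw [← h1]
    exact hx
  · intro h
    exact ⟨g, h, rfl⟩

/-- **W0**: the package of properties of the preimage of `A` -/
theorem pk_of_IF (hF : Fintype.card F = q ^ 2) [hs : IsSimpleGroup (PSU 4 F q)] {A : Subgroup (PSU 4 F q)}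
    {Γ : Subgroup (MulAut (PSU 4 F q))} (h : IF A Γ) : Pk (formB hF 4) (HA hF A) := by
  have hfin : Finite (PSU 4 F q) := Quotient.finite _
  have hna : ∃ a b : PSU 4 F q, a * b ≠ b * a := by
    by_contra hcon
    push Not at hcon
    exact Cfsg.Agent.CpAut.Fix.not_comm_quot (H := SU 4 F q) (hs := hs) ⟨⟨hcon⟩⟩
  refine ⟨?_, ?_, ?_, ?_⟩
  · rintro _ ⟨x, -, rfl⟩
    exact x.2
  · intro hle
    apply h.ne_top
    rw [eq_top_iff]
    intro x _
    obtain ⟨g, rfl⟩ := pi_surjective hF 4 x
    exact (mem_HA hF A g).1 (hle g.2)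
  · intro g hg hsc
    have h1 : _root_.Cfsg.Agent.H450.UF.pi hF 4 ⟨g, hg⟩ = 1 := (pi_eq_one_iff hF (by norm_num) _).2 hsc
    have h2 := (mem_HA hF A ⟨g, hg⟩).2 (by rw [h1]; exact A.one_mem)
    exact h2
  · rintro t htH ht1 ht2 K hK hKc
    obtain ⟨t, htA, rfl⟩ := htH
    change ¬ Scal t.1 at ht1
    change Scal (t * t).1 at ht2
    have hfG : Finite (SIso (formB hF 4)) := Finite.of_equiv _ (toIso (n := 4) hF).toEquiv
    have h5 := lift_E2 h hna (_root_.Cfsg.Agent.H450.UF.pi hF 4) (pi_surjective hF 4) (t := t) htA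
      (fun h1 => ht1 ((pi_eq_one_iff hF (by norm_num) _).1 h1)) ((pi_eq_one_iff hF (by norm_num) _).2 ht2)
      (B := K.subgroupOf (SIso (formB hF 4))) (by
        intro b hb
        obtain ⟨a, ha⟩ := hKc b.1 hb
        have h6 : _root_.Cfsg.Agent.H450.UF.pi hF 4 ((b * t) * (t * b)⁻¹) = 1 := by
          rw [pi_eq_one_iff hF (by norm_num)]
          refine ⟨a, fun v => ?_⟩
          have h7 := ha ((t * b)⁻¹.1 v)
          have h8 : (t * b).1 ((t * b)⁻¹.1 v) = v := by
            have h9 : (t * b).1 * (t * b)⁻¹.1 = 1 := congrArg Subtype.val (mul_inv_cancel (t * b))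
            exact LinearEquiv.congr_fun h9 v
          have h10 : t.1 (b.1 ((t * b)⁻¹.1 v)) = v := h8
          have h7' : b.1 (t.1 ((t * b)⁻¹.1 v)) = a • t.1 (b.1 ((t * b)⁻¹.1 v)) := h7
          rw [h10] at h7'
          exact h7'
        rw [map_mul, map_inv, mul_inv_eq_one] at h6
        exact h6)
    have h11 : (HA hF A).relIndex K = (A.comap (_root_.Cfsg.Agent.H450.UF.pi hF 4)).relIndex (K.subgroupOf (SIso (formB hF 4))) := by
      have h12 : ((K.subgroupOf (SIso (formB hF 4))).map (SIso (formB hF 4)).subtype) = K := by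
        rw [Subgroup.subgroupOf_map_subtype]
        exact inf_eq_left.2 hK
      have h13 : ((HA hF A).comap (SIso (formB hF 4)).subtype) = A.comap (_root_.Cfsg.Agent.H450.UF.pi hF 4) := by
        rw [HA, comap_map_eq_self_of_injective (SIso (formB hF 4)).subtype_injective]
      rw [← h13, relIndex_comap, h12]
    rw [h11]
    exact lt_of_lt_of_le h5 (index_le_cls t)

/-- **The assembly**, `q` odd, `q ≥ 5`. -/
theorem killE_odd (hF : Fintype.card F = q ^ 2) [hs : IsSimpleGroup (PSU 4 F q)]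
    (stepC : ∀ H : Subgroup ((Fin 4 → F) ≃ₗ[F] (Fin 4 → F)), Pk (formB hF 4) H → StepC (formB hF 4) H)
    (no_second : ∀ H : Subgroup ((Fin 4 → F) ≃ₗ[F] (Fin 4 → F)), Pk (formB hF 4) H → StepC (formB hF 4) H →
      ∀ t ∈ H, ∀ m : F, m ^ (q + 1) = -1 → (∀ v, t (t v) = (m * m) • v) → False)
    (no_refl : ∀ H : Subgroup ((Fin 4 → F) ≃ₗ[F] (Fin 4 → F)), Pk (formB hF 4) H →
      ∀ t ∈ H, ∀ v : Fin 4 → F, formB hF 4 v v ≠ 0 → ∀ m : F, m ≠ 0 → t v = -(m • v) →
      (∀ u, formB hF 4 v u = 0 → t u = m • u) → False)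
    (types : ∀ t ∈ SIso (formB hF 4), ¬ Scal t → Scal (t * t) →
      (∃ (P : Submodule F (Fin 4 → F)) (s : (Fin 4 → F) ≃ₗ[F] (Fin 4 → F)) (a : F), NP (formB hF 4) P ∧
        _root_.Cfsg.Agent.H838.IF.Neg (formB hF 4) s P ∧ s ∈ SIso (formB hF 4) ∧ (∀ v, t v = a • s v)) ∨
      (∃ (v : Fin 4 → F) (m : F), formB hF 4 v v ≠ 0 ∧ m ≠ 0 ∧ t v = -(m • v) ∧
        ∀ u, formB hF 4 v u = 0 → t u = m • u) ∨
      (∃ m : F, m ^ (q + 1) = -1 ∧ ∀ v, t (t v) = (m * m) • v))
    (no_comm : ∀ H : Subgroup ((Fin 4 → F) ≃ₗ[F] (Fin 4 → F)), Pk (formB hF 4) H → StepC (formB hF 4) H →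
      ∀ P Q : Submodule F (Fin 4 → F), NP (formB hF 4) P → NP (formB hF 4) Q →
      ∀ s t : (Fin 4 → F) ≃ₗ[F] (Fin 4 → F), _root_.Cfsg.Agent.H838.IF.Neg (formB hF 4) s P → _root_.Cfsg.Agent.H838.IF.Neg (formB hF 4) t Q → s ∈ H → t ∈ H →
      P ≠ Q → P ≠ pp (formB hF 4) Q → Comm s t → False)
    (rank_one : ∀ (A : Subgroup (PSU 4 F q)) (Γ : Subgroup (MulAut (PSU 4 F q))), IF A Γ → Even (Nat.card A) →
      StepC (formB hF 4) (HA hF A) →
      (∀ s ∈ A, ∀ t ∈ A, orderOf s = 2 → orderOf t = 2 → s * t = t * s → s = t) → False) :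
    KillE (PSU 4 F q) := by
  rintro A Γ h ⟨t0, ht0A, ht0⟩
  have hfin : Finite (PSU 4 F q) := Quotient.finite _
  have hPk := pk_of_IF hF h
  have hC := stepC _ hPk
  have hev : Even (Nat.card A) := by
    rw [even_iff_two_dvd, ← ht0]
    have h1 := _root_.orderOf_dvd_natCard (⟨t0, ht0A⟩ : A)
    rwa [← Subgroup.orderOf_coe] at h1
  refine rank_one A Γ h hev hC ?_
  intro s hsA t htA hs2 ht2 hcom
  by_contra hst
  have lift : ∀ s ∈ A, orderOf s = 2 → ∃ x : SIso (formB hF 4), _root_.Cfsg.Agent.H450.UF.pi hF 4 x = s ∧ x.1 ∈ HA hF A ∧ ¬ Scal x.1 ∧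
      Scal (x.1 * x.1) := by
    intro s hsA hs2
    obtain ⟨x, rfl⟩ := pi_surjective hF 4 s
    refine ⟨x, rfl, (mem_HA hF A x).2 hsA, ?_, ?_⟩
    · intro h1
      rw [← pi_eq_one_iff hF (by norm_num)] at h1
      rw [h1, orderOf_one] at hs2
      omega
    · have h1 : _root_.Cfsg.Agent.H450.UF.pi hF 4 (x * x) = 1 := by
        rw [map_mul, ← pow_two]
        exact hs2 ▸ pow_orderOf_eq_one _
      exact (pi_eq_one_iff hF (by norm_num) _).1 h1
  obtain ⟨x, hx, hxH, hx1, hx2⟩ := lift s hsA hs2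
  obtain ⟨y, hy, hyH, hy1, hy2⟩ := lift t htA ht2
  refine false_of_comm (q := q) (hform hF 4) (by rw [finrank_fin_fun]) hPk types
    (fun t ht m h1 h2 => no_second _ hPk hC t ht m h1 h2)
    (fun t ht v h1 m h2 h3 h4 => no_refl _ hPk t ht v h1 m h2 h3 h4)
    (fun P Q h1 h2 s t h3 h4 h5 h6 h7 h8 h9 => no_comm _ hPk hC P Q h1 h2 s t h3 h4 h5 h6 h7 h8 h9)
    hxH hyH hx1 hy1 hx2 hy2 ?_ ?_
  · intro h1
    apply hst
    have h2 : _root_.Cfsg.Agent.H450.UF.pi hF 4 (x * y⁻¹) = 1 := (pi_eq_one_iff hF (by norm_num) _).2 h1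
    rw [map_mul, map_inv, mul_inv_eq_one, hx, hy] at h2
    exact h2
  · have h2 : _root_.Cfsg.Agent.H450.UF.pi hF 4 ((x * y) * (y * x)⁻¹) = 1 := by
      rw [map_mul, map_inv, mul_inv_eq_one, map_mul, map_mul, hx, hy, hcom]
    obtain ⟨a, ha⟩ := (pi_eq_one_iff hF (by norm_num) _).1 h2
    refine ⟨a, fun v => ?_⟩
    have h3 := ha ((y * x).1 v)
    have h4 : ((x * y) * (y * x)⁻¹).1 ((y * x).1 v) = (x * y).1 v := by
      have h5 : ((x * y) * (y * x)⁻¹) * (y * x) = x * y := inv_mul_cancel_right _ _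
      exact LinearEquiv.congr_fun (congrArg Subtype.val h5) v
    rw [h4] at h3
    exact h3

end

/-- the cell `CellsPSU.four` from its three parts -/
theorem four_of
    (h3 : ∀ (F : Type) [Field F] [Fintype F], Fintype.card F = 3 ^ 2 → IsSimpleGroup (PSU 4 F 3) → KillE (PSU 4 F 3))
    (heven : ∀ (F : Type) [Field F] [Fintype F] (q : ℕ), Fintype.card F = q ^ 2 → Even q →
      IsSimpleGroup (PSU 4 F q) → KillE (PSU 4 F q))
    (hodd : ∀ (F : Type) [Field F] [Fintype F] (q : ℕ), Fintype.card F = q ^ 2 → Odd q → 5 ≤ q →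
      IsSimpleGroup (PSU 4 F q) → KillE (PSU 4 F q)) :
    ∀ (F : Type) [Field F] [Fintype F] (q : ℕ), Fintype.card F = q ^ 2 → IsSimpleGroup (PSU 4 F q) →
      KillE (PSU 4 F q) := by
  intro F _ _ q hF hs
  rcases Nat.even_or_odd q with he | ho
  · exact heven F q hF he hs
  · by_cases h5 : 5 ≤ q
    · exact hodd F q hF ho h5 hs
    · have h1 : q ≠ 1 := by
        rintro rfl
        have := Fintype.one_lt_card (α := F)
        omega
      obtain ⟨j, rfl⟩ := ho
      have hj : j = 1 := by omega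
      subst hj
      exact h3 F hF hs

end Cfsg.Agent.H847.IF

private theorem dce_05c424ad728f : _root_.True := by
  try have : _root_.True := by simp only [_root_.Cfsg.Agent.H838.IF.cls.eq_1]
  try have : _root_.True := by simp only [_root_.Cfsg.Agent.H847.IF.HA.eq_1]
  exact _root_.True.intro
end

-- part: H715/IFU/ClsN
section
set_option linter.all false
open scoped Cfsg.Agent.FastGrp

/-!
# S5719, `PSU₄(q)`: the number of conjugates of an involution with nondegenerate eigenspaces (W1a, helper715)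

* `card_one` : the number of vectors of norm one of a nondegenerate subspace;
* `card_pair` : the number of orthonormal pairs;
* `card_plane` : the number of nondegenerate planes of a hermitian space of dimension four;
* `cls_neg` : W1a.
-/

set_option autoImplicit false
set_option linter.unusedSectionVars false

namespace Cfsg.Agent.H715.IFU

open Module Subgroup Cfsg Cfsg.Agent.H91.U Cfsg.Agent.H450.UF Cfsg.Agent.H450.Bs Cfsg.Agent.H838.IF

section

variable {F V : Type*} [Field F] [Fintype F] [AddCommGroup V] [Module F V] [FiniteDimensional F V] {σ : F →+* F}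
  {B : V →ₛₗ[σ] V →ₗ[F] F} {q : ℕ}

/-- nondegenerate subspace -/
def NDg (B : V →ₛₗ[σ] V →ₗ[F] F) (W : Submodule F V) : Prop := ∀ x ∈ W, (∀ y ∈ W, B x y = 0) → x = 0

theorem card_one (hB : HForm B) (hF : Fintype.card F = q ^ 2) {W : Submodule F V} (hW : NDg B W) :
    Nat.card {v : V // v ∈ W ∧ B v v = 1} =
      (if Even (finrank F W) then q ^ (finrank F W - 1) * (q ^ finrank F W - 1)
        else q ^ (finrank F W - 1) * (q ^ finrank F W + 1)) := by
  obtain ⟨φ, hφ⟩ := exists_model hF hB
  have hd : finrank F (W.map (φ : V →ₗ[F] (Fin (finrank F V) → F))) = finrank F W := LinearEquiv.finrank_map_eq φ W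
  rw [← Cfsg.Agent.H950.card_norm_one_sub hF (W := W.map (φ : V →ₗ[F] (Fin (finrank F V) → F))) ?_ hd]
  · refine Nat.card_congr (Equiv.subtypeEquiv φ.toEquiv fun v => ?_)
    have h1 : B v v = hermForm (finrank F V) F q (φ v) (φ v) := hφ v v
    have h2 : v ∈ W ↔ φ v ∈ W.map (φ : V →ₗ[F] (Fin (finrank F V) → F)) :=
      (Submodule.mem_map_equiv (e := φ) (p := W) (x := φ v)).symm.trans (by rfl) |>.symm |> fun h => by
        constructor
        · intro hv
          exact ⟨v, hv, rfl⟩
        · rintro ⟨w, hw, he⟩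
          rwa [← φ.injective he]
    rw [h1, h2]
    rfl
  · intro u hu hu0
    obtain ⟨x, hx, rfl⟩ := hu
    by_contra hcon
    push Not at hcon
    apply hu0
    have h1 : x = 0 := by
      apply hW x hx
      intro y hy
      apply hB.swap_zero
      rw [hφ]
      exact hcon _ ⟨y, hy, rfl⟩
    rw [h1]
    exact map_zero φ

/-- the orthogonal complement of a vector of norm one -/
theorem ndg_perp (hB : HForm B) {W : Submodule F V} (hW : NDg B W) {x : V} (hx : x ∈ W) (hxx : B x x = 1) :
    NDg B (W ⊓ LinearMap.ker (B x)) ∧ finrank F (W ⊓ LinearMap.ker (B x) : Submodule F V) + 1 = finrank F W := by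
  constructor
  · intro z hz h
    apply hW z hz.1
    intro w hw
    have h1 : w - B x w • x ∈ W ⊓ LinearMap.ker (B x) := by
      refine ⟨W.sub_mem hw (W.smul_mem _ hx), ?_⟩
      show B x (w - B x w • x) = 0
      rw [map_sub, smul_right', hxx, mul_one, sub_self]
    have h2 := h _ h1
    have h3 : B z x = 0 := hB.swap_zero hz.2
    rw [map_sub, smul_right', h3, mul_zero, sub_zero] at h2
    exact h2
  · have h1 := Module.Dual.finrank_ker_add_one_of_ne_zero (f := (B x).comp W.subtype) (by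
      intro h0
      have h2 := LinearMap.congr_fun h0 ⟨x, hx⟩
      have h3 : B x x = 0 := h2
      rw [hxx] at h3
      exact one_ne_zero h3)
    rw [← h1]
    congr 1
    have h2 : (LinearMap.ker ((B x).comp W.subtype)).map W.subtype = W ⊓ LinearMap.ker (B x) := by
      rw [LinearMap.ker_comp, Submodule.map_comap_subtype]
    rw [← h2]
    exact Submodule.finrank_map_subtype_eq W _

/-- the number of orthonormal pairs -/
theorem card_pair (hB : HForm B) (hF : Fintype.card F = q ^ 2) {W : Submodule F V} (hW : NDg B W) {a b : ℕ}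
    (ha : (if Even (finrank F W) then q ^ (finrank F W - 1) * (q ^ finrank F W - 1)
        else q ^ (finrank F W - 1) * (q ^ finrank F W + 1)) = a)
    (hb : (if Even (finrank F W - 1) then q ^ (finrank F W - 1 - 1) * (q ^ (finrank F W - 1) - 1)
        else q ^ (finrank F W - 1 - 1) * (q ^ (finrank F W - 1) + 1)) = b) :
    Nat.card {p : V × V // (p.1 ∈ W ∧ B p.1 p.1 = 1) ∧ p.2 ∈ W ⊓ LinearMap.ker (B p.1) ∧ B p.2 p.2 = 1} = a * b := by
  have : Finite V := Module.finite_of_finite F
  have e : {p : V × V // (p.1 ∈ W ∧ B p.1 p.1 = 1) ∧ p.2 ∈ W ⊓ LinearMap.ker (B p.1) ∧ B p.2 p.2 = 1} ≃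
      (Σ x : {x : V // x ∈ W ∧ B x x = 1}, {y : V // y ∈ W ⊓ LinearMap.ker (B x.1) ∧ B y y = 1}) :=
    { toFun := fun p => ⟨⟨p.1.1, p.2.1⟩, ⟨p.1.2, p.2.2⟩⟩
      invFun := fun s => ⟨(s.1.1, s.2.1), s.1.2, s.2.2⟩
      left_inv := fun _ => rfl
      right_inv := fun _ => rfl }
  have := Fintype.ofFinite {x : V // x ∈ W ∧ B x x = 1}
  rw [Nat.card_congr e, Nat.card_sigma, Finset.sum_congr rfl (g := fun _ => b), Finset.sum_const, Finset.card_univ,
    ← Nat.card_eq_fintype_card, card_one hB hF hW, ha, smul_eq_mul]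
  intro x _
  obtain ⟨h1, h2⟩ := ndg_perp hB hW x.2.1 x.2.2
  rw [card_one hB hF h1]
  have h3 : finrank F (W ⊓ LinearMap.ker (B x.1) : Submodule F V) = finrank F W - 1 := by omega
  rw [h3, hb]

theorem num_plane {q N : ℕ} (hq : 2 ≤ q) (h : N * ((q * (q ^ 2 - 1)) * (q + 1)) ≤
    (q ^ 3 * (q ^ 4 - 1)) * (q ^ 2 * (q ^ 3 + 1))) : N ≤ q ^ 4 * (q ^ 2 + 1) * (q ^ 2 - q + 1) := by
  obtain ⟨r, rfl⟩ : ∃ r, q = r + 1 := ⟨q - 1, by omega⟩
  have e1 : (r + 1) ^ 2 - 1 = r * (r + 2) := by
    have : (r + 1) ^ 2 = r * (r + 2) + 1 := by ring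
    omega
  have e2 : (r + 1) ^ 4 - 1 = r * (r + 2) * ((r + 1) ^ 2 + 1) := by
    have : (r + 1) ^ 4 = r * (r + 2) * ((r + 1) ^ 2 + 1) + 1 := by ring
    omega
  have e3 : (r + 1) ^ 2 - (r + 1) + 1 = r * (r + 1) + 1 := by
    have : (r + 1) ^ 2 = r * (r + 1) + (r + 1) := by ring
    omega
  rw [e1, e2] at h
  rw [e3]
  have hr : 0 < r := by omega
  have h2 : N * ((r + 1) * (r * (r + 2)) * (r + 2)) ≤
      (r + 1) ^ 4 * ((r + 1) ^ 2 + 1) * (r * (r + 1) + 1) * ((r + 1) * (r * (r + 2)) * (r + 2)) := by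
    calc N * ((r + 1) * (r * (r + 2)) * (r + 2)) = N * ((r + 1) * (r * (r + 2)) * (r + 1 + 1)) := by ring
      _ ≤ _ := h
      _ = _ := by ring
  exact Nat.le_of_mul_le_mul_right h2 (by positivity)

/-- the number of nondegenerate planes -/
theorem card_plane (hB : HForm B) (hF : Fintype.card F = q ^ 2) (hV : finrank F V = 4) :
    Nat.card {P : Submodule F V // NP B P} ≤ q ^ 4 * (q ^ 2 + 1) * (q ^ 2 - q + 1) := by
  classical
  have hfV : Finite V := Module.finite_of_finite F
  have hfin : Finite {P : Submodule F V // NP B P} :=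
    Finite.of_injective (fun P => ((P.1 : Submodule F V) : Set V)) fun P Q h => Subtype.ext (SetLike.coe_injective h)
  apply num_plane (Cfsg.Agent.LieClassical.HermBasic.two_le hF)
  have htop : NDg B (⊤ : Submodule F V) := fun x _ h => hB.eq_zero fun y => h y trivial
  have h4 : finrank F (⊤ : Submodule F V) = 4 := by rw [finrank_top, hV]
  have hD := card_pair hB hF htop (a := q ^ 3 * (q ^ 4 - 1)) (b := q ^ 2 * (q ^ 3 + 1)) (by
    rw [h4, if_pos (by decide)]) (by rw [h4, if_neg (by decide)])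
  rw [← hD]
  have hP : ∀ P : {P : Submodule F V // NP B P}, Nat.card {p : V × V // (p.1 ∈ P.1 ∧ B p.1 p.1 = 1) ∧
      p.2 ∈ P.1 ⊓ LinearMap.ker (B p.1) ∧ B p.2 p.2 = 1} = (q * (q ^ 2 - 1)) * (q + 1) := by
    intro P
    apply card_pair hB hF P.2.nd
    · rw [P.2.dim, if_pos (by decide)]
      norm_num
    · rw [P.2.dim, if_neg (by decide)]
      norm_num
  have := Fintype.ofFinite {P : Submodule F V // NP B P}
  have hS : Nat.card (Σ P : {P : Submodule F V // NP B P}, {p : V × V // (p.1 ∈ P.1 ∧ B p.1 p.1 = 1) ∧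
      p.2 ∈ P.1 ⊓ LinearMap.ker (B p.1) ∧ B p.2 p.2 = 1}) =
      Nat.card {P : Submodule F V // NP B P} * ((q * (q ^ 2 - 1)) * (q + 1)) := by
    rw [Nat.card_sigma, Finset.sum_congr rfl (fun P _ => hP P), Finset.sum_const, Finset.card_univ,
      ← Nat.card_eq_fintype_card, smul_eq_mul]
  rw [← hS]
  refine Nat.card_le_card_of_injective (fun s => ⟨s.2.1, ⟨trivial, s.2.2.1.2⟩, ⟨trivial, s.2.2.2.1.2⟩, s.2.2.2.2⟩) ?_
  rintro ⟨P, p, hp⟩ ⟨Q, p', hp'⟩ h
  have h1 : p = p' := congrArg Subtype.val h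
  subst h1
  have key : ∀ R : {P : Submodule F V // NP B P}, ((p.1 ∈ R.1 ∧ B p.1 p.1 = 1) ∧
      p.2 ∈ R.1 ⊓ LinearMap.ker (B p.1) ∧ B p.2 p.2 = 1) → R.1 = Submodule.span F {p.1, p.2} := by
    intro R hR
    symm
    apply Submodule.eq_of_le_of_finrank_eq
    · rw [Submodule.span_le]
      rintro x (rfl | rfl)
      · exact hR.1.1
      · exact hR.2.1.1
    · rw [R.2.dim]
      have hli : LinearIndependent F ![p.1, p.2] := by
        rw [LinearIndependent.pair_iff]
        intro s t hst
        have h2 := congrArg (B p.1) hst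
        rw [map_add, smul_right', smul_right', hR.1.2, show B p.1 p.2 = 0 from hR.2.1.2, mul_one, mul_zero, add_zero,
          map_zero] at h2
        have h3 := congrArg (B p.2) hst
        rw [map_add, smul_right', smul_right', hR.2.2, hB.swap_zero (show B p.1 p.2 = 0 from hR.2.1.2), mul_one, mul_zero,
          zero_add, map_zero] at h3
        exact ⟨h2, h3⟩
      have h2 := finrank_span_eq_card hli
      rw [Matrix.range_cons, Matrix.range_cons, Matrix.range_empty, Set.union_empty, Set.singleton_union, Fintype.card_fin] at h2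
      exact h2
  have h2 : P = Q := Subtype.ext ((key P hp).trans (key Q hp').symm)
  subst h2
  rfl

theorem Neg.ext (hB : HForm B) {P : Submodule F V} (hP : NP B P) {s t : V ≃ₗ[F] V} (hs : Neg B s P) (ht : Neg B t P) :
    s = t := by
  have hsup : P ⊔ pp B P = ⊤ := by
    have h1 : P ⊓ pp B P = ⊥ := by
      rw [eq_bot_iff]
      rintro x ⟨hx, hx'⟩
      exact hP.nd x hx hx'
    apply Submodule.eq_top_of_finrank_eq
    have h2 := Submodule.finrank_sup_add_finrank_inf_eq P (pp B P)
    rw [h1, finrank_bot, add_zero] at h2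
    have h3 := finrank_pp hB P
    omega
  ext v
  have hv : v ∈ P ⊔ pp B P := by rw [hsup]; trivial
  obtain ⟨x, hx, y, hy, rfl⟩ := Submodule.mem_sup.1 hv
  rw [map_add, map_add, hs.1 x hx, hs.2 y hy, ht.1 x hx, ht.2 y hy]

/-- **W1a** -/
theorem cls_neg (hB : HForm B) (hF : Fintype.card F = q ^ 2) (hV : finrank F V = 4) {P : Submodule F V} (hP : NP B P)
    {t : V ≃ₗ[F] V} (ht : Neg B t P) : cls B t ≤ q ^ 4 * (q ^ 2 + 1) * (q ^ 2 - q + 1) := by
  classical
  have hfV : Finite V := Module.finite_of_finite F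
  have hfin : Finite {P : Submodule F V // NP B P} :=
    Finite.of_injective (fun P => ((P.1 : Submodule F V) : Set V)) fun P Q h => Subtype.ext (SetLike.coe_injective h)
  refine le_trans ?_ (card_plane hB hF hV)
  have hex : ∀ s : {s : V ≃ₗ[F] V | ∃ g ∈ SIso B, s = g * t * g⁻¹}, ∃ Q : {P : Submodule F V // NP B P}, Neg B s.1 Q.1 := by
    rintro ⟨_, g, hg, rfl⟩
    have hgg : ∀ v, g⁻¹ (g v) = v := fun v => g.symm_apply_apply v
    have hB' : ∀ x y, B (g x) (g y) = B x y := hg.2
    refine ⟨⟨P.map (g : V →ₗ[F] V), ⟨?_, ?_⟩⟩, ?_, ?_⟩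
    · rw [LinearEquiv.finrank_map_eq, hP.dim]
    · rintro _ ⟨x, hx, rfl⟩ h
      have h1 : x = 0 := hP.nd x hx fun y hy => by
        rw [← hB']
        exact h _ ⟨y, hy, rfl⟩
      rw [h1]
      exact map_zero g
    · rintro _ ⟨x, hx, rfl⟩
      show g (t (g⁻¹ (g x))) = -(g x)
      rw [hgg, ht.1 x hx, map_neg]
    · intro u hu
      obtain ⟨v, rfl⟩ := g.surjective u
      show g (t (g⁻¹ (g v))) = g v
      rw [hgg, ht.2 v fun z hz => by rw [← hB']; exact hu _ ⟨z, hz, rfl⟩]
  choose f hf using hex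
  refine Nat.card_le_card_of_injective f fun s s' h => Subtype.ext ?_
  have h1 := hf s
  rw [h] at h1
  exact Neg.ext hB (f s').2 h1 (hf s')

end

end Cfsg.Agent.H715.IFU
end

-- part: H215/IFM/Pure_mg
section
prune_inst 0x4115075441c2210000000058671001c67a600059000288c01c401064406818f6a09002961b410110958e82204403d0028130000c0424000000e200400011d04810088040021400088820006000080400000000000000000000000000000000004200000000
set_option linter.all false
open scoped Cfsg.Agent.FastGrp

-- part: H215/IFM/Pure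
section
/-!
# S5719, `POmega_8^-(q)`, `q` odd: the pure group part of the case of a fundamental involution (helper215)

* `pure_prod` : a subgroup `X` of `(G₁ × G₂) × G₀` (`G₁ = G₂ = SL₂(q)`, `G₀ = L₂(q²)`) which meets `G₀` in a group of odd order
  and does not contain `G₁ × G₂` has large index or contains `G₁` or `G₂`;
* `card_invol` : `f(z)^5 |z^T ∩ A| < |z^T|`;
* `z_case` : the contradiction.
-/

set_option autoImplicit false
set_option linter.unusedSectionVars false

namespace Cfsg.Agent.H215.IFM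

open MulAction Subgroup Cfsg.Agent.H284 Cfsg.Agent.H209.Fxy

/-! ### subgroups of direct products -/

section Prod

variable {G H : Type*} [Group G] [Group H] [Finite G] [Finite H]

theorem card_prod_fst (X : Subgroup (G × H)) :
    Nat.card X = Nat.card (X.map (MonoidHom.fst G H)) * Nat.card (X.comap (MonoidHom.inr G H)) := by
  let g : X →* G := (MonoidHom.fst G H).comp X.subtype
  have h1 : g.ker.index = Nat.card g.range := Subgroup.index_ker g
  have h2 : g.range = X.map (MonoidHom.fst G H) := by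
    rw [MonoidHom.range_comp, Subgroup.range_subtype]
  have h3 : Nat.card g.ker = Nat.card (X.comap (MonoidHom.inr G H)) := by
    refine Nat.card_congr
      { toFun := fun x => ⟨(x : X).1.2, ?_⟩
        invFun := fun y => ⟨⟨(1, (y : H)), y.2⟩, rfl⟩
        left_inv := ?_
        right_inv := fun y => rfl }
    · have h4 : (x : X).1.1 = 1 := x.2
      have h5 : ((1 : G), (x : X).1.2) = (x : X).1 := Prod.ext h4.symm rfl
      show ((1 : G), (x : X).1.2) ∈ X
      rw [h5]
      exact (x : X).2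
    · intro x
      apply Subtype.ext
      apply Subtype.ext
      have h4 : (x : X).1.1 = 1 := x.2
      exact Prod.ext h4.symm rfl
  rw [← Subgroup.card_mul_index g.ker, h1, h2, h3, mul_comm]

theorem card_prod_snd (X : Subgroup (G × H)) :
    Nat.card X = Nat.card (X.map (MonoidHom.snd G H)) * Nat.card (X.comap (MonoidHom.inl G H)) := by
  let g : X →* H := (MonoidHom.snd G H).comp X.subtype
  have h1 : g.ker.index = Nat.card g.range := Subgroup.index_ker g
  have h2 : g.range = X.map (MonoidHom.snd G H) := by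
    rw [MonoidHom.range_comp, Subgroup.range_subtype]
  have h3 : Nat.card g.ker = Nat.card (X.comap (MonoidHom.inl G H)) := by
    refine Nat.card_congr
      { toFun := fun x => ⟨(x : X).1.1, ?_⟩
        invFun := fun y => ⟨⟨((y : G), 1), y.2⟩, rfl⟩
        left_inv := ?_
        right_inv := fun y => rfl }
    · have h4 : (x : X).1.2 = 1 := x.2
      have h5 : ((x : X).1.1, (1 : H)) = (x : X).1 := Prod.ext rfl h4.symm
      show ((x : X).1.1, (1 : H)) ∈ X
      rw [h5]
      exact (x : X).2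
    · intro x
      apply Subtype.ext
      apply Subtype.ext
      have h4 : (x : X).1.2 = 1 := x.2
      exact Prod.ext rfl h4.symm
  rw [← Subgroup.card_mul_index g.ker, h1, h2, h3, mul_comm]

theorem index_fst (X : Subgroup (G × H)) :
    X.index = (X.map (MonoidHom.fst G H)).index * (X.comap (MonoidHom.inr G H)).index := by
  have h0 := X.card_mul_index
  have h1 := (X.map (MonoidHom.fst G H)).card_mul_index
  have h2 := (X.comap (MonoidHom.inr G H)).card_mul_index
  have h3 := card_prod_fst X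
  have h4 : Nat.card (G × H) = Nat.card G * Nat.card H := Nat.card_prod G H
  rw [h4, ← h1, ← h2, h3] at h0
  have h5 : 0 < Nat.card (X.map (MonoidHom.fst G H)) * Nat.card (X.comap (MonoidHom.inr G H)) :=
    Nat.mul_pos Nat.card_pos Nat.card_pos
  apply Nat.eq_of_mul_eq_mul_left h5
  rw [h0]
  ring

theorem index_snd (X : Subgroup (G × H)) :
    X.index = (X.map (MonoidHom.snd G H)).index * (X.comap (MonoidHom.inl G H)).index := by
  have h0 := X.card_mul_index
  have h1 := (X.map (MonoidHom.snd G H)).card_mul_index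
  have h2 := (X.comap (MonoidHom.inl G H)).card_mul_index
  have h3 := card_prod_snd X
  have h4 : Nat.card (G × H) = Nat.card G * Nat.card H := Nat.card_prod G H
  rw [h4, ← h1, ← h2, h3] at h0
  have h5 : 0 < Nat.card (X.map (MonoidHom.snd G H)) * Nat.card (X.comap (MonoidHom.inl G H)) :=
    Nat.mul_pos Nat.card_pos Nat.card_pos
  apply Nat.eq_of_mul_eq_mul_left h5
  rw [h0]
  ring

theorem normal_inl (X : Subgroup (G × H)) (h : X.map (MonoidHom.fst G H) = ⊤) :
    (X.comap (MonoidHom.inl G H)).Normal := by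
  constructor
  intro a ha g
  have hg : g ∈ X.map (MonoidHom.fst G H) := by rw [h]; exact mem_top _
  obtain ⟨⟨g', y⟩, hgy, rfl⟩ := hg
  have h1 := X.mul_mem (X.mul_mem hgy (show ((a, 1) : G × H) ∈ X from ha)) (X.inv_mem hgy)
  show ((g' * a * g'⁻¹, 1) : G × H) ∈ X
  have h2 : ((g', y) * (a, 1) * (g', y)⁻¹ : G × H) = (g' * a * g'⁻¹, 1) := by
    refine Prod.ext rfl ?_
    show y * 1 * y⁻¹ = 1
    rw [mul_one, mul_inv_cancel]
  rwa [h2] at h1

theorem normal_inr (X : Subgroup (G × H)) (h : X.map (MonoidHom.snd G H) = ⊤) :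
    (X.comap (MonoidHom.inr G H)).Normal := by
  constructor
  intro a ha g
  have hg : g ∈ X.map (MonoidHom.snd G H) := by rw [h]; exact mem_top _
  obtain ⟨⟨y, g'⟩, hgy, rfl⟩ := hg
  have h1 := X.mul_mem (X.mul_mem hgy (show ((1, a) : G × H) ∈ X from ha)) (X.inv_mem hgy)
  show ((1, g' * a * g'⁻¹) : G × H) ∈ X
  have h2 : ((y, g') * (1, a) * (y, g')⁻¹ : G × H) = (1, g' * a * g'⁻¹) := by
    refine Prod.ext ?_ rfl
    show y * 1 * y⁻¹ = 1
    rw [mul_one, mul_inv_cancel]
  rwa [h2] at h1

/-- **linked factors** -/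
theorem link {m0 c : ℕ} [IsSimpleGroup H] (hmin0 : ∀ R : Subgroup H, R ≠ ⊤ → m0 ≤ R.index)
    (hnorm : ∀ N : Subgroup G, N.Normal → N ≠ ⊤ → c ≤ N.index) (X : Subgroup (G × H))
    (hfst : ∀ a : G, ∃ y : H, (a, y) ∈ X) (hne : X.comap (MonoidHom.inr G H) ≠ ⊤) :
    (∀ a : G, (a, (1 : H)) ∈ X) ∨ Nat.card H ≤ (X.comap (MonoidHom.inr G H)).index ∨
      m0 * c ≤ (X.comap (MonoidHom.inr G H)).index := by
  have h1 : X.map (MonoidHom.fst G H) = ⊤ := by
    rw [Subgroup.eq_top_iff']
    intro a
    obtain ⟨y, hy⟩ := hfst a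
    exact ⟨(a, y), hy, rfl⟩
  have h2 : (X.comap (MonoidHom.inr G H)).index =
      (X.map (MonoidHom.snd G H)).index * (X.comap (MonoidHom.inl G H)).index := by
    rw [← index_snd, index_fst, h1, Subgroup.index_top, one_mul]
  by_cases hN : X.comap (MonoidHom.inl G H) = ⊤
  · left
    intro a
    have h3 : a ∈ X.comap (MonoidHom.inl G H) := by rw [hN]; exact mem_top _
    exact h3
  · right
    have h3 := hnorm _ (normal_inl X h1) hN
    by_cases hR : X.map (MonoidHom.snd G H) = ⊤
    · left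
      rcases (normal_inr X hR).eq_bot_or_eq_top with h4 | h4
      · rw [h4, Subgroup.index_bot]
      · exact absurd h4 hne
    · right
      rw [h2]
      exact Nat.mul_le_mul (hmin0 _ hR) h3

/-- two factors -/
theorem two_factors {m c b : ℕ} (hmin1 : ∀ R : Subgroup G, R ≠ ⊤ → m ≤ R.index)
    (hmin2 : ∀ R : Subgroup H, R ≠ ⊤ → m ≤ R.index)
    (hnorm : ∀ N : Subgroup H, N.Normal → N ≠ ⊤ → c ≤ N.index) (P : Subgroup (G × H)) (hb1 : b ≤ m * m) (hb2 : b ≤ c)
    (h1 : P.comap (MonoidHom.inl G H) ≠ ⊤) (h2 : P.comap (MonoidHom.inr G H) ≠ ⊤) : b ≤ P.index := by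
  by_cases hR : P.map (MonoidHom.snd G H) = ⊤
  · rw [index_fst]
    refine hb2.trans ((hnorm _ (normal_inr P hR) h2).trans ?_)
    exact Nat.le_mul_of_pos_left _ (Nat.pos_of_ne_zero Subgroup.index_ne_zero_of_finite)
  · rw [index_snd]
    exact hb1.trans (Nat.mul_le_mul (hmin2 _ hR) (hmin1 _ h1))

end Prod

/-! ### the pure group part -/

section Pure

variable {G₁ G₂ G₀ : Type*} [Group G₁] [Group G₂] [Group G₀] [Finite G₁] [Finite G₂] [Finite G₀]

/-- **The pure group part.** `b` : the large index. -/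
theorem pure_prod {m c m0 o b : ℕ} [IsSimpleGroup G₀] (hmin1 : ∀ R : Subgroup G₁, R ≠ ⊤ → m ≤ R.index)
    (hmin2 : ∀ R : Subgroup G₂, R ≠ ⊤ → m ≤ R.index)
    (hnorm1 : ∀ N : Subgroup G₁, N.Normal → N ≠ ⊤ → c ≤ N.index)
    (hnorm2 : ∀ N : Subgroup G₂, N.Normal → N ≠ ⊤ → c ≤ N.index)
    (hmin0 : ∀ R : Subgroup G₀, R ≠ ⊤ → m0 ≤ R.index)
    (hodd : ∀ Y : Subgroup G₀, (∀ y ∈ Y, y * y = 1 → y = 1) → o ≤ Y.index) (ho : 1 < o)
    (hb1 : b ≤ Nat.card G₀) (hb2 : b ≤ m0 * c) (hb3 : b ≤ m * m * o) (hb4 : b ≤ c * o)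
    (X : Subgroup ((G₁ × G₂) × G₀)) (h0 : ∀ y : G₀, ((1, 1), y) ∈ X → y * y = 1 → y = 1)
    (h12 : ∃ a b, ((a, b), (1 : G₀)) ∉ X) :
    b ≤ X.index ∨ ((∀ a : G₁, ((a, 1), 1) ∈ X) ∨ (∀ a : G₂, ((1, a), 1) ∈ X)) ∧ m * o ≤ X.index := by
  set S₀ : Subgroup G₀ := X.comap (MonoidHom.inr (G₁ × G₂) G₀) with hS₀
  set P : Subgroup (G₁ × G₂) := X.map (MonoidHom.fst (G₁ × G₂) G₀) with hP
  have hidx : X.index = P.index * S₀.index := index_fst X
  have hS : o ≤ S₀.index := hodd S₀ fun y hy h => h0 y hy h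
  have hSne : S₀ ≠ ⊤ := by
    intro h
    rw [h, Subgroup.index_top] at hS
    omega
  have hPpos : 0 < P.index := Nat.pos_of_ne_zero Subgroup.index_ne_zero_of_finite
  have hSP : S₀.index ≤ X.index := by
    rw [hidx]
    exact Nat.le_mul_of_pos_left _ hPpos
  by_cases hbX : b ≤ X.index
  · exact Or.inl hbX
  right
  -- the factor `G₁`
  have k1 : P.comap (MonoidHom.inl G₁ G₂) = ⊤ → ∀ a : G₁, ((a, 1), 1) ∈ X := by
    intro h
    let j : G₁ × G₀ →* (G₁ × G₂) × G₀ := (MonoidHom.inl G₁ G₂).prodMap (MonoidHom.id G₀)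
    have h3 := link hmin0 hnorm1 (X.comap j) (by
      intro a
      have h4 : a ∈ P.comap (MonoidHom.inl G₁ G₂) := by rw [h]; exact mem_top _
      obtain ⟨⟨p, y⟩, hx, he⟩ := h4
      refine ⟨y, ?_⟩
      have he' : p = (a, 1) := he
      show ((a, 1), y) ∈ X
      rw [← he']
      exact hx) hSne
    rcases h3 with h3 | h3 | h3
    · exact h3
    · exact absurd (hb1.trans (h3.trans hSP)) hbX
    · exact absurd (hb2.trans (h3.trans hSP)) hbX
  have k2 : P.comap (MonoidHom.inr G₁ G₂) = ⊤ → ∀ a : G₂, ((1, a), 1) ∈ X := by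
    intro h
    let j : G₂ × G₀ →* (G₁ × G₂) × G₀ := (MonoidHom.inr G₁ G₂).prodMap (MonoidHom.id G₀)
    have h3 := link hmin0 hnorm2 (X.comap j) (by
      intro a
      have h4 : a ∈ P.comap (MonoidHom.inr G₁ G₂) := by rw [h]; exact mem_top _
      obtain ⟨⟨p, y⟩, hx, he⟩ := h4
      refine ⟨y, ?_⟩
      have he' : p = (1, a) := he
      show ((1, a), y) ∈ X
      rw [← he']
      exact hx) hSne
    rcases h3 with h3 | h3 | h3
    · exact h3
    · exact absurd (hb1.trans (h3.trans hSP)) hbX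
    · exact absurd (hb2.trans (h3.trans hSP)) hbX
  by_cases e1 : P.comap (MonoidHom.inl G₁ G₂) = ⊤
  · by_cases e2 : P.comap (MonoidHom.inr G₁ G₂) = ⊤
    · exfalso
      obtain ⟨a, b, hab⟩ := h12
      apply hab
      have h3 := X.mul_mem (k1 e1 a) (k2 e2 b)
      have h4 : (((a, 1), 1) * ((1, b), 1) : (G₁ × G₂) × G₀) = ((a, b), 1) := by
        refine Prod.ext (Prod.ext ?_ ?_) ?_
        · exact mul_one a
        · exact one_mul b
        · exact mul_one 1
      rwa [h4] at h3
    · refine ⟨Or.inl (k1 e1), ?_⟩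
      rw [hidx]
      refine Nat.mul_le_mul ?_ hS
      rw [index_fst]
      refine (hmin2 _ e2).trans ?_
      exact Nat.le_mul_of_pos_left _ (Nat.pos_of_ne_zero Subgroup.index_ne_zero_of_finite)
  · by_cases e2 : P.comap (MonoidHom.inr G₁ G₂) = ⊤
    · refine ⟨Or.inr (k2 e2), ?_⟩
      rw [hidx]
      refine Nat.mul_le_mul ?_ hS
      rw [index_snd]
      refine (hmin1 _ e1).trans ?_
      exact Nat.le_mul_of_pos_left _ (Nat.pos_of_ne_zero Subgroup.index_ne_zero_of_finite)
    · exfalso
      apply hbX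
      rw [hidx]
      rcases le_total (m * m) c with h | h
      · exact hb3.trans (Nat.mul_le_mul (two_factors hmin1 hmin2 hnorm2 P le_rfl h e1 e2) hS)
      · exact hb4.trans (Nat.mul_le_mul (two_factors hmin1 hmin2 hnorm2 P h le_rfl e1 e2) hS)

end Pure

/-! ### the involutions of `A` -/

section Inv

variable {T : Type*} [Group T] [Finite T] [IsSimpleGroup T] {A : Subgroup T} {Γ : Subgroup (MulAut T)}

/-- `f(z)^5 |z^T ∩ A| < |z^T|` -/
theorem card_invol (h : IF A Γ) (hna : ∃ a b : T, a * b ≠ b * a) {z : T} (hz : z ∈ A) (h2 : orderOf z = 2) {B : Subgroup T}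
    (hB : B ≤ centralizer ({z} : Set T)) :
    A.relIndex B ^ 5 * {t : T | t ∈ A ∧ ∃ x : T, x * z * x⁻¹ = t}.ncard < (centralizer ({z} : Set T)).index := by
  have hσ : MulAut.conj z ∈ Γ := (h.conj z).2 hz
  obtain ⟨ho, hcl, -, -, -⟩ := H999.IFB.IF.E2' h hna hz h2
  have h1 := H999.IFB.IF.fix_formula' h hσ
  have h3 := h.small _ hσ ho
  have h4 := H999.IFB.fx_pos A (MulAut.conj z)
  have hinj : Function.Injective (MulAut.conj : T →* MulAut T) := by
    rw [injective_iff_map_eq_one]
    intro y hy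
    apply H999.IFB.center_of hna
    intro x
    have h5 := congrArg (fun τ : MulAut T => τ x) hy
    simp only [MulAut.conj_apply, MulAut.one_apply] at h5
    rw [mul_inv_eq_iff_eq_mul] at h5
    exact h5
  have h6 : {t : T | t ∈ A ∧ ∃ x : T, x * z * x⁻¹ = t}.ncard ≤ (H999.IFB.icl (MulAut.conj z) ∩ (Γ : Set (MulAut T))).ncard := by
    rw [← Set.ncard_image_of_injective _ hinj]
    refine Set.ncard_le_ncard ?_ (Set.toFinite _)
    rintro _ ⟨t, ⟨ht, x, rfl⟩, rfl⟩
    refine ⟨⟨x, ?_⟩, (h.conj _).2 ht⟩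
    rw [map_mul, map_mul, map_inv]
  have h7 : A.relIndex B ≤ fx A (MulAut.conj z) := by
    refine (H999.IFB.IF.E1 h hσ ho (B := B) ?_).1
    intro b hb
    have h8 := mem_centralizer_singleton_iff.1 (hB hb)
    rw [MulAut.conj_apply, mul_inv_eq_iff_eq_mul]
    exact h8.symm
  rw [← hcl]
  have h9 : fx A (MulAut.conj z) * (fx A (MulAut.conj z) ^ 5 * (H999.IFB.icl (MulAut.conj z) ∩ (Γ : Set (MulAut T))).ncard) <
      fx A (MulAut.conj z) * (H999.IFB.icl (MulAut.conj z)).ncard := by
    rw [h1]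
    have h10 : 0 < (H999.IFB.icl (MulAut.conj z) ∩ (Γ : Set (MulAut T))).ncard :=
      (Set.ncard_pos (Set.toFinite _)).2 ⟨_, ⟨1, by simp⟩, hσ⟩
    calc fx A (MulAut.conj z) * (fx A (MulAut.conj z) ^ 5 * (H999.IFB.icl (MulAut.conj z) ∩ (Γ : Set (MulAut T))).ncard)
        = fx A (MulAut.conj z) ^ 6 * (H999.IFB.icl (MulAut.conj z) ∩ (Γ : Set (MulAut T))).ncard := by ring
      _ < A.index * (H999.IFB.icl (MulAut.conj z) ∩ (Γ : Set (MulAut T))).ncard := Nat.mul_lt_mul_of_pos_right h3 h10
  have h11 := Nat.lt_of_mul_lt_mul_left h9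
  refine lt_of_le_of_lt ?_ h11
  exact Nat.mul_le_mul (Nat.pow_le_pow_left h7 5) h6

/-- If the only involution of `A` is `z` then `C_T(z) ≤ A`. -/
theorem cent_le (h : IF A Γ) {z : T} (hz : z ∈ A) (h2 : orderOf z = 2) (huni : ∀ t ∈ A, orderOf t = 2 → t = z) :
    centralizer ({z} : Set T) ≤ A := by
  intro x hx
  have hx' := mem_centralizer_singleton_iff.1 hx
  refine H680.Fxy.IF.norm h (K := zpowers z) ?_ ?_ ?_ ?_
  · rw [zpowers_le]
    exact hz
  · intro σ hσ k hk
    obtain ⟨i, rfl⟩ := mem_zpowers_iff.1 hk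
    have h3 : σ z = z := by
      refine huni _ ((h.inv σ hσ z).2 hz) ?_
      rw [MulEquiv.orderOf_eq σ z, h2]
    rw [map_zpow, h3]
    exact zpow_mem (mem_zpowers z) i
  · rw [Ne, zpowers_eq_bot]
    rintro rfl
    rw [orderOf_one] at h2
    omega
  · intro k hk
    obtain ⟨i, rfl⟩ := mem_zpowers_iff.1 hk
    have h3 : x * z ^ i = z ^ i * x := by
      have h4 : Commute x z := hx'
      exact (h4.zpow_right i).eq
    rw [h3, mul_inv_cancel_right]
    exact zpow_mem (mem_zpowers z) i

end Inv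

/-! ### the case of a fundamental involution -/

section Z

variable {T : Type*} [Group T] [Finite T] [IsSimpleGroup T] {A : Subgroup T} {Γ : Subgroup (MulAut T)}
  {G₁ G₂ G₀ : Type*} [Group G₁] [Group G₂] [Group G₀] [Finite G₁] [Finite G₂] [Finite G₀]

/-- a factor of minimal index at least `m` centralises the elements of an invariant set of less than `m` elements -/
theorem orbit_triv {G : Type*} [Group G] [Finite G] (j : G →* T) {m : ℕ}
    (hmin : ∀ R : Subgroup G, R ≠ ⊤ → m ≤ R.index) (S : Set T) (hS : S.ncard < m)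
    (hSc : ∀ t ∈ S, ∀ a, j a * t * (j a)⁻¹ ∈ S) : ∀ t ∈ S, ∀ a, j a * t = t * j a := by
  intro t ht a
  letI : MulAction G T := MulAction.compHom T ((MulAut.conj : T →* MulAut T).comp j)
  have hsm : ∀ (b : G) (s : T), b • s = j b * s * (j b)⁻¹ := fun b s => rfl
  have h1 : (stabilizer G t).index ≤ S.ncard := by
    rw [MulAction.index_stabilizer]
    refine Set.ncard_le_ncard ?_ (Set.toFinite _)
    rintro _ ⟨b, rfl⟩
    exact hSc t ht b
  by_contra hcon
  have h2 : stabilizer G t ≠ ⊤ := by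
    intro h
    have h3 : a ∈ stabilizer G t := by rw [h]; exact mem_top _
    rw [mem_stabilizer_iff, hsm, mul_inv_eq_iff_eq_mul] at h3
    exact hcon h3
  have h3 := hmin _ h2
  omega

/-- **The case of a fundamental involution `z`** in `Ω_8^-(q)`: `φ : (SL₂(q) × SL₂(q)) × L₂(q²) → C_T(z)`. -/
theorem z_case (h : IF A Γ) (hna : ∃ a b : T, a * b ≠ b * a) {m c m0 o b : ℕ} [IsSimpleGroup G₀]
    (hmin1 : ∀ R : Subgroup G₁, R ≠ ⊤ → m ≤ R.index)
    (hmin2 : ∀ R : Subgroup G₂, R ≠ ⊤ → m ≤ R.index)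
    (hnorm1 : ∀ N : Subgroup G₁, N.Normal → N ≠ ⊤ → c ≤ N.index)
    (hnorm2 : ∀ N : Subgroup G₂, N.Normal → N ≠ ⊤ → c ≤ N.index)
    (hmin0 : ∀ R : Subgroup G₀, R ≠ ⊤ → m0 ≤ R.index)
    (hodd : ∀ Y : Subgroup G₀, (∀ y ∈ Y, y * y = 1 → y = 1) → o ≤ Y.index) (ho : 1 < o)
    (hb1 : b ≤ Nat.card G₀) (hb2 : b ≤ m0 * c) (hb3 : b ≤ m * m * o) (hb4 : b ≤ c * o)
    (φ : (G₁ × G₂) × G₀ →* T) {z : T} (hz : z ∈ A) (hz2 : orderOf z = 2) (hφ : ∀ x, φ x * z = z * φ x)
    (h0 : ∀ y : G₀, y * y = 1 → y ≠ 1 → φ ((1, 1), y) ∉ A) (h12 : ∃ a b, φ ((a, b), 1) ∉ A)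
    (hcl : ∀ t ∈ A, orderOf t = 2 → ∃ x : T, x * z * x⁻¹ = t)
    (hc1 : ∀ t ∈ A, orderOf t = 2 → (∀ a : G₁, φ ((a, 1), 1) * t = t * φ ((a, 1), 1)) → t = z)
    (hc2 : ∀ t ∈ A, orderOf t = 2 → (∀ a : G₂, φ ((1, a), 1) * t = t * φ ((1, a), 1)) → t = z)
    (hN1 : (centralizer ({z} : Set T)).index ≤ b ^ 5) (hN2 : (centralizer ({z} : Set T)).index ≤ (m * o) ^ 5 * m) :
    False := by
  have hr : φ.range ≤ centralizer ({z} : Set T) := by
    rintro _ ⟨x, rfl⟩
    exact mem_centralizer_singleton_iff.2 (hφ x)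
  have hidx : (A.comap φ).index = A.relIndex φ.range := Subgroup.index_comap A φ
  have hcard := card_invol h hna hz hz2 hr
  rw [← hidx] at hcard
  set S : Set T := {t : T | t ∈ A ∧ ∃ x : T, x * z * x⁻¹ = t} with hS
  have hS2 : ∀ t ∈ S, orderOf t = 2 := by
    rintro _ ⟨-, x, rfl⟩
    have h1 : x * z * x⁻¹ = MulAut.conj x z := (MulAut.conj_apply x z).symm
    rw [h1, MulEquiv.orderOf_eq, hz2]
  have hSpos : 0 < S.ncard := (Set.ncard_pos (Set.toFinite _)).2 ⟨z, hz, 1, by simp⟩
  have hSm : m * o ≤ (A.comap φ).index → S.ncard < m := by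
    intro h1
    by_contra hcon
    push Not at hcon
    have h2 : (m * o) ^ 5 * m ≤ (A.comap φ).index ^ 5 * S.ncard := Nat.mul_le_mul (Nat.pow_le_pow_left h1 5) hcon
    omega
  have fin : (∀ t ∈ S, t = z) → False := by
    intro h1
    obtain ⟨a, b, hab⟩ := h12
    exact hab (cent_le h hz hz2 (fun t ht ht2 => h1 t ⟨ht, hcl t ht ht2⟩) (mem_centralizer_singleton_iff.2 (hφ _)))
  have hconj : ∀ g ∈ A, ∀ t ∈ S, g * t * g⁻¹ ∈ S := by
    rintro g hg _ ⟨ht, x, rfl⟩
    refine ⟨A.mul_mem (A.mul_mem hg ht) (A.inv_mem hg), g * x, ?_⟩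
    group
  rcases pure_prod hmin1 hmin2 hnorm1 hnorm2 hmin0 hodd ho hb1 hb2 hb3 hb4 (A.comap φ) (by
      intro y hy hyy
      by_contra hne
      exact h0 y hyy hne hy) h12 with h1 | ⟨h1, h2⟩
  · have h3 : b ^ 5 ≤ (A.comap φ).index ^ 5 * S.ncard :=
      (Nat.pow_le_pow_left h1 5).trans (Nat.le_mul_of_pos_right _ hSpos)
    omega
  · have h3 := hSm h2
    rcases h1 with h1 | h1
    · have h4 := orbit_triv (φ.comp ((MonoidHom.inl (G₁ × G₂) G₀).comp (MonoidHom.inl G₁ G₂))) hmin1 S h3
        (fun t ht a => hconj _ (h1 a) t ht)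
      exact fin fun t ht => hc1 t ht.1 (hS2 t ht) fun a => h4 t ht a
    · have h4 := orbit_triv (φ.comp ((MonoidHom.inl (G₁ × G₂) G₀).comp (MonoidHom.inr G₁ G₂))) hmin2 S h3
        (fun t ht a => hconj _ (h1 a) t ht)
      exact fin fun t ht => hc2 t ht.1 (hS2 t ht) fun a => h4 t ht a

end Z

end Cfsg.Agent.H215.IFM
end

-- part: H215/IFM/SLTwo
section
/-!
# Indices of subgroups of `SL₂(q)` and `L₂(q²)`, `q` odd (helper215, for S5719)

* `min_sl2` : `(q + 1) / 2 ≤ |SL₂(q) : R|`, `q ≥ 5`; `norm_sl2` : normal subgroups;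
* `min_psl2`, `card_psl2`;
* `odd_psl2` : a subgroup of `L₂(r)`, `8 ∣ r - 1`, without involutions has index at least `4 r`.
-/

set_option autoImplicit false
set_option linter.unusedSectionVars false

namespace Cfsg.Agent.H215.IFM

open Subgroup Cfsg Cfsg.Agent.H16.BR
open Cfsg.Agent.LieClassical.SLTwoUnipotent (u l coe_u coe_l u_add u_zero l_add l_zero ext_coe)
open Matrix (SpecialLinearGroup ProjectiveSpecialLinearGroup)

section Gen

variable {F : Type*} [Field F] [Fintype F]

theorem mulc (A B : _root_.Matrix.SpecialLinearGroup (Fin 2) F) :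
    ((A * B : _root_.Matrix.SpecialLinearGroup (Fin 2) F) : Matrix (Fin 2) (Fin 2) F) =
      (A : Matrix (Fin 2) (Fin 2) F) * (B : Matrix (Fin 2) (Fin 2) F) := rfl

theorem card_sl2 : Nat.card (_root_.Matrix.SpecialLinearGroup (Fin 2) F) = Fintype.card F * (Fintype.card F ^ 2 - 1) := by
  have h1 := Cfsg.Agent.S0242.result (F := F) rfl 2 (by norm_num)
  have hq : 2 ≤ Fintype.card F := Fintype.one_lt_card
  rw [Fin.prod_univ_two] at h1
  have h3 : Fintype.card F ^ 2 - Fintype.card F ^ 1 = (Fintype.card F - 1) * Fintype.card F := by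
    rw [Nat.sub_mul, one_mul, pow_one, pow_two]
  simp only [Fin.val_zero, Fin.val_one, pow_zero] at h1
  rw [h3] at h1
  have h4 : (Fintype.card F - 1) * Nat.card (_root_.Matrix.SpecialLinearGroup (Fin 2) F) =
      (Fintype.card F - 1) * (Fintype.card F * (Fintype.card F ^ 2 - 1)) := by rw [h1]; ring
  exact Nat.eq_of_mul_eq_mul_left (by omega) h4

theorem sq_eq_one_iff_of_field {r : F} (h : r ^ 2 = 1) : r = 1 ∨ r = -1 := by
  have h1 : (r - 1) * (r + 1) = 0 := by linear_combination h
  rcases mul_eq_zero.1 h1 with h2 | h2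
  · exact Or.inl (sub_eq_zero.1 h2)
  · exact Or.inr (eq_neg_of_add_eq_zero_left h2)

theorem mem_center2 {g : _root_.Matrix.SpecialLinearGroup (Fin 2) F} :
    g ∈ center (_root_.Matrix.SpecialLinearGroup (Fin 2) F) ↔ g = 1 ∨ g = -1 := by
  constructor
  · intro h
    obtain ⟨r, hr, hg⟩ := Matrix.SpecialLinearGroup.mem_center_iff.1 h
    rw [Fintype.card_fin] at hr
    have hr' : r = 1 ∨ r = -1 := sq_eq_one_iff_of_field hr
    rcases hr' with rfl | rfl
    · left
      apply ext_coe
      rw [← hg]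
      simp
    · right
      apply ext_coe
      rw [← hg]
      ext i j
      (revert i j; simp only [_root_.Fin.forall_fin_succ, _root_.Matrix.scalar_apply, _root_.Matrix.SpecialLinearGroup.coe_neg, _root_.Matrix.SpecialLinearGroup.coe_one, _root_.Matrix.neg_apply, Fin.isValue, _root_.Fin.succ_zero_eq_one, _root_.IsEmpty.forall_iff, _root_.and_true, _root_.Matrix.diagonal_apply_eq, _root_.Matrix.one_apply_eq, _root_.ne_eq, _root_.zero_ne_one, _root_.not_false_eq_true, _root_.Matrix.diagonal_apply_ne, Nat.reduceAdd, _root_.Matrix.one_apply_ne, _root_.neg_zero, _root_.and_self, _root_.Fin.succ_ne_zero, _root_.true_and])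
  · rintro (rfl | rfl)
    · exact one_mem _
    · rw [Subgroup.mem_center_iff]
      intro g
      rw [mul_neg, neg_mul, mul_one, one_mul]

theorem neg_one_ne (h2 : (2 : F) ≠ 0) : (-1 : _root_.Matrix.SpecialLinearGroup (Fin 2) F) ≠ 1 := by
  intro h
  have h1 := congrArg (fun m : _root_.Matrix.SpecialLinearGroup (Fin 2) F => m.1 0 0) h
  have h3 : (-1 : F) = 1 := by simpa using h1
  exact h2 (by linear_combination -h3)

theorem card_center2 (h2 : (2 : F) ≠ 0) : Nat.card (center (_root_.Matrix.SpecialLinearGroup (Fin 2) F)) = 2 := by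
  have h1 : ((center (_root_.Matrix.SpecialLinearGroup (Fin 2) F) : Subgroup _) : Set (_root_.Matrix.SpecialLinearGroup (Fin 2) F)) = {1, -1} := by
    ext g
    exact mem_center2
  have h3 : Nat.card (center (_root_.Matrix.SpecialLinearGroup (Fin 2) F)) =
      ((center (_root_.Matrix.SpecialLinearGroup (Fin 2) F) : Subgroup _) : Set (_root_.Matrix.SpecialLinearGroup (Fin 2) F)).ncard := rfl
  rw [h3, h1, Set.ncard_pair (neg_one_ne h2).symm]

theorem card_psl2 (h2 : (2 : F) ≠ 0) :
    2 * Nat.card (ProjectiveSpecialLinearGroup (Fin 2) F) = Fintype.card F * (Fintype.card F ^ 2 - 1) := by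
  have h1 := (center (_root_.Matrix.SpecialLinearGroup (Fin 2) F)).card_mul_index
  rw [card_center2 h2, card_sl2] at h1
  exact h1

theorem two_ne (h : Odd (Fintype.card F)) : (2 : F) ≠ 0 := by
  intro h2
  have h3 : ringChar F ∣ 2 := (ringChar.spec F 2).1 (by exact_mod_cast h2)
  have h4 : ringChar F = 2 := by
    rcases (Nat.dvd_prime Nat.prime_two).1 h3 with h5 | h5
    · have := CharP.char_ne_one F (ringChar F)
      exact absurd h5 this
    · exact h5
  rw [FiniteField.even_card_iff_char_two] at h4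
  rw [Nat.odd_iff] at h
  omega

/-- the indices of the proper subgroups of `SL₂(q)` -/
theorem min_sl2 (h5 : 5 ≤ Fintype.card F) (hodd : Odd (Fintype.card F)) {R : Subgroup (_root_.Matrix.SpecialLinearGroup (Fin 2) F)}
    (hR : R ≠ ⊤) : Fintype.card F + 1 ≤ 2 * R.index := by
  by_cases h12 : 12 ≤ Fintype.card F
  · have := idx_sl_two h12 hR
    omega
  have hc := card_psl2 (two_ne hodd)
  have key : ∀ B : ℕ, B.factorial < Nat.card (ProjectiveSpecialLinearGroup (Fin 2) F) → B < R.index :=
    fun B hB => idx_of_card (quasi_sl_two (by omega)) hB hR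
  have h6 : Fintype.card F = 5 ∨ Fintype.card F = 7 ∨ Fintype.card F = 9 ∨ Fintype.card F = 11 := by
    obtain ⟨k, hk⟩ := hodd
    omega
  rcases h6 with h6 | h6 | h6 | h6
  · rw [h6] at hc ⊢
    have := key 2 (by norm_num [Nat.factorial]; omega)
    omega
  · rw [h6] at hc ⊢
    have := key 3 (by norm_num [Nat.factorial]; omega)
    omega
  · rw [h6] at hc ⊢
    have := key 4 (by norm_num [Nat.factorial]; omega)
    omega
  · rw [h6] at hc ⊢
    have := key 5 (by norm_num [Nat.factorial]; omega)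
    omega

/-- the normal subgroups of `SL₂(q)` -/
theorem norm_sl2 (h5 : 5 ≤ Fintype.card F) (hodd : Odd (Fintype.card F)) (N : Subgroup (_root_.Matrix.SpecialLinearGroup (Fin 2) F))
    (hN : N.Normal) (hne : N ≠ ⊤) : Fintype.card F * (Fintype.card F ^ 2 - 1) ≤ 2 * N.index := by
  rcases SignalizersComponents.Components.quasisimple_normal (quasi_sl_two (F := F) (by omega)) N hN with h | h
  · exact absurd h hne
  · have h1 : (center (_root_.Matrix.SpecialLinearGroup (Fin 2) F)).index ≤ N.index :=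
      Nat.le_of_dvd (Nat.pos_of_ne_zero Subgroup.index_ne_zero_of_finite) (Subgroup.index_dvd_of_le h)
    have h2 := card_psl2 (two_ne hodd)
    have h3 : (center (_root_.Matrix.SpecialLinearGroup (Fin 2) F)).index = Nat.card (ProjectiveSpecialLinearGroup (Fin 2) F) := rfl
    omega

theorem min_psl2 (h12 : 12 ≤ Fintype.card F) (R : Subgroup (ProjectiveSpecialLinearGroup (Fin 2) F)) (hR : R ≠ ⊤) :
    Fintype.card F + 1 ≤ R.index :=
  (Cfsg.Agent.S0806.result (F := F) rfl (by
    simp only [Finset.mem_insert, Finset.mem_singleton]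
    omega)).1 R hR

/-! ### subgroups of odd order -/

/-- the upper root group -/
def uH (F : Type*) [Field F] : Multiplicative F →* _root_.Matrix.SpecialLinearGroup (Fin 2) F where
  toFun a := u a.toAdd
  map_one' := u_zero
  map_mul' _ _ := u_add _ _

/-- the lower root group -/
def lH (F : Type*) [Field F] : Multiplicative F →* _root_.Matrix.SpecialLinearGroup (Fin 2) F where
  toFun a := l a.toAdd
  map_one' := l_zero
  map_mul' _ _ := l_add _ _

theorem u_inj {a b : F} (h : (u a : _root_.Matrix.SpecialLinearGroup (Fin 2) F) = u b) : a = b := by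
  have h1 := congrArg (fun m : _root_.Matrix.SpecialLinearGroup (Fin 2) F => m.1 0 1) h
  simpa [coe_u] using h1

theorem l_inj {a b : F} (h : (l a : _root_.Matrix.SpecialLinearGroup (Fin 2) F) = l b) : a = b := by
  have h1 := congrArg (fun m : _root_.Matrix.SpecialLinearGroup (Fin 2) F => m.1 1 0) h
  simpa [coe_l] using h1

theorem card_uH : Nat.card (uH F).range = Fintype.card F := by
  rw [← Nat.card_congr (MonoidHom.ofInjective (f := uH F) (fun a b h => Multiplicative.toAdd.injective (u_inj h))).toEquiv]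
  exact (Nat.card_congr Multiplicative.toAdd).trans Nat.card_eq_fintype_card

theorem card_lH : Nat.card (lH F).range = Fintype.card F := by
  rw [← Nat.card_congr (MonoidHom.ofInjective (f := lH F) (fun a b h => Multiplicative.toAdd.injective (l_inj h))).toEquiv]
  exact (Nat.card_congr Multiplicative.toAdd).trans Nat.card_eq_fintype_card

/-- the torus -/
def lam : Fˣ →* _root_.Matrix.SpecialLinearGroup (Fin 2) F where
  toFun t := ⟨!![(t : F), 0; 0, ((t⁻¹ : Fˣ) : F)], by simp⟩
  map_one' := by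
    apply ext_coe
    simp [Matrix.one_fin_two]
  map_mul' a b := by
    apply ext_coe
    show !![((a * b : Fˣ) : F), 0; 0, (((a * b)⁻¹ : Fˣ) : F)] =
      !![(a : F), 0; 0, ((a⁻¹ : Fˣ) : F)] * !![(b : F), 0; 0, ((b⁻¹ : Fˣ) : F)]
    simp only [mul_comm, _root_.Units.val_mul, _root_.mul_inv_rev, _root_.Units.val_inv_eq_inv_val, _root_.Matrix.cons_mul, _root_.Nat.succ_eq_add_one, _root_.Nat.reduceAdd, _root_.Matrix.vecMul_cons, _root_.Matrix.head_cons, _root_.Matrix.smul_cons, _root_.smul_eq_mul, _root_.MulZeroClass.mul_zero, _root_.Matrix.smul_empty, _root_.Matrix.tail_cons, _root_.zero_smul, _root_.Matrix.empty_vecMul, _root_.add_zero, _root_.zero_add, _root_.Matrix.empty_mul, _root_.Equiv.symm_apply_apply]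

theorem coe_lam (t : Fˣ) : ((lam t : _root_.Matrix.SpecialLinearGroup (Fin 2) F) : Matrix (Fin 2) (Fin 2) F) =
    !![(t : F), 0; 0, ((t⁻¹ : Fˣ) : F)] := rfl

theorem lam_u (t : Fˣ) (a : F) : lam t * u a * (lam t)⁻¹ = u ((t : F) * t * a) := by
  rw [mul_inv_eq_iff_eq_mul]
  apply ext_coe
  rw [mulc, mulc, coe_u, coe_u, coe_lam]
  simp [mul_assoc, mul_comm]

theorem lam_l (t : Fˣ) (a : F) : lam t * l a * (lam t)⁻¹ = l (((t⁻¹ : Fˣ) : F) * ((t⁻¹ : Fˣ) : F) * a) := by
  rw [mul_inv_eq_iff_eq_mul]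
  apply ext_coe
  rw [mulc, mulc, coe_l, coe_l, coe_lam]
  have ht : (t : F) ≠ 0 := t.ne_zero
  simp only [Matrix.mul_fin_two, Units.val_inv_eq_inv_val]
  ext i j
  (revert i j; simp only [_root_.Fin.forall_fin_succ, _root_.mul_one, _root_.MulZeroClass.zero_mul, _root_.add_zero, _root_.MulZeroClass.mul_zero, _root_.zero_add, _root_.Matrix.of_apply, _root_.Matrix.cons_val', _root_.Matrix.cons_val_fin_one, _root_.one_mul, Fin.isValue, _root_.Matrix.cons_val_zero, _root_.Matrix.cons_val_succ, _root_.implies_true, _root_.forall_const, _root_.and_true, _root_.true_and]) <;> (repeat' with_reducible apply And.intro)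
  field_simp

theorem torus (h8 : 8 ∣ Fintype.card F - 1) (Y : Subgroup Fˣ) (hY : (-1 : Fˣ) ∉ Y) : 8 ≤ Y.index := by
  have hodd : ¬ 2 ∣ Nat.card Y := by
    intro h
    have : Fact (Nat.Prime 2) := ⟨Nat.prime_two⟩
    obtain ⟨y, hy⟩ := exists_prime_orderOf_dvd_card' 2 h
    have h1 : (y : Fˣ) ^ 2 = 1 := by
      have := pow_orderOf_eq_one y
      rw [hy] at this
      exact congrArg Subtype.val this
    have h3 : ((y : Fˣ) : F) ^ 2 = 1 := by
      have := congrArg Units.val h1
      simpa only [_root_.sq_eq_one_iff, _root_.Units.val_eq_one, _root_.OneMemClass.coe_eq_one, _root_.Units.val_eq_neg_one, _root_.Units.val_pow_eq_pow_val, _root_.Units.val_one] using this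
    rcases sq_eq_one_iff_of_field h3 with h4 | h4
    · have h5 : y = 1 := Subtype.ext (Units.ext h4)
      rw [h5, orderOf_one] at hy
      omega
    · apply hY
      have h5 : (y : Fˣ) = -1 := Units.ext (by rw [h4]; simp)
      rw [← h5]
      exact y.2
  have h1 := Y.card_mul_index
  rw [Nat.card_units, Nat.card_eq_fintype_card (α := F)] at h1
  rw [← h1] at h8
  have h2 : Nat.Coprime 8 (Nat.card Y) := by
    have : (8 : ℕ) = 2 ^ 3 := by norm_num
    rw [this]
    exact Nat.Coprime.pow_left 3 ((Nat.Prime.coprime_iff_not_dvd Nat.prime_two).2 hodd)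
  exact Nat.le_of_dvd (Nat.pos_of_ne_zero Subgroup.index_ne_zero_of_finite) (h2.dvd_of_dvd_mul_left h8)

theorem odd_sl2 (h2 : (2 : F) ≠ 0) (hodd : Odd (Fintype.card F)) (h8 : 8 ∣ Fintype.card F - 1)
    (X : Subgroup (_root_.Matrix.SpecialLinearGroup (Fin 2) F)) (hX : (-1 : _root_.Matrix.SpecialLinearGroup (Fin 2) F) ∉ X) :
    Fintype.card F * 8 ≤ X.index := by
  have hZ2 : ∀ z ∈ ({-1} : Set (_root_.Matrix.SpecialLinearGroup (Fin 2) F)), z * z = 1 := by
    rintro z rfl
    rw [neg_mul_neg, one_mul]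
  have hZc : ∀ g : _root_.Matrix.SpecialLinearGroup (Fin 2) F, ∀ z ∈ ({-1} : Set (_root_.Matrix.SpecialLinearGroup (Fin 2) F)),
      g * z * g⁻¹ ∈ ({-1} : Set (_root_.Matrix.SpecialLinearGroup (Fin 2) F)) := by
    rintro g z rfl
    show g * -1 * g⁻¹ = -1
    rw [mul_neg, mul_one, neg_mul, mul_inv_cancel]
  have hZX : ∀ z ∈ ({-1} : Set (_root_.Matrix.SpecialLinearGroup (Fin 2) F)), z ∉ X := by
    rintro z rfl
    exact hX
  have hc : ∀ Y : Subgroup Fˣ, (∀ y ∈ Y, lam y ∉ ({-1} : Set (_root_.Matrix.SpecialLinearGroup (Fin 2) F))) → 8 ≤ Y.index := by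
    intro Y hY
    refine torus h8 Y fun h => hY _ h ?_
    show lam (-1) = -1
    apply ext_coe
    rw [coe_lam]
    ext i j
    (revert i j; simp only [_root_.Fin.forall_fin_succ, _root_.Units.val_neg, _root_.Units.val_one, _root_.inv_neg, _root_.inv_one, _root_.Matrix.of_apply, _root_.Matrix.cons_val', _root_.Matrix.cons_val_fin_one, _root_.Matrix.SpecialLinearGroup.coe_neg, _root_.Matrix.SpecialLinearGroup.coe_one, _root_.Matrix.neg_apply, Fin.isValue, _root_.Matrix.cons_val_zero, _root_.Matrix.cons_val_succ, _root_.IsEmpty.forall_iff, _root_.and_true, _root_.Matrix.one_apply_eq, Nat.reduceAdd, _root_.Fin.succ_zero_eq_one, _root_.ne_eq, _root_.zero_ne_one, _root_.not_false_eq_true, _root_.Matrix.one_apply_ne, _root_.neg_zero, _root_.and_self, _root_.Fin.succ_ne_zero, _root_.neg_inj, _root_.true_and])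
  by_cases h : ∀ a : F, u a ∈ X → a = 0
  · have h1 := Cfsg.Agent.H847.IF.abs_index lam (uH F).range X (by rw [card_uH]; exact hodd) (by
      rintro t _ ⟨a, rfl⟩
      exact ⟨Multiplicative.ofAdd ((t : F) * t * a.toAdd), (lam_u t a.toAdd).symm⟩) _ hZ2 hZc hZX 8 hc
    have h3 : X ⊓ (uH F).range = ⊥ := by
      rw [Subgroup.eq_bot_iff_forall]
      rintro _ ⟨hx, a, rfl⟩
      have h4 := h a.toAdd hx
      show u a.toAdd = 1
      rw [h4, u_zero]
    rw [h3, card_uH, Subgroup.card_bot, one_mul] at h1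
    exact h1
  · push Not at h
    obtain ⟨a, ha, ha0⟩ := h
    have h : ∀ c : F, l c ∈ X → c = 0 := by
      intro c hc
      by_contra hc0
      obtain ⟨A, hA, hA1⟩ := Cfsg.Agent.H989.Fx.exists_neg_one h2 ha0 hc0 ha hc
      apply hX
      have h5 : A = -1 := ext_coe (by rw [hA1]; simp)
      rwa [← h5]
    have h1 := Cfsg.Agent.H847.IF.abs_index lam (lH F).range X (by rw [card_lH]; exact hodd) (by
      rintro t _ ⟨a, rfl⟩
      exact ⟨Multiplicative.ofAdd (((t⁻¹ : Fˣ) : F) * ((t⁻¹ : Fˣ) : F) * a.toAdd), (lam_l t a.toAdd).symm⟩) _ hZ2 hZc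
      hZX 8 hc
    have h3 : X ⊓ (lH F).range = ⊥ := by
      rw [Subgroup.eq_bot_iff_forall]
      rintro _ ⟨hx, a, rfl⟩
      have h4 := h a.toAdd hx
      show l a.toAdd = 1
      rw [h4, l_zero]
    rw [h3, card_lH, Subgroup.card_bot, one_mul] at h1
    exact h1

/-- a subgroup of `L₂(r)`, `8 ∣ r - 1`, without involutions has index at least `4 r`. -/
theorem odd_psl2 (h2 : (2 : F) ≠ 0) (hodd : Odd (Fintype.card F)) (h8 : 8 ∣ Fintype.card F - 1)
    (Y : Subgroup (ProjectiveSpecialLinearGroup (Fin 2) F)) (hY : ∀ y ∈ Y, y * y = 1 → y = 1) :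
    4 * Fintype.card F ≤ Y.index := by
  have hYo : ¬ 2 ∣ Nat.card Y := by
    intro h
    have : Fact (Nat.Prime 2) := ⟨Nat.prime_two⟩
    obtain ⟨y, hy⟩ := exists_prime_orderOf_dvd_card' 2 h
    have h1 := pow_orderOf_eq_one y
    rw [hy, pow_two] at h1
    have h3 := hY y y.2 (congrArg Subtype.val h1)
    have h4 : y = 1 := Subtype.ext h3
    rw [h4, orderOf_one] at hy
    omega
  let π : _root_.Matrix.SpecialLinearGroup (Fin 2) F →* ProjectiveSpecialLinearGroup (Fin 2) F :=
    QuotientGroup.mk' (center (_root_.Matrix.SpecialLinearGroup (Fin 2) F))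
  have hπ : Function.Surjective π := QuotientGroup.mk'_surjective _
  have hker : ∀ x, π x = 1 ↔ x = 1 ∨ x = -1 := by
    intro x
    rw [← mem_center2]
    exact QuotientGroup.eq_one_iff x
  let g : Y.comap π →* Y := (π.subgroupComap Y)
  have hg : Function.Surjective g := by
    rintro ⟨y, hy⟩
    obtain ⟨x, rfl⟩ := hπ y
    exact ⟨⟨x, hy⟩, rfl⟩
  have hgk : ∀ x : Y.comap π, x ∈ g.ker ↔ ((x : _root_.Matrix.SpecialLinearGroup (Fin 2) F) = 1 ∨ (x : _root_.Matrix.SpecialLinearGroup (Fin 2) F) = -1) := by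
    intro x
    rw [MonoidHom.mem_ker, ← hker]
    constructor
    · intro h
      exact congrArg Subtype.val h
    · intro h
      exact Subtype.ext h
  have hkc : Nat.card g.ker = 2 := by
    have h1 : Nat.card g.ker = Nat.card (center (_root_.Matrix.SpecialLinearGroup (Fin 2) F)) := by
      refine Nat.card_congr
        { toFun := fun x => ⟨(x : Y.comap π), mem_center2.2 ((hgk x).1 x.2)⟩
          invFun := fun x => ⟨⟨x, ?_⟩, (hgk _).2 (mem_center2.1 x.2)⟩
          left_inv := fun x => rfl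
          right_inv := fun x => rfl }
      show π x ∈ Y
      rw [(hker x).2 (mem_center2.1 x.2)]
      exact one_mem _
    rw [h1, card_center2 h2]
  have hki : g.ker.index = Nat.card Y := by
    rw [Subgroup.index_ker, MonoidHom.range_eq_top.2 hg, Subgroup.card_top]
  obtain ⟨H, hH⟩ := Subgroup.exists_right_complement'_of_coprime (N := g.ker) (by
    rw [hkc, hki]
    exact (Nat.Prime.coprime_iff_not_dvd Nat.prime_two).2 hYo)
  have hHc : Nat.card H = Nat.card Y := by
    have h1 := hH.card_mul_card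
    have h3 := g.ker.card_mul_index
    rw [hkc] at h1 h3
    rw [hki] at h3
    (clear * - h1 h3; omega)
  have hXc : Nat.card (H.map (Y.comap π).subtype) = Nat.card Y := by
    rw [Subgroup.card_map_of_injective (Subgroup.subtype_injective _), hHc]
  have h1 := odd_sl2 h2 hodd h8 (H.map (Y.comap π).subtype) (by
    intro hmem
    apply hYo
    rw [← hXc]
    have h3 : orderOf (⟨-1, hmem⟩ : (H.map (Y.comap π).subtype : Subgroup (_root_.Matrix.SpecialLinearGroup (Fin 2) F))) = 2 := by
      rw [orderOf_eq_prime_iff]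
      refine ⟨Subtype.ext ?_, fun h => neg_one_ne h2 (congrArg Subtype.val h)⟩
      show (-1 : _root_.Matrix.SpecialLinearGroup (Fin 2) F) ^ 2 = 1
      rw [pow_two, neg_mul_neg, one_mul]
    have h4 := _root_.orderOf_dvd_natCard (⟨-1, hmem⟩ : (H.map (Y.comap π).subtype : Subgroup (_root_.Matrix.SpecialLinearGroup (Fin 2) F)))
    exact (dvd_of_eq h3.symm).trans h4)
  have h3 := (H.map (Y.comap π).subtype).card_mul_index
  have h4 := Y.card_mul_index
  rw [hXc, card_sl2, ← card_psl2 h2, ← h4] at h3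
  have h5 : (H.map (Y.comap π).subtype).index = 2 * Y.index := by
    have : 0 < Nat.card Y := Nat.card_pos
    apply Nat.eq_of_mul_eq_mul_left this
    rw [h3]
    ring
  omega

end Gen

end Cfsg.Agent.H215.IFM
end

private theorem dce_0fcd5993726e : _root_.True := by
  try have : _root_.True := by simp only [_root_.Matrix.ProjectiveSpecialLinearGroup.congr_simp]
  exact _root_.True.intro
end

-- part: H838/IF/RkOne
section
set_option linter.all false
open scoped Cfsg.Agent.FastGrp

/-!
# S5719: the rank one case (helper838)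

`rk_one` : if no two distinct involutions of `A` commute, then `O_p(A) ≠ 1` and `A` is its normaliser (`p` odd), under a
hypothesis on a set of `p`-elements generating a subgroup which contains `t`.
-/

set_option autoImplicit false
set_option linter.unusedSectionVars false

namespace Cfsg.Agent.H838.IF

open Subgroup Cfsg.Agent.H209.Fxy

/-- the largest normal `p`-subgroup -/
theorem exists_core {T : Type*} [Group T] [Finite T] (p : ℕ) [Fact p.Prime] (A : Subgroup T) :
    ∃ K : Subgroup T, K ≤ A ∧ IsPGroup p K ∧ (∀ a ∈ A, ∀ k ∈ K, a * k * a⁻¹ ∈ K) ∧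
      ∀ K' : Subgroup T, K' ≤ A → IsPGroup p K' → (∀ a ∈ A, ∀ k ∈ K', a * k * a⁻¹ ∈ K') → K' ≤ K := by
  classical
  let 𝒮 : Set (Subgroup T) := {K | K ≤ A ∧ IsPGroup p K ∧ ∀ a ∈ A, ∀ k ∈ K, a * k * a⁻¹ ∈ K}
  have hfin : 𝒮.Finite := Set.toFinite _
  have hne : 𝒮.Nonempty := ⟨⊥, bot_le, IsPGroup.of_bot, fun a _ k hk => by
    rw [mem_bot] at hk ⊢
    rw [hk, mul_one, mul_inv_cancel]⟩
  obtain ⟨K, hK, hmax⟩ := Set.exists_max_image 𝒮 (fun K => Nat.card K) hfin hne
  refine ⟨K, hK.1, hK.2.1, hK.2.2, fun K' h1 h2 h3 => ?_⟩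
  have hle : K' ≤ normalizer (K : Set T) := by
    intro x hx
    have hx' := h1 hx
    rw [mem_normalizer_iff]
    intro y
    constructor
    · exact hK.2.2 x hx' y
    · intro hy
      have h4 := hK.2.2 x⁻¹ (A.inv_mem hx') _ hy
      rwa [inv_inv, show x⁻¹ * (x * y * x⁻¹) * x = y by group] at h4
  have hsup : IsPGroup p (K ⊔ K' : Subgroup T) := IsPGroup.to_sup_of_normal_left' hK.2.1 h2 hle
  have hmem : K ⊔ K' ∈ 𝒮 := by
    refine ⟨sup_le hK.1 h1, hsup, ?_⟩
    intro a ha k hk
    have h5 : (K ⊔ K').map (MulAut.conj a).toMonoidHom ≤ K ⊔ K' := by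
      rw [Subgroup.map_sup]
      apply sup_le
      · rintro _ ⟨x, hx, rfl⟩
        exact (le_sup_left : K ≤ K ⊔ K') (hK.2.2 a ha x hx)
      · rintro _ ⟨x, hx, rfl⟩
        exact (le_sup_right : K' ≤ K ⊔ K') (h3 a ha x hx)
    exact h5 ⟨k, hk, rfl⟩
  have h6 := hmax _ hmem
  have h7 : K = K ⊔ K' := Subgroup.eq_of_le_of_card_ge le_sup_left h6
  rw [h7]
  exact le_sup_right

/-- **The rank one case.** -/
theorem rk_one {T : Type*} [Group T] [Finite T] [IsSimpleGroup T] {A : Subgroup T} {Γ : Subgroup (MulAut T)}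
    (h : IF A Γ) {p : ℕ} [Fact p.Prime] (hp : p ≠ 2) {t : T} (ht : t ∈ A) (ht2 : orderOf t = 2)
    (hno : ∀ s ∈ A, ∀ t ∈ A, orderOf s = 2 → orderOf t = 2 → s * t = t * s → s = t)
    (hex : ∃ s : T, s ≠ t ∧ orderOf s = 2 ∧ s * t = t * s) {S : Set T} (hSA : S ⊆ A)
    (hSp : ∀ u ∈ S, ∃ k, u ^ (p ^ k) = 1) (htS : t ∈ closure S)
    (hS : ∀ u ∈ S, ∀ a ∈ A, Odd (Nat.card (closure ({u, a * u * a⁻¹} : Set T))) →
      IsPGroup p (closure ({u, a * u * a⁻¹} : Set T))) :
    ∃ K : Subgroup T, K ≤ A ∧ K ≠ ⊥ ∧ IsPGroup p K ∧ (∀ a ∈ A, ∀ k ∈ K, a * k * a⁻¹ ∈ K) ∧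
      (∀ x : T, (∀ k ∈ K, x * k * x⁻¹ ∈ K) → x ∈ A) ∧
      ∀ K' : Subgroup T, K' ≤ A → IsPGroup p K' → (∀ a ∈ A, ∀ k ∈ K', a * k * a⁻¹ ∈ K') → K' ≤ K := by
  classical
  have hpodd : Odd p := (Fact.out : p.Prime).odd_of_ne_two hp
  obtain ⟨K, hKA, hKp, hKn, hKmax⟩ := exists_core p A
  -- `K` is invariant
  have hKinv : ∀ σ ∈ Γ, ∀ k ∈ K, σ k ∈ K := by
    intro σ hσ k hk
    have h1 : K.map σ.toMonoidHom ≤ K := by
      apply hKmax
      · rintro _ ⟨x, hx, rfl⟩
        exact (h.inv σ hσ x).2 (hKA hx)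
      · exact hKp.map _
      · rintro a ha _ ⟨x, hx, rfl⟩
        have h2 : σ⁻¹ a ∈ A := (h.inv _ (Γ.inv_mem hσ) a).2 ha
        refine ⟨σ⁻¹ a * x * (σ⁻¹ a)⁻¹, hKn _ h2 x hx, ?_⟩
        change σ (σ⁻¹ a * x * (σ⁻¹ a)⁻¹) = a * σ x * a⁻¹
        rw [map_mul, map_mul, map_inv, MulAut.apply_inv_self]
    exact h1 ⟨k, hk, rfl⟩
  by_cases hK1 : K = ⊥
  · exfalso
    -- Z*
    have ht2' : t * t = 1 := by rw [← pow_two, ← ht2, pow_orderOf_eq_one]
    let tA : A := ⟨t, ht⟩
    have htA2 : orderOf tA = 2 := by rw [← Subgroup.orderOf_coe]; exact ht2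
    have hz : IsPGroup 2 (zpowers tA) := by
      apply IsPGroup.of_card (n := 1)
      rw [Nat.card_zpowers, htA2, pow_one]
    obtain ⟨P, hP⟩ := hz.exists_le_sylow
    have htP : tA ∈ (P : Subgroup A) := hP (mem_zpowers tA)
    have hPnt : Nontrivial (P : Subgroup A) := ⟨⟨⟨tA, htP⟩, 1, fun h1 => by
      have h2 : tA = 1 := congrArg Subtype.val h1
      rw [h2, orderOf_one] at htA2
      omega⟩⟩
    have hcn : Nontrivial (center (P : Subgroup A)) := P.isPGroup'.center_nontrivial
    have huniq : ∀ s : A, s ∈ (P : Subgroup A) → orderOf s = 2 → s = tA := by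
      have hc2 : 2 ∣ Nat.card (center (P : Subgroup A)) := by
        have h3 : IsPGroup 2 (center (P : Subgroup A)) := P.isPGroup'.to_subgroup _
        obtain ⟨n, hn⟩ := IsPGroup.iff_card.1 h3
        have h4 : 1 < Nat.card (center (P : Subgroup A)) := Finite.one_lt_card
        rcases Nat.eq_zero_or_pos n with rfl | h5
        · rw [hn, pow_zero] at h4; omega
        · rw [hn]; exact dvd_pow_self 2 h5.ne'
      obtain ⟨z, hz2⟩ := exists_prime_orderOf_dvd_card' 2 hc2
      have hz3 : orderOf (z.1.1 : A) = 2 := by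
        rw [Subgroup.orderOf_coe, Subgroup.orderOf_coe]; exact hz2
      have key : ∀ s : A, s ∈ (P : Subgroup A) → orderOf s = 2 → s = z.1.1 := by
        intro s hs hs2
        have hcomm : s * z.1.1 = z.1.1 * s := by
          have h6 := mem_center_iff.1 z.2 ⟨s, hs⟩
          exact congrArg Subtype.val h6
        have h7 := hno s s.2 z.1.1 (z.1.1).2 (by rw [Subgroup.orderOf_coe]; exact hs2)
          (by rw [Subgroup.orderOf_coe]; exact hz3) (congrArg Subtype.val hcomm)
        exact Subtype.ext h7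
      intro s hs hs2
      rw [key s hs hs2, key tA htP htA2]
    obtain ⟨N, hN, hNodd, hNc⟩ := Cfsg.Agent.S0215.result P tA htA2 htP (fun g hg => by
      apply huniq _ hg
      have h1 : g * tA * g⁻¹ = MulAut.conj g tA := rfl
      rw [h1, MulEquiv.orderOf_eq]
      exact htA2)
    -- the elements of `S` centralise `N`
    obtain ⟨K0, hK0N, hK0p, hK0n, hK0max⟩ := exists_core p N
    have hK0 : K0 = ⊥ := by
      have h1 : K0.map A.subtype ≤ K := by
        apply hKmax
        · rintro _ ⟨x, -, rfl⟩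
          exact x.2
        · exact hK0p.map _
        · rintro a ha _ ⟨x, hx, rfl⟩
          have h2 : K0.map (MulAut.conj (⟨a, ha⟩ : A)).toMonoidHom ≤ K0 := by
            apply hK0max
            · rintro _ ⟨y, hy, rfl⟩
              exact hN.conj_mem y (hK0N hy) _
            · exact hK0p.map _
            · rintro n hn _ ⟨y, hy, rfl⟩
              have h3 : (⟨a, ha⟩ : A)⁻¹ * n * (⟨a, ha⟩ : A) ∈ N := by
                have := hN.conj_mem n hn (⟨a, ha⟩ : A)⁻¹
                rwa [inv_inv] at this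
              refine ⟨(((⟨a, ha⟩ : A)⁻¹ * n * ⟨a, ha⟩) * y * ((⟨a, ha⟩ : A)⁻¹ * n * ⟨a, ha⟩)⁻¹ :), hK0n _ h3 y hy, ?_⟩
              change (⟨a, ha⟩ : A) * (((⟨a, ha⟩ : A)⁻¹ * n * ⟨a, ha⟩) * y * ((⟨a, ha⟩ : A)⁻¹ * n * ⟨a, ha⟩)⁻¹) *
                (⟨a, ha⟩ : A)⁻¹ = n * ((⟨a, ha⟩ : A) * y * (⟨a, ha⟩ : A)⁻¹) * n⁻¹
              group
          refine ⟨(⟨a, ha⟩ * x * (⟨a, ha⟩ : A)⁻¹ :), h2 ⟨x, hx, rfl⟩, rfl⟩
      rw [hK1, le_bot_iff] at h1
      exact (Subgroup.map_eq_bot_iff_of_injective _ A.subtype_injective).1 h1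
    have hcent : ∀ u (hu : u ∈ S), ∀ n ∈ N, (⟨u, hSA hu⟩ : A) * n = n * ⟨u, hSA hu⟩ := by
      intro u hu n hn
      set uA : A := ⟨u, hSA hu⟩ with huA
      obtain ⟨k, hk⟩ := hSp u hu
      have hX : IsPGroup p (zpowers uA) := by
        rw [IsPGroup.iff_card]
        rw [Nat.card_zpowers]
        have h1 : orderOf uA ∣ p ^ k := by
          rw [orderOf_dvd_iff_pow_eq_one]
          exact Subtype.ext hk
        obtain ⟨m, -, hm⟩ := (Nat.dvd_prime_pow Fact.out).1 h1
        exact ⟨m, hm⟩
      let G : Subgroup A := N ⊔ zpowers uA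
      have hmemG : ∀ g ∈ G, ∃ n ∈ N, ∃ v ∈ zpowers uA, g = n * v := by
        intro g hg
        obtain ⟨n, hn, v, hv, h1⟩ := Subgroup.mem_sup_of_normal_left.1 hg
        exact ⟨n, hn, v, hv, h1.symm⟩
      have hcardG : Odd (Nat.card G) := by
        have h1 : Nat.card G ∣ Nat.card N * Nat.card (zpowers uA) := by
          have h2 := Subgroup.relIndex_mul_relIndex ⊥ N G bot_le le_sup_left
          rw [Subgroup.relIndex_bot_left, Subgroup.relIndex_bot_left] at h2
          have h3 : N.relIndex G = N.relIndex (zpowers uA) := by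
            change N.relIndex (N ⊔ zpowers uA) = _
            rw [sup_comm, Subgroup.relIndex_sup_right]
          rw [← h2, h3]
          exact mul_dvd_mul_left _ (Subgroup.relIndex_dvd_card N (zpowers uA))
        have h3 : Odd (Nat.card (zpowers uA)) := by
          obtain ⟨m, hm⟩ := IsPGroup.iff_card.1 hX
          rw [hm]
          exact hpodd.pow
        exact Odd.of_dvd_nat (hNodd.mul h3) h1
      -- `⟨u, u^n⟩` is a `p`-group
      have hpair : ∀ n ∈ N, IsPGroup p (closure ({(uA : T), n * uA * (n : T)⁻¹} : Set T)) := by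
        intro n hn
        apply hS u hu n n.2
        have h1 : closure ({u, (n : T) * u * (n : T)⁻¹} : Set T) ≤ G.map A.subtype := by
          rw [closure_le]
          rintro x (rfl | rfl)
          · exact ⟨uA, (le_sup_right : zpowers uA ≤ G) (mem_zpowers uA), rfl⟩
          · refine ⟨n * uA * n⁻¹, ?_, rfl⟩
            have h2 : n ∈ G := (le_sup_left : N ≤ G) hn
            exact G.mul_mem (G.mul_mem h2 ((le_sup_right : zpowers uA ≤ G) (mem_zpowers uA))) (G.inv_mem h2)
        have h3 : Nat.card (G.map A.subtype) = Nat.card G := Nat.card_congr (G.equivMapOfInjective _ A.subtype_injective).symm.toEquiv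
        have h4 := Subgroup.card_dvd_of_le h1
        rw [h3] at h4
        exact Odd.of_dvd_nat hcardG h4
      let uG : G := ⟨uA, (le_sup_right : zpowers uA ≤ G) (mem_zpowers uA)⟩
      have hXG : IsPGroup p (zpowers uG) := by
        rw [IsPGroup.iff_card, Nat.card_zpowers]
        obtain ⟨m, hm⟩ := IsPGroup.iff_card.1 hX
        rw [Nat.card_zpowers] at hm
        refine ⟨m, ?_⟩
        rw [← hm, ← Subgroup.orderOf_coe]
      obtain ⟨M, hM, hMp, hMu⟩ := Cfsg.Agent.S0199.result (zpowers uG) hXG (by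
        intro g
        obtain ⟨n, hn, v, hv, hg⟩ := hmemG g g.2
        have hcl : IsPGroup p (closure ({uG, g * uG * g⁻¹} : Set G)) := by
          have hgu : ((g * uG * g⁻¹ : G) : A) = n * uA * n⁻¹ := by
            change (g : A) * uA * (g : A)⁻¹ = n * uA * n⁻¹
            obtain ⟨i, hi⟩ := mem_zpowers_iff.1 hv
            rw [hg, ← hi, mul_inv_rev]
            have h5 : uA ^ i * uA * (uA ^ i)⁻¹ = uA := by group
            calc n * uA ^ i * uA * ((uA ^ i)⁻¹ * n⁻¹) = n * (uA ^ i * uA * (uA ^ i)⁻¹) * n⁻¹ := by group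
              _ = n * uA * n⁻¹ := by rw [h5]
          have h6 := hpair n hn
          have hinj : Function.Injective (A.subtype.comp G.subtype) := A.subtype_injective.comp G.subtype_injective
          have h7 : (closure ({uG, g * uG * g⁻¹} : Set G)).map (A.subtype.comp G.subtype) =
              closure ({(uA : T), n * uA * (n : T)⁻¹} : Set T) := by
            rw [MonoidHom.map_closure, Set.image_pair]
            congr 2
            have h8 : (A.subtype.comp G.subtype) (g * uG * g⁻¹) = (((g * uG * g⁻¹ : G) : A) : T) := rfl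
            rw [h8, hgu]
            rfl
          rw [← h7] at h6
          have e := (closure ({uG, g * uG * g⁻¹} : Set G)).equivMapOfInjective _ hinj
          exact h6.of_equiv e.symm
        refine hcl.to_le ?_
        apply sup_le
        · rw [zpowers_le]
          exact subset_closure (by simp)
        · rw [Subgroup.map_le_iff_le_comap, zpowers_le]
          exact subset_closure (by simp))
      -- commutators
      have hinter : (M ⊓ N.subgroupOf G).map G.subtype = ⊥ := by
        rw [← le_bot_iff, ← hK0]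
        apply hK0max
        · rintro _ ⟨x, hx, rfl⟩
          exact hx.2
        · exact (hMp.to_le inf_le_left).map _
        · rintro m hm _ ⟨x, hx, rfl⟩
          refine ⟨(⟨m, (le_sup_left : N ≤ G) hm⟩ * x * (⟨m, (le_sup_left : N ≤ G) hm⟩ : G)⁻¹ :), ⟨?_, ?_⟩, rfl⟩
          · exact hM.conj_mem x hx.1 _
          · have h9 : (x : A) ∈ N := hx.2
            change m * (x : A) * m⁻¹ ∈ N
            exact hN.conj_mem _ h9 m
      let nG : G := ⟨n, (le_sup_left : N ≤ G) hn⟩
      have hc1 : uG * nG * uG⁻¹ * nG⁻¹ ∈ M ⊓ N.subgroupOf G := by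
        constructor
        · have h1 : uG ∈ M := hMu (mem_zpowers uG)
          have h2 : nG * uG⁻¹ * nG⁻¹ ∈ M := hM.conj_mem _ (M.inv_mem h1) nG
          have h3 := M.mul_mem h1 h2
          rwa [← mul_assoc, ← mul_assoc] at h3
        · have h1 : uA * n * uA⁻¹ ∈ N := hN.conj_mem n hn uA
          exact N.mul_mem h1 (N.inv_mem hn)
      have hc2 : uA * n * uA⁻¹ * n⁻¹ = 1 := by
        have h1 : G.subtype (uG * nG * uG⁻¹ * nG⁻¹) ∈ (M ⊓ N.subgroupOf G).map G.subtype := ⟨_, hc1, rfl⟩
        rw [hinter, mem_bot] at h1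
        exact h1
      have h10 := mul_inv_eq_one.1 hc2
      exact mul_inv_eq_iff_eq_mul.1 h10
    -- `t` centralises `N`
    have htc : ∀ n ∈ N, tA * n = n * tA := by
      intro n hn
      have h1 : closure S ≤ centralizer ({(n : T)} : Set T) := by
        rw [closure_le]
        intro u hu
        rw [SetLike.mem_coe, mem_centralizer_iff]
        rintro _ rfl
        exact (congrArg Subtype.val (hcent u hu n hn)).symm
      have h2 := mem_centralizer_iff.1 (h1 htS) n rfl
      exact Subtype.ext h2.symm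
    have htcent : ∀ a : A, tA * a = a * tA := by
      intro a
      have h1 := hNc a
      set m := tA * a * tA⁻¹ * a⁻¹ with hm
      have htt : tA * tA = 1 := Subtype.ext ht2'
      have htinv : tA⁻¹ = tA := inv_eq_of_mul_eq_one_left htt
      have h2 : a * tA * a⁻¹ = tA * m := by
        rw [hm, htinv]
        rw [show tA * (tA * a * tA * a⁻¹) = (tA * tA) * (a * tA * a⁻¹) by group, htt, one_mul]
      have h3 : (a * tA * a⁻¹) * (a * tA * a⁻¹) = 1 := by
        rw [show (a * tA * a⁻¹) * (a * tA * a⁻¹) = a * (tA * tA) * a⁻¹ by group, htt, mul_one, mul_inv_cancel]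
      rw [h2] at h3
      have h4 : m * m = 1 := by
        have h5 : tA * m * (tA * m) = (tA * tA) * (m * m) := by
          rw [show tA * m * (tA * m) = tA * (m * tA) * m by group, ← htc m h1]
          group
        rw [h5, htt, one_mul] at h3
        exact h3
      have h6 : orderOf m ∣ 2 := orderOf_dvd_of_pow_eq_one (by rw [pow_two]; exact h4)
      have h7 : orderOf m ∣ Nat.card N := by
        have := orderOf_dvd_natCard (⟨m, h1⟩ : N)
        rwa [← Subgroup.orderOf_coe] at this
      have h8 : orderOf m = 1 := by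
        rcases (Nat.dvd_prime Nat.prime_two).1 h6 with h9 | h9
        · exact h9
        · exfalso
          rw [h9] at h7
          exact (Nat.not_even_iff_odd.2 hNodd) (even_iff_two_dvd.2 h7)
      rw [orderOf_eq_one_iff] at h8
      rw [h8, mul_one] at h2
      exact (mul_inv_eq_iff_eq_mul.1 h2).symm
    obtain ⟨s, hst, hs2, hsc⟩ := hex
    have hsA : s ∈ A := by
      apply Cfsg.Agent.H680.Fxy.IF.norm h (K := zpowers t) ?_ ?_ ?_ (x := s) ?_
      · rw [zpowers_le]; exact ht
      · intro σ hσ k hk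
        have h1 : σ t = t := by
          have h2 : σ t ∈ A := (h.inv σ hσ t).2 ht
          have h3 : orderOf (σ t) = 2 := by rw [MulEquiv.orderOf_eq]; exact ht2
          exact hno _ h2 _ ht h3 ht2 (congrArg Subtype.val (htcent ⟨σ t, h2⟩)).symm
        obtain ⟨i, rfl⟩ := mem_zpowers_iff.1 hk
        rw [map_zpow, h1]
        exact zpow_mem (mem_zpowers t) i
      · intro h1
        rw [zpowers_eq_bot] at h1
        rw [h1, orderOf_one] at ht2
        omega
      · intro k hk
        obtain ⟨i, rfl⟩ := mem_zpowers_iff.1 hk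
        have h1 : s * t * s⁻¹ = t := by rw [hsc, mul_inv_cancel_right]
        rw [← conj_zpow, h1]
        exact zpow_mem (mem_zpowers t) i
    exact hst (hno s hsA t ht hs2 ht2 hsc)
  · exact ⟨K, hKA, hK1, hKp, hKn, fun x hx => Cfsg.Agent.H680.Fxy.IF.norm h hKA hKinv hK1 hx, hKmax⟩

end Cfsg.Agent.H838.IF
end

-- part: H771/IFx/Idx
section
prune_inst 0x4f15075447d00120000180594310020257c00059000208c0184610f460b09c34a094201410e801509586ca28008050028130000d0424000000e2004000005052180a80600b05c0c8ca6000f800084400000000000000000000000000000000004200000000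
set_option linter.all false
open scoped Cfsg.Agent.FastGrp

/-!
# S5719 (helper771): subgroups of `SL₂(q)` of index `k` with `k⁵ < q²(q² + q + 1)`
-/

set_option autoImplicit false

namespace Cfsg.Agent.H771.IFx

open Matrix Subgroup

/-- a simple group acts faithfully on the cosets of a proper subgroup -/
theorem card_dvd_factorial {S : Type*} [Group S] [Finite S] [IsSimpleGroup S] {H : Subgroup S} (hH : H ≠ ⊤) :
    Nat.card S ∣ H.index.factorial := by
  classical
  have hc : H.normalCore = ⊥ := by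
    rcases (inferInstance : H.normalCore.Normal).eq_bot_or_eq_top with h | h
    · exact h
    · exfalso
      apply hH
      rw [eq_top_iff, ← h]
      exact H.normalCore_le
  have hinj : Function.Injective (MulAction.toPermHom S (S ⧸ H)) := by
    rw [← MonoidHom.ker_eq_bot_iff, ← Subgroup.normalCore_eq_ker, hc]
  have hf : Fintype (S ⧸ H) := Fintype.ofFinite _
  have h1 := Subgroup.card_dvd_of_injective _ hinj
  rwa [Nat.card_perm] at h1

variable {F : Type*} [Field F] [Fintype F]

theorem two_ne_of_odd (h : Odd (Fintype.card F)) : (2 : F) ≠ 0 := by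
  intro h2
  have h3 : ringChar F = 2 := by
    have h4 : ringChar F ∣ 2 := ringChar.dvd (by exact_mod_cast h2)
    rcases (Nat.dvd_prime Nat.prime_two).1 h4 with h5 | h5
    · exact absurd h5 (CharP.ringChar_ne_one)
    · exact h5
  have := (FiniteField.even_card_iff_char_two (F := F)).1 h3
  rw [Nat.odd_iff] at h
  omega

theorem idx_top (ho : Odd (Fintype.card F)) (h5 : 5 ≤ Fintype.card F) (K : Subgroup (_root_.Matrix.SpecialLinearGroup (Fin 2) F))
    (h : K.index ^ 5 < (Fintype.card F ^ 2 + Fintype.card F + 1) * Fintype.card F ^ 2) : K = ⊤ := by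
  classical
  have h2 := two_ne_of_odd ho
  set q := Fintype.card F with hq
  let π : _root_.Matrix.SpecialLinearGroup (Fin 2) F →* ProjectiveSpecialLinearGroup (Fin 2) F :=
    QuotientGroup.mk' (Subgroup.center (_root_.Matrix.SpecialLinearGroup (Fin 2) F))
  have hπ : Function.Surjective π := QuotientGroup.mk'_surjective _
  have hidx : (K.map π).index ≤ K.index := Nat.le_of_dvd (Nat.pos_of_ne_zero K.index_ne_zero_of_finite)
    (Subgroup.index_map_dvd K hπ)
  by_cases htop : K.map π = ⊤
  · -- index at most two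
    have hcen : ∀ z : _root_.Matrix.SpecialLinearGroup (Fin 2) F, π z = 1 → z = 1 ∨ z = -1 := by
      intro z hz
      have h3 : z ∈ Subgroup.center (_root_.Matrix.SpecialLinearGroup (Fin 2) F) := (QuotientGroup.eq_one_iff z).1 hz
      obtain ⟨r, hr, hrz⟩ := Matrix.SpecialLinearGroup.mem_center_iff.1 h3
      rw [Fintype.card_fin] at hr
      have hr' : (r - 1) * (r + 1) = 0 := by linear_combination hr
      rcases mul_eq_zero.1 hr' with h4 | h4
      · left
        have h5 : r = 1 := by linear_combination h4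
        apply Subtype.ext
        rw [← hrz, h5, map_one]
        rfl
      · right
        have h5 : r = -1 := by linear_combination h4
        apply Subtype.ext
        rw [← hrz, h5, map_neg, map_one]
        rfl
    have hle : K.index ≤ 2 := by
      let ψ : Bool → _root_.Matrix.SpecialLinearGroup (Fin 2) F ⧸ K := fun b => QuotientGroup.mk (if b then 1 else -1)
      have hψ : Function.Surjective ψ := by
        intro c
        induction c using QuotientGroup.induction_on with
        | H g =>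
          obtain ⟨k, hk, hkg⟩ : π g ∈ K.map π := by rw [htop]; exact mem_top _
          have h3 : π (g * k⁻¹) = 1 := by rw [map_mul, map_inv, hkg, mul_inv_cancel]
          rcases hcen _ h3 with h4 | h4
          · refine ⟨true, ?_⟩
            show QuotientGroup.mk (1 : _root_.Matrix.SpecialLinearGroup (Fin 2) F) = _
            rw [QuotientGroup.eq, inv_one, one_mul, mul_inv_eq_one.1 h4]
            exact hk
          · refine ⟨false, ?_⟩
            show QuotientGroup.mk (-1 : _root_.Matrix.SpecialLinearGroup (Fin 2) F) = _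
            have h5 : g = -1 * k := by rw [← h4, inv_mul_cancel_right]
            rw [QuotientGroup.eq, h5, inv_mul_cancel_left]
            exact hk
      have h3 := Nat.card_le_card_of_surjective ψ hψ
      rw [Nat.card_eq_fintype_card (α := Bool), Fintype.card_bool] at h3
      exact h3
    have h3 := Cfsg.Agent.GH.Cov.SLTwoFacts.sl_index_ne_two h2 K
    have h4 : K.index ≠ 0 := K.index_ne_zero_of_finite
    have h6 : K.index = 1 := by omega
    exact Subgroup.index_eq_one.1 h6
  · exfalso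
    have hs : IsSimpleGroup (ProjectiveSpecialLinearGroup (Fin 2) F) :=
      Matrix.ProjectiveSpecialLinearGroup.rank_two_simple (by rw [Nat.card_eq_fintype_card]; omega)
    have hfin : Finite (ProjectiveSpecialLinearGroup (Fin 2) F) := Quotient.finite _
    have hcard := Cfsg.Agent.H394.SqPsl2.card_psl (F := F)
    have hd := card_dvd_factorial htop
    have hk : (K.map π).index ^ 5 < (q ^ 2 + q + 1) * q ^ 2 := lt_of_le_of_lt (Nat.pow_le_pow_left hidx 5) h
    by_cases hmem : q ∈ ({2, 3, 5, 7, 9, 11} : Finset ℕ)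
    · simp only [Finset.mem_insert, Finset.mem_singleton] at hmem
      rw [← hq] at hcard
      generalize (K.map π).index = k at hk hd
      generalize Nat.card (ProjectiveSpecialLinearGroup (Fin 2) F) = N at hcard hd
      clear_value q
      rcases hmem with rfl | rfl | rfl | rfl | rfl | rfl
      · omega
      · omega
      · have hk3 : k < 4 := by
          by_contra hcon
          push Not at hcon
          have := Nat.pow_le_pow_left hcon 5
          omega
        have hN : N = 60 := by norm_num at hcard; omega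
        rw [hN] at hd
        interval_cases k <;> revert hd <;> decide
      · have hk3 : k < 5 := by
          by_contra hcon
          push Not at hcon
          have := Nat.pow_le_pow_left hcon 5
          omega
        have hN : N = 168 := by norm_num at hcard; omega
        rw [hN] at hd
        interval_cases k <;> revert hd <;> decide
      · have hk3 : k < 6 := by
          by_contra hcon
          push Not at hcon
          have := Nat.pow_le_pow_left hcon 5
          omega
        have hN : N = 360 := by norm_num at hcard; omega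
        rw [hN] at hd
        interval_cases k <;> revert hd <;> decide
      · have hk3 : k < 7 := by
          by_contra hcon
          push Not at hcon
          have := Nat.pow_le_pow_left hcon 5
          omega
        have hN : N = 660 := by norm_num at hcard; omega
        rw [hN] at hd
        interval_cases k <;> revert hd <;> decide
    · have h3 := (Cfsg.Agent.S0806.result hq.symm hmem).1 _ htop
      have h4 : (q + 1) ^ 5 ≤ (K.map π).index ^ 5 := Nat.pow_le_pow_left h3 5
      have h6 : (q ^ 2 + q + 1) * q ^ 2 < (q + 1) ^ 5 := by nlinarith only [pow_pos (show 0 < q by omega) 3]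
      omega

end Cfsg.Agent.H771.IFx
end

-- part: H895/IF/CoDat
section
prune_inst 0x4c1605440092212000018059651003c67ce000590002b8c00d5210f460686df2b09032f61fc801f09593aaa64003d8028021000d94050000024208600411901a084aa76c23340b18ca7000fc0f887580c00000000000000000000000000041004000000000
set_option linter.all false
open scoped Cfsg.Agent.FastGrp

-- part: H895/IF/Tool
section
/-!
# S5719: kernel certificates for the rows of groups given by permutation tables (helper895)

`Tab ψ w x P` : the permutation `ψ x` has the table `P` (`w` bits per entry).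
* `tab_ev` : words; `tab_mul`, `tab_eq` : products and equality;
* `cj`, `cu` : conjugates `u s u⁻¹`, the code of `u` is a list of base 16 digits;
* `orb_le` : a lower bound for the number of conjugates under a group `D` from the images of a few points;
* `grp_cov` : a subgroup given by the tables of its elements.
-/

set_option autoImplicit false
set_option linter.unusedSectionVars false

namespace Cfsg.Agent.H895.IFT

open Equiv Subgroup Cfsg.Agent.H123.Cls Cfsg.Agent.Lib.BitNet
open Cfsg.Agent.Lib.BitNetSimple (force force_eq)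

section tab

variable {T : Type*} [Group T] {n : ℕ} {ψ : T →* Perm (Fin n)} {w : ℕ}

/-- the table of `x` -/
def Tab (ψ : T →* Perm (Fin n)) (w : ℕ) (x : T) (P : ℕ) : Prop := ∀ p : Fin n, (ψ x p : ℕ) = lk w P p

theorem tab_eq (hψ : Function.Injective ψ) {x y : T} {P : ℕ} (hx : Tab ψ w x P) (hy : Tab ψ w y P) : x = y := by
  apply hψ
  ext p
  rw [hx, hy]

/-- `R` is the composite of `P` and `Q` -/
noncomputable def cmp (n w P Q R : ℕ) : Bool := allN (fun p => Nat.beq (lk w R p) (force (lk w Q p) fun q => lk w P q)) n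

theorem tab_mul {x y : T} {P Q R : ℕ} (hx : Tab ψ w x P) (hy : Tab ψ w y Q) (h : cmp n w P Q R = true) :
    Tab ψ w (x * y) R := by
  intro p
  have h1 := Nat.eq_of_beq_eq_true ((allN_iff _ _).1 h p p.2)
  rw [force_eq] at h1
  rw [h1, map_mul, Perm.mul_apply, hx, hy]

/-- the product of the letters of a word -/
def wd (g : ℕ → T) (l : List ℕ) : T := (l.map g).prod

theorem wd_cons (g : ℕ → T) (x : ℕ) (l : List ℕ) : wd g (x :: l) = g x * wd g l := by
  rw [wd, List.map_cons, List.prod_cons]; rfl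

theorem tab_ev {g : ℕ → T} {tabs : List ℕ} (hg : ∀ i < tabs.length, Tab ψ w (g i) (nth tabs i)) :
    ∀ l : List ℕ, (∀ x ∈ l, x < tabs.length) → ∀ p : Fin n, (ψ (wd g l) p : ℕ) = evw w tabs l p
  | [], _, p => by
    show (ψ 1 p : ℕ) = p
    rw [map_one]
    rfl
  | x :: l, h, p => by
    rw [wd_cons, map_mul, Perm.mul_apply, hg x (h x List.mem_cons_self), evw_cons,
      tab_ev hg l fun y hy => h y (List.mem_cons_of_mem _ hy)]

/-- a word with the table `P` -/
theorem tab_wd {g : ℕ → T} {tabs : List ℕ} (hg : ∀ i < tabs.length, Tab ψ w (g i) (nth tabs i)) {P : ℕ} {l : List ℕ}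
    (h : chkW n w tabs P l = true) : Tab ψ w (wd g l) P := by
  obtain ⟨h1, h2⟩ := band_true h
  intro p
  rw [tab_ev hg l (chkL_iff _ l h1)]
  exact (Nat.eq_of_beq_eq_true ((allN_iff _ _).1 h2 p p.2)).symm

/-- `P Q = 1` -/
noncomputable def chkI (n w P Q : ℕ) : Bool := allN (fun p => Nat.beq (force (lk w Q p) fun q => lk w P q) p) n

theorem mul_eq_one (hψ : Function.Injective ψ) {x y : T} {P Q : ℕ} (hx : Tab ψ w x P) (hy : Tab ψ w y Q)
    (h : chkI n w P Q = true) : x * y = 1 := by
  apply hψ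
  rw [map_one, map_mul]
  ext p
  have h1 := Nat.eq_of_beq_eq_true ((allN_iff _ _).1 h p p.2)
  rw [force_eq] at h1
  rw [Perm.mul_apply, hx, hy, h1]
  rfl

/-- `P` and `Q` commute -/
noncomputable def chkM (n w P Q : ℕ) : Bool :=
  allN (fun p => Nat.beq (force (lk w Q p) fun q => lk w P q) (force (lk w P p) fun q => lk w Q q)) n

theorem comm_of (hψ : Function.Injective ψ) {x y : T} {P Q : ℕ} (hx : Tab ψ w x P) (hy : Tab ψ w y Q)
    (h : chkM n w P Q = true) : x * y = y * x := by
  apply hψ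
  rw [map_mul, map_mul]
  ext p
  have h1 := Nat.eq_of_beq_eq_true ((allN_iff _ _).1 h p p.2)
  rw [force_eq, force_eq] at h1
  rw [Perm.mul_apply, Perm.mul_apply, hx, hy, h1, hy, hx]

/-- the point `b` is moved -/
theorem ne_one_of {x : T} {P : ℕ} (hx : Tab ψ w x P) (b : Fin n) (h : Nat.beq (lk w P b) b = false) : x ≠ 1 := by
  rintro rfl
  have h1 := hx b
  rw [map_one] at h1
  have h2 : ((1 : Perm (Fin n)) b : ℕ) = b := rfl
  rw [h2] at h1
  rw [← h1, Nat.beq_refl] at h
  exact absurd h (by decide)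

theorem orderOf_two {x : T} (h1 : x * x = 1) (h2 : x ≠ 1) : orderOf x = 2 :=
  orderOf_eq_prime (by rw [pow_two]; exact h1) h2

/-! ### codes -/

/-- the element of a code: digits `1..m` in base 16, the lowest digit is the outermost letter; digit `m` is the
letter `0` -/
def cu (m : ℕ) (d : ℕ → T) : ℕ → ℕ → T
  | 0, _ => 1
  | f + 1, c => if c = 0 then 1 else d (Nat.mod (Nat.land c 15) m) * cu m d f (Nat.shiftRight c 4)

/-- the value of `u s u⁻¹` at a point -/
noncomputable def cj (w m : ℕ) (Dt Di : List ℕ) (S : ℕ) : ℕ → ℕ → ℕ → ℕ :=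
  Nat.rec (fun _ p => lk w S p) (fun _ ih c p => cnd (Nat.beq c 0) (lk w S p)
    (force (Nat.mod (Nat.land c 15) m) fun i => force (lk w (nth Di i) p) fun q =>
      force (Nat.shiftRight c 4) fun c' => force (ih c' q) fun r => lk w (nth Dt i) r))

theorem cu_mem {D : Subgroup T} {m : ℕ} {d : ℕ → T} (hm : 0 < m) (hd : ∀ i < m, d i ∈ D) :
    ∀ f c : ℕ, cu m d f c ∈ D
  | 0, _ => D.one_mem
  | f + 1, c => by
    rw [cu]
    split_ifs
    · exact D.one_mem
    · exact D.mul_mem (hd _ (Nat.mod_lt _ hm)) (cu_mem hm hd f _)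

theorem cj_eq {m : ℕ} (hm : 0 < m) {d : ℕ → T} {Dt Di : List ℕ} (hd : ∀ i < m, Tab ψ w (d i) (nth Dt i))
    (hi : ∀ i < m, Tab ψ w (d i)⁻¹ (nth Di i)) {s : T} {S : ℕ} (hs : Tab ψ w s S) :
    ∀ (f c : ℕ) (p : Fin n), (ψ (cu m d f c * s * (cu m d f c)⁻¹) p : ℕ) = cj w m Dt Di S f c p
  | 0, c, p => by
    have e : cj w m Dt Di S 0 c p = lk w S p := rfl
    rw [e, cu, one_mul, inv_one, mul_one]
    exact hs p
  | f + 1, c, p => by
    have e : cj w m Dt Di S (f + 1) c p = cnd (Nat.beq c 0) (lk w S p)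
      (force (Nat.mod (Nat.land c 15) m) fun i => force (lk w (nth Di i) p) fun q =>
      force (Nat.shiftRight c 4) fun c' => force (cj w m Dt Di S f c' q) fun r => lk w (nth Dt i) r) := rfl
    rw [e, cu]
    rcases beq_zero_or c with ⟨hc, hc'⟩ | ⟨hc, hc'⟩
    · rw [hc, cnd_true, if_pos hc', one_mul, inv_one, mul_one]
      exact hs p
    · rw [hc, cnd_false, if_neg hc', force_eq, force_eq, force_eq, force_eq]
      have hlt := Nat.mod_lt (Nat.land c 15) hm
      set i := Nat.mod (Nat.land c 15) m with hidef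
      set c' := Nat.shiftRight c 4
      have h1 : d i * cu m d f c' * s * (d i * cu m d f c')⁻¹ = d i * (cu m d f c' * s * (cu m d f c')⁻¹) * (d i)⁻¹ := by
        group
      rw [h1, map_mul, map_mul, Perm.mul_apply, Perm.mul_apply, hd i hlt, cj_eq hm hd hi hs f c', hi i hlt]

/-- `u s u⁻¹` has the table `R` -/
noncomputable def chkJ (n w m : ℕ) (Dt Di : List ℕ) (S f c R : ℕ) : Bool :=
  allN (fun p => Nat.beq (lk w R p) (cj w m Dt Di S f c p)) n

theorem conj_of (hψ : Function.Injective ψ) {m : ℕ} (hm : 0 < m) {d : ℕ → T} {Dt Di : List ℕ}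
    (hd : ∀ i < m, Tab ψ w (d i) (nth Dt i)) (hi : ∀ i < m, Tab ψ w (d i)⁻¹ (nth Di i)) {s r : T} {S R f c : ℕ}
    (hs : Tab ψ w s S) (hr : Tab ψ w r R) (h : chkJ n w m Dt Di S f c R = true) :
    r = cu m d f c * s * (cu m d f c)⁻¹ := by
  apply hψ
  ext p
  rw [hr, cj_eq hm hd hi hs]
  exact Nat.eq_of_beq_eq_true ((allN_iff _ _).1 h p p.2)

/-- the images of the points `bs`, packed -/
noncomputable def kj (w m : ℕ) (Dt Di : List ℕ) (S f c : ℕ) (bs : List ℕ) : ℕ :=
  List.rec 0 (fun b _ ih => force ih fun x => force (cj w m Dt Di S f c b) fun y =>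
    Nat.lor (Nat.shiftLeft x w) y) bs

/-- increasing keys -/
noncomputable def incK (key : ℕ → ℕ) (l : List ℕ) : ℕ → Bool :=
  List.rec (fun _ => true) (fun c _ ih prev => force (key c) fun v => band (Nat.ble prev v) (ih (Nat.succ v))) l

theorem incK_nodup {key : ℕ → ℕ} : ∀ {l : List ℕ} {b : ℕ}, incK key l b = true →
    (∀ x ∈ l, b ≤ key x) ∧ (l.map key).Nodup
  | [], _, _ => ⟨fun x hx => absurd hx List.not_mem_nil, List.nodup_nil⟩
  | c :: l, b, h => by
    have e : incK key (c :: l) b = force (key c) (fun v => band (Nat.ble b v) (incK key l (Nat.succ v))) := rfl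
    rw [e, force_eq] at h
    obtain ⟨h1, h2⟩ := band_true h
    obtain ⟨h3, h4⟩ := incK_nodup h2
    have h1' : b ≤ key c := Nat.le_of_ble_eq_true h1
    refine ⟨?_, ?_⟩
    · intro x hx
      rcases List.mem_cons.1 hx with rfl | hx
      · exact h1'
      · have := h3 x hx
        omega
    · rw [List.map_cons, List.nodup_cons]
      refine ⟨?_, h4⟩
      intro h5
      obtain ⟨x, hx, h6⟩ := List.mem_map.1 h5
      have := h3 x hx
      omega

theorem kj_eq {m : ℕ} (hm : 0 < m) {d : ℕ → T} {Dt Di : List ℕ} (hd : ∀ i < m, Tab ψ w (d i) (nth Dt i))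
    (hi : ∀ i < m, Tab ψ w (d i)⁻¹ (nth Di i)) {s : T} {S : ℕ} (hs : Tab ψ w s S) {f c c' : ℕ}
    (h : cu m d f c * s * (cu m d f c)⁻¹ = cu m d f c' * s * (cu m d f c')⁻¹) :
    ∀ bs : List ℕ, (∀ b ∈ bs, b < n) → kj w m Dt Di S f c bs = kj w m Dt Di S f c' bs
  | [], _ => rfl
  | b :: bs, hb => by
    have e : ∀ c, kj w m Dt Di S f c (b :: bs) = force (kj w m Dt Di S f c bs) fun x =>
      force (cj w m Dt Di S f c b) fun y => Nat.lor (Nat.shiftLeft x w) y := fun _ => rfl
    rw [e, e, force_eq, force_eq, force_eq, force_eq,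
      kj_eq hm hd hi hs h bs fun x hx => hb x (List.mem_cons_of_mem _ hx)]
    have h1 := cj_eq hm hd hi hs f c ⟨b, hb b List.mem_cons_self⟩
    have h2 := cj_eq hm hd hi hs f c' ⟨b, hb b List.mem_cons_self⟩
    rw [h] at h1
    rw [h1] at h2
    change cj w m Dt Di S f c b = cj w m Dt Di S f c' b at h2
    rw [h2]

theorem nodup_map_of {α β γ : Type*} {f : α → β} {g : α → γ} : ∀ {l : List α},
    (∀ x ∈ l, ∀ y ∈ l, g x = g y → f x = f y) → (l.map f).Nodup → (l.map g).Nodup
  | [], _, _ => List.nodup_nil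
  | a :: l, h, hn => by
    rw [List.map_cons, List.nodup_cons] at hn ⊢
    refine ⟨fun hmem => hn.1 ?_, nodup_map_of (fun x hx y hy => h x (List.mem_cons_of_mem _ hx) y
      (List.mem_cons_of_mem _ hy)) hn.2⟩
    obtain ⟨x, hx, he⟩ := List.mem_map.1 hmem
    exact List.mem_map.2 ⟨x, hx, h x (List.mem_cons_of_mem _ hx) a List.mem_cons_self he⟩

/-- the certificate of an orbit -/
noncomputable def chkO (n w m : ℕ) (Dt Di : List ℕ) (S f : ℕ) (bs cs : List ℕ) : Bool :=
  band (chkL n bs) (incK (fun c => kj w m Dt Di S f c bs) cs 0)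

/-- the conjugates of `s` under `D` -/
def cls (D : Subgroup T) (s : T) : Set T := {x | ∃ u ∈ D, x = u * s * u⁻¹}

/-- **Lower bound of an orbit.** -/
theorem orb_le [Finite T] {D : Subgroup T} {m : ℕ} (hm : 0 < m) {d : ℕ → T} (hD : ∀ i < m, d i ∈ D)
    {Dt Di : List ℕ} (hd : ∀ i < m, Tab ψ w (d i) (nth Dt i))
    (hi : ∀ i < m, Tab ψ w (d i)⁻¹ (nth Di i)) {s : T} {S : ℕ} (hs : Tab ψ w s S) {f : ℕ} {bs cs : List ℕ}
    (h : chkO n w m Dt Di S f bs cs = true) : cs.length ≤ (cls D s).ncard := by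
  obtain ⟨h1, h2⟩ := band_true h
  obtain ⟨-, h3⟩ := incK_nodup h2
  have hbs := chkL_iff _ _ h1
  have h4 : (cs.map fun c => cu m d f c * s * (cu m d f c)⁻¹).Nodup := by
    refine nodup_map_of ?_ h3
    · intro c _ c' _ hcc
      exact kj_eq hm hd hi hs hcc bs hbs
  classical
  have h5 : ((cs.map fun c => cu m d f c * s * (cu m d f c)⁻¹).toFinset : Set T) ⊆ cls D s := by
    intro x hx
    rw [Finset.mem_coe, List.mem_toFinset, List.mem_map] at hx
    obtain ⟨c, -, rfl⟩ := hx
    exact ⟨_, cu_mem hm hD f c, rfl⟩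
  have h6 := Set.ncard_le_ncard h5 (Set.toFinite _)
  rwa [Set.ncard_coe_finset, List.toFinset_card_of_nodup h4, List.length_map] at h6

/-! ### subgroups given by tables -/

/-- the element with table `P`, word `l`, indices `mi` of the products with the generators -/
noncomputable def chkE (n w : ℕ) (gs tabs : List ℕ) (a : ℕ × List ℕ × List ℕ) : Bool :=
  band (chkW n w gs a.1 a.2.1) (band
    (allN (fun i => band (Nat.blt (nth a.2.2 i) tabs.length)
      (cmp n w (nth gs i) a.1 (nth tabs (nth a.2.2 i)))) gs.length)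
    (allN (fun p => Nat.beq (force (lk w a.1 p) fun q => force (lk w a.1 q) fun q => force (lk w a.1 q) fun q =>
      lk w a.1 q) p) n))

/-- **A subgroup given by the tables of its elements.** -/
theorem grp_cov [Finite T] (hψ : Function.Injective ψ) {g : ℕ → T} {gs : List ℕ}
    (hg : ∀ i < gs.length, Tab ψ w (g i) (nth gs i)) {L : List (ℕ × List ℕ × List ℕ)}
    (hL : ∀ a ∈ L, chkE n w gs (L.map fun a => a.1) a = true) (h1 : ∃ a ∈ L, a.2.1 = [])
    {x : T} (hx : x ∈ closure {y : T | ∃ i < gs.length, y = g i}) :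
    ∃ a ∈ L, x = wd g a.2.1 ∧ Tab ψ w x a.1 ∧ x * x * x * x = 1 := by
  classical
  set tabs := L.map fun a => a.1 with htabs
  have htab : ∀ a ∈ L, Tab ψ w (wd g a.2.1) a.1 := fun a ha => tab_wd hg (band_true (hL a ha)).1
  let R : Set T := {y | ∃ a ∈ L, y = wd g a.2.1}
  have hRf : R.Finite := Set.toFinite _
  have hstep : ∀ i < gs.length, ∀ y ∈ R, g i * y ∈ R := by
    rintro i hi _ ⟨a, ha, rfl⟩
    obtain ⟨h2, h3⟩ := band_true (band_true (hL a ha)).2
    obtain ⟨h4, h5⟩ := band_true ((allN_iff _ _).1 h2 i hi)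
    rw [Nat.blt_eq] at h4
    have h6 := tab_mul (hg i hi) (htab a ha) h5
    have h7 : nth tabs (nth a.2.2 i) ∈ tabs := by
      rw [nth_eq, List.getD_eq_getElem _ _ h4]
      exact List.getElem_mem _
    rw [htabs, List.mem_map] at h7
    obtain ⟨b, hb, h8⟩ := h7
    rw [← h8] at h6
    exact ⟨b, hb, tab_eq hψ h6 (htab b hb)⟩
  have hclo : ∀ y ∈ closure {y : T | ∃ i < gs.length, y = g i}, ∀ z ∈ R, y * z ∈ R := by
    intro y hy
    induction hy using Subgroup.closure_induction with
    | mem y hy =>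
      obtain ⟨i, hi, rfl⟩ := hy
      exact hstep i hi
    | one => intro z hz; rwa [one_mul]
    | mul a b _ _ iha ihb => intro z hz; rw [mul_assoc]; exact iha _ (ihb z hz)
    | inv a _ ih =>
      intro z hz
      have hsub : (fun z => a * z) '' R ⊆ R := by
        rintro _ ⟨y, hy, rfl⟩
        exact ih y hy
      have heq : (fun z => a * z) '' R = R := by
        refine Set.eq_of_subset_of_ncard_le hsub ?_ hRf
        rw [Set.ncard_image_of_injective _ (mul_right_injective a)]
      rw [← heq] at hz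
      obtain ⟨y, hy, h⟩ := hz
      have h' : a * y = z := h
      rw [← h', inv_mul_cancel_left]
      exact hy
  obtain ⟨a0, ha0, ha0'⟩ := h1
  have h2 : (1 : T) ∈ R := ⟨a0, ha0, by rw [ha0']; rfl⟩
  obtain ⟨a, ha, h3⟩ := hclo x hx 1 h2
  rw [mul_one] at h3
  have hxa : Tab ψ w x a.1 := by rw [h3]; exact htab a ha
  refine ⟨a, ha, h3, hxa, ?_⟩
  apply hψ
  ext p
  obtain ⟨-, h4⟩ := band_true (band_true (hL a ha)).2
  have h5 := Nat.eq_of_beq_eq_true ((allN_iff _ _).1 h4 p p.2)
  rw [force_eq, force_eq, force_eq] at h5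
  rw [map_mul, map_mul, map_mul, map_one, Perm.mul_apply, Perm.mul_apply, Perm.mul_apply, hxa, hxa, hxa, hxa, h5]
  rfl

/-- the images of the points `bs` -/
noncomputable def kt (w : ℕ) (bs : List ℕ) (P : ℕ) : ℕ :=
  List.rec 0 (fun b _ ih => force ih fun x => force (lk w P b) fun y => Nat.lor (Nat.shiftLeft x w) y) bs

theorem kt_eq {x y : T} {P Q : ℕ} (hx : Tab ψ w x P) (hy : Tab ψ w y Q) (h : x = y) :
    ∀ bs : List ℕ, (∀ b ∈ bs, b < n) → kt w bs P = kt w bs Q
  | [], _ => rfl
  | b :: bs, hb => by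
    have e : ∀ P, kt w (b :: bs) P = force (kt w bs P) fun x => force (lk w P b) fun y =>
      Nat.lor (Nat.shiftLeft x w) y := fun _ => rfl
    rw [e, e, force_eq, force_eq, force_eq, force_eq, kt_eq hx hy h bs fun x hx => hb x (List.mem_cons_of_mem _ hx)]
    have h1 := hx ⟨b, hb b List.mem_cons_self⟩
    have h2 := hy ⟨b, hb b List.mem_cons_self⟩
    rw [h] at h1
    rw [h1] at h2
    change lk w P b = lk w Q b at h2
    rw [h2]

theorem wd_mem {g : ℕ → T} {r : ℕ} : ∀ l : List ℕ, (∀ x ∈ l, x < r) →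
    wd g l ∈ closure {y : T | ∃ i < r, y = g i}
  | [], _ => one_mem _
  | x :: l, h => by
    rw [wd_cons]
    exact mul_mem (subset_closure ⟨x, h x List.mem_cons_self, rfl⟩) (wd_mem l fun y hy => h y (List.mem_cons_of_mem _ hy))

/-- **The order.** -/
theorem card_ge [Finite T] {g : ℕ → T} {gs : List ℕ} (hg : ∀ i < gs.length, Tab ψ w (g i) (nth gs i))
    {L : List (ℕ × List ℕ × List ℕ)} (hL : ∀ a ∈ L, chkE n w gs (L.map fun a => a.1) a = true) {bs : List ℕ}
    (hbs : chkL n bs = true) (hk : incK (kt w bs) (L.map fun a => a.1) 0 = true) :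
    L.length ≤ Nat.card (closure {y : T | ∃ i < gs.length, y = g i}) := by
  classical
  have hb := chkL_iff _ _ hbs
  have htab : ∀ a ∈ L, Tab ψ w (wd g a.2.1) a.1 := fun a ha => tab_wd hg (band_true (hL a ha)).1
  have h1 := (incK_nodup hk).2
  rw [List.map_map] at h1
  have h4 : (L.map fun a => wd g a.2.1).Nodup := nodup_map_of (fun a ha b hb' hab =>
    kt_eq (htab a ha) (htab b hb') hab bs hb) h1
  have h5 : ((L.map fun a => wd g a.2.1).toFinset : Set T) ⊆ (closure {y : T | ∃ i < gs.length, y = g i} : Subgroup T) := by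
    intro x hx
    rw [Finset.mem_coe, List.mem_toFinset, List.mem_map] at hx
    obtain ⟨a, ha, rfl⟩ := hx
    exact wd_mem _ (chkL_iff _ _ (band_true (band_true (hL a ha)).1).1)
  have h6 := Set.ncard_le_ncard h5 (Set.toFinite _)
  rwa [Set.ncard_coe_finset, List.toFinset_card_of_nodup h4, List.length_map] at h6

end tab

/-! ### the engine -/

section eng

open Cfsg.Agent.H209.Fxy Cfsg.Agent.H999.IFB Cfsg.Agent.H809.IFC

variable {T : Type*} [Group T] [Finite T] {A : Subgroup T} {Γ : Subgroup (MulAut T)}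

theorem conj_inj' [IsSimpleGroup T] (hna : ∃ a b : T, a * b ≠ b * a) :
    Function.Injective (MulAut.conj : T →* MulAut T) := by
  rw [injective_iff_map_eq_one]
  intro z hz
  apply center_of hna
  intro x
  have h3 := congrArg (fun τ : MulAut T => τ x) hz
  simp only [MulAut.conj_apply, MulAut.one_apply] at h3
  rwa [mul_inv_eq_iff_eq_mul] at h3

/-- ENG5 in terms of a lower bound for the number of conjugates. -/
theorem E4c [IsSimpleGroup T] (h : IF A Γ) (hna : ∃ a b : T, a * b ≠ b * a) {s t : T} (hs : s ∈ A) (ht : t ∈ A)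
    (hs2 : orderOf s = 2) (ht2 : orderOf t = 2) {D : Subgroup T} (hD : ∀ d ∈ D, d * t = t * d) {K N : ℕ}
    (hK : K ≤ (cls D s).ncard) (hN : (centralizer ({s} : Set T)).index ≤ N) :
    fx A (MulAut.conj t) ^ 4 * K < N ∧ fx A (MulAut.conj s) ^ 4 * K < N := by
  have h1 := IF.E4'' h ((h.conj s).2 hs) ((h.conj t).2 ht) (by rw [orderOf_conj hna, hs2])
    (by rw [orderOf_conj hna, ht2])
  rw [(IF.E2' h hna hs hs2).2.1] at h1
  have h2 : (MulAut.conj : T → MulAut T) '' cls D s ⊆ ccl (MulAut.conj s) (MulAut.conj t) := by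
    rintro _ ⟨_, ⟨u, hu, rfl⟩, rfl⟩
    refine ⟨u, ?_, ?_⟩
    · rw [MulAut.conj_apply, ← hD u hu, mul_inv_cancel_right]
    · rw [map_mul, map_mul, map_inv]
  have h3 : K ≤ (ccl (MulAut.conj s) (MulAut.conj t)).ncard := by
    calc K ≤ (cls D s).ncard := hK
      _ = ((MulAut.conj : T → MulAut T) '' cls D s).ncard := (Set.ncard_image_of_injective _ (conj_inj' hna)).symm
      _ ≤ _ := Set.ncard_le_ncard h2 (Set.toFinite _)
  exact ⟨(Nat.mul_le_mul_left _ h3).trans_lt (h1.2.2.1.trans_le hN), (Nat.mul_le_mul_left _ h3).trans_lt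
    (h1.2.2.2.trans_le hN)⟩

/-- the bound `f⁵ < |t^T|` -/
theorem f_lt [IsSimpleGroup T] (h : IF A Γ) (hna : ∃ a b : T, a * b ≠ b * a) {t : T} (ht : t ∈ A)
    (ht2 : orderOf t = 2) {N : ℕ} (hN : (centralizer ({t} : Set T)).index ≤ N) :
    fx A (MulAut.conj t) ^ 5 < N := ((IF.E2' h hna ht ht2).2.2.1).trans_le hN

theorem rel_le [IsSimpleGroup T] (h : IF A Γ) (hna : ∃ a b : T, a * b ≠ b * a) {t : T} (ht : t ∈ A)
    (ht2 : orderOf t = 2) {W : Subgroup T} (hW : ∀ d ∈ W, d * t = t * d) : A.relIndex W ≤ fx A (MulAut.conj t) := by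
  refine (Cfsg.Agent.H999.IFB.IF.E1 h ((h.conj t).2 ht) (by rw [orderOf_conj hna, ht2]) (B := W) fun b hb => ?_).1
  rw [MulAut.conj_apply, ← hW b hb, mul_inv_cancel_right]

/-- an involution of `A` in the 2-group `W` of exponent 4 -/
theorem exists_inv [IsSimpleGroup T] (h : IF A Γ) (hna : ∃ a b : T, a * b ≠ b * a) {t : T} (ht : t ∈ A)
    (ht2 : orderOf t = 2) {W : Subgroup T} (hW : ∀ d ∈ W, d * t = t * d) (h4 : ∀ x ∈ W, x * x * x * x = 1) {k : ℕ}
    (hk : k ≤ Nat.card W) (hf : fx A (MulAut.conj t) < k) : ∃ y ∈ W, y ∈ A ∧ y ≠ 1 ∧ y * y = 1 := by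
  have h1 := (rel_le h hna ht ht2 hW).trans_lt (hf.trans_le hk)
  have h2 : A ⊓ W ≠ ⊥ := by
    intro h3
    rw [← Subgroup.inf_relIndex_right, h3, Subgroup.relIndex_bot_left] at h1
    exact lt_irrefl _ h1
  obtain ⟨x, hx, hx1⟩ : ∃ x : T, x ∈ A ⊓ W ∧ x ≠ 1 := by
    by_contra hcon
    push Not at hcon
    exact h2 ((Subgroup.eq_bot_iff_forall _).2 hcon)
  by_cases h5 : (x : T) * x = 1
  · exact ⟨x, hx.2, hx.1, hx1, h5⟩
  · refine ⟨(x : T) * x, W.mul_mem hx.2 hx.2, A.mul_mem hx.1 hx.1, h5, ?_⟩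
    rw [← mul_assoc]
    exact h4 x hx.2

/-- elements of prime order `r > f` centralising `t` -/
theorem mem_of_prime [IsSimpleGroup T] (h : IF A Γ) (hna : ∃ a b : T, a * b ≠ b * a) {t : T} (ht : t ∈ A)
    (ht2 : orderOf t = 2) {y : T} (hy : y * t = t * y) {r : ℕ} (hr : r.Prime) (hyr : y ^ r = 1)
    (hf : fx A (MulAut.conj t) < r) : y ∈ A := by
  have h1 := (rel_le h hna ht ht2 (W := zpowers y) (by
    rintro _ ⟨k, rfl⟩
    exact ((show Commute y t from hy).zpow_left k).eq)).trans_lt hf
  have h2 : A.relIndex (zpowers y) ∣ r := by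
    have h3 : A.relIndex (zpowers y) ∣ Nat.card (zpowers y) := Subgroup.relIndex_dvd_card A (zpowers y)
    rw [Nat.card_zpowers] at h3
    exact h3.trans (orderOf_dvd_of_pow_eq_one hyr)
  rcases (Nat.dvd_prime hr).1 h2 with h3 | h3
  · exact (Subgroup.relIndex_eq_one.1 h3) (mem_zpowers y)
  · omega

/-- the end: too many conjugates of `t` in `A` -/
theorem fin_kill [IsSimpleGroup T] (h : IF A Γ) (hna : ∃ a b : T, a * b ≠ b * a) {t : T} (ht : t ∈ A)
    (ht2 : orderOf t = 2) {D : Subgroup T} (hD : D ≤ A) {f K N : ℕ} (hf : fx A (MulAut.conj t) ≤ f)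
    (hK : K ≤ (cls D t).ncard) (hN : (centralizer ({t} : Set T)).index ≤ N) (hlt : f * N < 730 * K) : False := by
  have h1 := IF.fix_formula' h ((h.conj t).2 ht)
  rw [(IF.E2' h hna ht ht2).2.1] at h1
  have h2 : (MulAut.conj : T → MulAut T) '' cls D t ⊆ icl (MulAut.conj t) ∩ (Γ : Set (MulAut T)) := by
    rintro _ ⟨_, ⟨u, hu, rfl⟩, rfl⟩
    refine ⟨⟨u, by rw [map_mul, map_mul, map_inv]⟩, (h.conj _).2 ?_⟩
    exact A.mul_mem (A.mul_mem (hD hu) ht) (A.inv_mem (hD hu))
  have h3 : K ≤ (icl (MulAut.conj t) ∩ (Γ : Set (MulAut T))).ncard := by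
    calc K ≤ (cls D t).ncard := hK
      _ = ((MulAut.conj : T → MulAut T) '' cls D t).ncard := (Set.ncard_image_of_injective _ (conj_inj' hna)).symm
      _ ≤ _ := Set.ncard_le_ncard h2 (Set.toFinite _)
  have h4 : 730 * K ≤ f * N := by
    calc 730 * K ≤ A.index * (icl (MulAut.conj t) ∩ (Γ : Set (MulAut T))).ncard := Nat.mul_le_mul h.big h3
      _ = fx A (MulAut.conj t) * (centralizer ({t} : Set T)).index := h1.symm
      _ ≤ f * N := Nat.mul_le_mul hf hN
  omega

/-- transport along an automorphism: `α t = t'` -/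
theorem map_aut (h : IF A Γ) (α : T ≃* T) {t t' : T} (ht : t ∈ A) (hα : α t = t') :
    ∃ (A' : Subgroup T) (Γ' : Subgroup (MulAut T)), IF A' Γ' ∧ t' ∈ A' ∧
      fx A' (MulAut.conj t') = fx A (MulAut.conj t) := by
  refine ⟨_, _, h.map α, ⟨t, ht, hα⟩, ?_⟩
  have h1 : MulAut.conj t' = MulAut.congr α (MulAut.conj t) := by
    ext x
    obtain ⟨y, rfl⟩ := α.surjective x
    rw [congr_apply, MulAut.conj_apply, MulAut.conj_apply, map_mul, map_mul, map_inv, hα]
  rw [h1]
  exact fx_map α _

end eng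

/-! ### exact class sizes from a cover -/

section exact

variable {n : ℕ}

/-- from the model to the group -/
theorem index_le_of_cls {T : Type*} [Group T] [Finite T] {ψ : T →* Perm (Fin n)} (hψ : Function.Injective ψ)
    {A : Subgroup (Perm (Fin n))} (hA : ψ.range ≤ A) {s : T} {N : ℕ} (h : (cls A (ψ s)).ncard ≤ N) :
    (centralizer ({s} : Set T)).index ≤ N := by
  classical
  have h1 : (centralizer ({s} : Set T)).index = (cls (⊤ : Subgroup T) s).ncard := by
    have h2 : cls (⊤ : Subgroup T) s = MulAction.orbit (ConjAct T) s := by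
      ext x
      constructor
      · rintro ⟨u, -, rfl⟩
        exact ⟨ConjAct.toConjAct u, rfl⟩
      · rintro ⟨u, rfl⟩
        exact ⟨ConjAct.ofConjAct u, mem_top _, rfl⟩
    rw [h2]
    have h3 := MulAction.index_stabilizer (ConjAct T) s
    rw [ConjAct.stabilizer_eq_centralizer] at h3
    rw [← h3]
    rfl
  rw [h1]
  have h4 : ψ '' cls (⊤ : Subgroup T) s ⊆ cls A (ψ s) := by
    rintro _ ⟨_, ⟨u, -, rfl⟩, rfl⟩
    exact ⟨ψ u, hA ⟨u, rfl⟩, by rw [map_mul, map_mul, map_inv]⟩
  calc (cls (⊤ : Subgroup T) s).ncard = (ψ '' cls (⊤ : Subgroup T) s).ncard :=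
        (Set.ncard_image_of_injective _ hψ).symm
    _ ≤ (cls A (ψ s)).ncard := Set.ncard_le_ncard h4 (Set.toFinite _)
    _ ≤ N := h

/-- conjugate elements have the same class -/
theorem cls_conj {G : Type*} [Group G] {A : Subgroup G} {b s : G} (hb : b ∈ A) : cls A (b * s * b⁻¹) = cls A s := by
  ext x
  constructor
  · rintro ⟨u, hu, rfl⟩
    exact ⟨u * b, A.mul_mem hu hb, by group⟩
  · rintro ⟨u, hu, rfl⟩
    exact ⟨u * b⁻¹, A.mul_mem hu (A.inv_mem hb), by group⟩

end exact

end Cfsg.Agent.H895.IFT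
end

-- part: H895/IF/CoDat
section
/-!
# S5719, row `Co3`: data (helper895)

Tables (10 bits per entry) of the elements used, on the 552 points of `H763/Co3`.
-/

set_option autoImplicit false
set_option maxRecDepth 1000000

namespace Cfsg.Agent.H895.CoIF

open Cfsg.Agent.H123.Cls Cfsg.Agent.H763.Co3.Dat

noncomputable def e2 : ℕ := 0x50e0e6b19c7d8725cd3c491fb519cc756273f20f7196b4d219446177053e65dc8299152750a425873bd0089608811cf595f288cac118743b5ed55e024adf36cdb96b9806854972556628fd0814a509aa6942718cec59a1e3752e7d5e95a4ca735ca7f17664e16350e711d406fe07550d7354cf5a9bd769b1795d733414845f036cd670c4a5321d16d04605773d1d2758b167d7c7fcbb0f97b779237e205805f7404c74395a3a8e6775b849cb5045b60fcfa415d4854225812c5fce30cd1910065409886f9b71c0c25146812206159f188125850c119df9584622b8865115f484f52780c5b58d4fc520c01a890df7b9fd538b9565335c11d504925bc6c2048c578505453d489b277e03104662d01b71493132107bd0b360151f18c7f9f4681e8898cb255db0c61a1adec84d062c07e58d1f0f5b427cc98605a260904e4ab78c9187ca1556008298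25d53b7e81f588e13904e15c07288f36f120791526a0f971e120715072dad238a40b90834967654a734ccc5e5dc3b9e70bc94111a268d6c4712f1811e1607b7a983830f8678550746a3fd3a2f05d109a76650d765ba144767399b6c1d1708ce52d8b4c4c62f4c57021b78528889684c0533450f2207d371e226d536495b1c454300fb4d585885c43958441c99591321e54f00dab08c1e6bd7251cbf468594e04f1e8283660d2dda65618e0d0af644695f9173f9376a4b3651262f82957438234a93a4eb008a00103a570182c8e8271290d589259e653443461d04b5b5125143c4aa3c889824324d88f1b46e25d965d05e21c785b9e01bdeb17d7d448c8619135e0f71845c660f6690c4200216761c294b62e0de0346474e0b3889a12cda40c085200920c2c04cad4318f1fc73760a85c5900004d0381722c3b44010064162e9166ec775e8a346c753819a0048a0902b210c30dc45340260b42a0d92a0183c0e4053c00b214820480a03c25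
noncomputable def e3 : ℕ := 0x795e3599807f99f10dac501d6749cb7420583d257b5555fd564e582725d1866024c9ee40db95e0e1754c38697b4160e2e1b629e23364d46c927789c76a18d6d59961d975193e73a0c85c5f3e0ce6e1434bce589c77899f9540213d1026f0d0525c11290747e1e81cf05661d8421b319ef35d6a871bf8447c7e157380cc6f4d57690b728df70ddd3b8da829e943a007d47f629fb6acba59d63512206c5351f5f72a1286857d459366950f889105a18c5617a7d0aa7c8552693f5f0b65913d248bd7d99c1d1b32f1227cd72108714b6124722485468691938119a44a09348a93253c2c5864b1423141f34c5e309cc3f19d6be25139916b91d2e4e32402422880208c874d9b71a14859413f864295e1290e2168d836ccf76c8c429f13d5ad7a1705521f651f0641743ac9684c782fda26a9242de0d3792179c5060d714451948da67e87b861344a5884c10d75c94589813e8344a8ff3a5a332cb50c9794ad9e681b74810970147430f3760cd80d0182dde410d1461532bd692cd1b1b9eb284f1515df4205c3d9d4359bb1c8e84ec8e45cec198527986a5814e821c56f93128c9e52dba7f54c734ef709fc5b577401dc529ea419c4454bb5d55a25dcf5bcb28196b12cab4dc2b63989329b0586014cd92450763ecc45cc993f41c01463301985d9a77fc145454f3746d3dc3a0bcdc11c3315d952c08731d3a0451e2218f1215f0c0ea025480a15d0a89326044094811b15b2115c6d06f6a5c84980714d38790b41c18b074ed610751f8f92888306ce41617e080e70f5522b05b13c547b16c068f21894d0886926c4c658601e4e60d52e1856505c56305d9100912743f03c8688585030491183119412010a005416040191451a271130f88f27c23028292f8890b08b0780b2155e0b859780675b8271ccae1ac5d0d80e134380e4a60183c2543711418008410982d234011e8132b43b0000d02003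
noncomputable def e4 : ℕ := 0x5955f3f5ac2a5e9864b4105774f1ff5853a649db885fd531c22f9c35be093c98b64d43694e67bd14534cd6a50c72dd939c5086c7a501bb5e5da5808e1b09b25100700bb0795862423780ca7f2028905636cbd3c504465676da0f09cec2c4727ea1861dd13610a614c2359aa5fa03381d8480dc2b12606cda678b8455be852122220e0f9d30d5685299c8309152cff78434404590c4f75ccd0612221d5d66b5393acf38344971c460bcf8180e138ddc2749c3a56b1dcc425d3882e17409525987c4b0fe7cc5f841b97a8a47320524c3d3b84410dce3d00c25534518d287414485786746a2407e7c2074b4c853d6e199e26f1917d0e863881871dd7d92b2308b2248748e11418b027c6b395941452e32e165a9b7855eb0fc8a1a0dd3c1136215912d4e120071da1e131446a1902696d41d7d1fc7315412085182ade357857260ae069cd13c22330305d5ca171500a4c75b11c6351e138ea751f886833234b5468b6189ab07dd20809951d691f5ec1a58f7ca276d4ed778c31e46f6998169cd13917a295ed665cf179a037a256c11079492819e84c4c66bc1d68d451b58c7edd575dae161e7045c4070bf184bc45dc82dc4280542661e40d8a243c53299e6719c511c5d33e13659746cc2e0c8fc3517f459b82a9637e58259151115d04d9865048f2599b3e4b31011b1484d87cce315a4899331b9706d0b96c600688af8812a2ea084455d5714856d493e8780ac2c0b4015880b4dd2918cb219d545c8546293f8105a40dba4145b568653bdf77f8fb4c93543557420861c47b3018065cdf34d2f4250b7c4e25c60a54c643d53b4a1f549cf6280a188c9e6693d5d9832b59f4384a55512704d755817060190000604cc93559528ca75edee5f0a820c8421408474264902802809489df47c701d1b2365bd4f9250e83b0f002040c10dd306fc150140400da1200250902a7243803c0e0341620839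
noncomputable def e5 : ℕ := 0x6cdf955dca861cd2aa1f881ce745ad815cb36e23361ac722044e5ab831d6531cc54a114e1b22f6008091886e147f207542086f9273e60350d41899f56a1dd7e1f2755f47a1887493e52daf6d1a0501f173dba65d9d6f18d30d53705697d9963d1346046a516107ccfb3e9ef8754479e1e88a0e86a2448a156d9025c95a6959377d2367dff5f1e3655e6519556b9c7385eb89e0a5597d7b1b7872168499c21df75e92670ca863d9b355ea6fd91791aa688ba628b6795dc6ec75708a46790c68cbc7894750999311f05a8f05b06f3157b764d758c796c1bd609a72acb2308a13256b5cdc53d90b4d933375855d1877785f1dcfc401165fd2b358b157d5e2f95c56dc43212d895b16e1257820d1ee0110cf34de0f7b4ac49083631b975dd07ed8b7e9e9425ee1c1153043484e0b5356f3b5da5b8783c9213d52e560e9589171d10d7f9a655149701c94c0a53191e444ce330323c6064a9644f11425cd3474921287c4a1905c0724fcd914d0633cca191c6405652e05c3b166751d37f49a12d714bddb539314658629c7f4d4fd2a4b54b0e8334e63406838c6e6d4b32e4215b4a286455422176016168463448cb344e54151c39d1b349045d5592591f60d89785774eca307d5d8258e2ed9a37cff169983a8b438178580b02bcae0d94a5e6213ada43bc9d48192300dc5d83a1045e2984926cf81947144cc70c45024d102445723c8e2346c22c2b2243f6a4860948452082204803b87d1f90e5446b5f93259c48651291a50a2613d610e21088c1e9d81cce4188662650335067174445a09e184fe16cb707858240563685441c4c1449413c4e05c523dd0f2707611c460486053c6d27c402203e0f40f0eca00e438034ad0713a0cd1a254230bc2e0282c2282a0a42809c08214240c022378202fc590743506c1a01418134160541400c45044020f00e0dc0c0042d0242601c000640404c1002c06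
noncomputable def e6 : ℕ := 0x38d044797e509d846ca623d264810c1d6117ed3a518d63b9a984d8473e23859791bd8921c62654e769466729816e9fd418af714ae1e61952913344cd7dcca3a173374901514550458501013dcda53467565fa590bb441507c89a2652e1392d88592340fa3316f3d0a5641586aca9512046b93412dc81d9ad4a9ec699943c9e016ce01320f11d183ad363709d3e19d6bd8815c8624d8b582057356e681bb5c86c701614549189c41175ce101f42c5d52c0b42495581a188313c308c8899777d97b4587b3c2016d209539b9618fb27c497443360d5a25c6111834311b871060114ba68e1226cd9288e579dd666d933a9575a4f6408fd6695c751b63851d6a08d0a6222ad6c2d49c0b851871d91649487c6a1560b83617080251e1fc869f0615ef48dbe09c48089d30bde62f9ea874ac1919c878e686d755452c80e2556d5f3881e1cd371a4658401d2b5334a11922d12769bf77850401145a9e36581c2248e28da213d314fdeb0c01b829971b98f159173f1666cdb2665e4852246dcf36a96540c728547f7e1a75d8f9435e542968820773c4f57a5fe678885c5b0305f12f4b35e9520fd7d149ed050700f8a830d38424a13a56d31591485db35d320f5f3776071101177c8c83a207189534df94918259c7c50db16d4cb17c53325dc75dd029031301787fdcb0d5d20300f439802f0b671dc32ddc936dbd349bc638ec58cff6618d589395780a2057052cde2142a22826444087093e705a40694761c6b8007e54d3d085cc52423530075f15d4d602171e841d8a2fc7a42068178df7d5a11b5271c5ee47c1f784c66b0fe5511a391e2630b8014c72a93b10c980c8b24c0ef5599f5fc9e4a4a75ac3c0584d040020dc36470d8108d55d0d43394f0b4825200b4ac011d02c0ac2833d0b4947d4892f1690f414ed06439280060009604c122e41805c150344a210832000918c3b0e83800c040900e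
noncomputable def e7 : ℕ := 0x821de7d8ce3184a60d3c309cb741d2759d15a92f81d6b6097f4e50e4a5ad7554c14d0b3910a2ea2785dec7bc7c704db791f26f545261243b51f55df46a2256cdf852e001c9708158b732065c99f5d1aa49dc471e01598fc5a15152a265a55a41463600644961b83db465a1c86a1d55144471ed8790f509b1795bc655e62e4a780d22605a17fdc63ecfa4d5775598a65dd47d59c720bc5417b840d258de8421f75e0213bcbd4b1926f8d77a919461b22a8c43856f6d5d37141f37da23a45a3c57a409467b9b62a074360ee4ec6e886156fdd9850782c8d66b98e469a76e16c485e915deb441f06613d0c97685a19775e13fde32ecf66ad2b3549b2c48220c84091dc3954f7e5b7455cf43468781af5607e4fe0e7cddf2b0be50d8c7f9ce51dc93d4cb535235ba20614d384d071c0436e4cf4246a1ecc9860b52d9a358916844f279cfe75dfc4f9c05d4de7e8ea445cd341796799d2492a55494300974757172a1254cbf8320a4cda94e0ec76c4e1e58d4010159d26199e26edba1f4b310964504d41c52863c9a695867ed062791e644e73a0355660b240876647f64d2031ca1808c81bd876817c584f44e9ac3291b4d2242bc55500d14c0da376232919a1de1f2891343148691b05960970c5f1d52d4b83f3e17d57c3033452015492599b1b5897083e170c50d0c13704d100eb0442f580f00b9fd448ab051141d917220e3194500a82b0b06c02491388610955c5755e200813814e3e6044c42040d7e30c932dd8809df13cd37365842a48a16d320895206cfd23dd8768072184f2e04b150a51ad900741e5cc1c3305d834ae1308e181042805117a22030460c44803c1a4d8f70cc9f2d0a608c12058170600400019398a31056d11cb0270990288b2308d0a0291cc082155b0f4696987a650581645619c440d8390e83b038950083c2740311415018490042d224261880d2b4380401302c37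
noncomputable def e8 : ℕ := 0x440924a8611885d5ed81611467ecf44d14e498544809c66c8f7dc2e0820b5bdca164990792387cf62a5f63749d38a11899ec28cdc09d3f1a4868191784d64791167351844c5b83472561f88917624d42435a6412085cc90451fe825718061212076305f11ed401d5fa622165f5931e17a11d0c69414884a84b8e88620c1305273d09780a17205788a14145a0314b53a9945413a5b8b0894ba5e4462993277cbe0f4e60ce03140975f8d34549477951700ac32995138a564088101b11983f418c838d591c0d1554657c1526fd240d0d6300c281db227dd853441031cb669d72b5ad4093655dba255c9181bd3e04b6755f26ccd679dd74c8b448c363c2a22826020f7708316bdbe6a5858284f21e276d0224f94188d3d5148c86873191fd2b86e19c491a9921e5a43117c1b01a5249151058705ff7a121731992d0b1225697706f5287a7f1894219c1146b755e5571c53e4b3581f47d5b360cf1685aa56df27516a7a80785d036dd3186d67841c7584e7785a3238fa464af4b4eb08dda0d6006ec1d0c1542ede9341db3312c07197405e26346d6c07f59977479ac3695a0bcd76ad434f2043c93b6b8e0292056d5b93c1ed78dc33b8e15d4f3619eb62d563b1a279caa3ec25609d03fd6c744fd5c9f3628b74e11b2e0986f0ef0f0d9111b8044a27384215a20428d52f40529cdb27832644ab58c5567dd233877351f92fcfc4a4e92094802d5d005987b91c0b51d6a08d0a0295b4e5875c47650b49537400cb06e191f52887a15489536580a1d1271c61c07d681f1337bc5a3d453595e6319870854c414687185e69d0f268ed37c5f469b603d8c0fa0f2596b10ccf064e4838d82e57853d7f1f8c90e4a001800060173f9802f1d6128b25d170215624e55e2008151c8420d11639358085c52c6341cde4bcc74c01613410008b60ec3a438370d838010d20b02b4ac2447c13048150380d02403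
noncomputable def e9 : ℕ := 0x83cd9865e4404f635cf4401035461b1fd594ee1828c7945614660a569d254f4d8726065254e5fca1751883b90626d4b3dd24451ea7a1343112d601123f93f7b9c5798fb3b1b97c4b0389947796e0f593670d168a227421a7853e729ba686250505d3592f6499a85e278998387dcb119567a5dc32138854ae871557d9f4194206758579da5460cc7e208068dd3c8f88144e5308e0d0fa834736b49f250a94c0a7808681bc19859d212c3507a0b501502a03a690be49d0432883765bd8902d641d646c3e529b2439645c9996e0122cc610444f50d1f6fe11700d5880ba734c03f1fc180e822e121160a739d10fded6596859d2823cf1804b93f4b44e95e0a562464af6f12136c4757c877cd951557d84dfe5519f5f1794a82a535d71254416407581b77106a81d0c730c94160e3c0bc6f8977bc3c6d18a6b0305e1fb3788969a1d264ad16c752204165d755482718dfa0edd55e94663d5c6bd810d8b653d5b4d9b01e0d4141f01b88a190ac781c805d32584a63fc6c15182334e7381b50ad917b18b841c18303724db607067215773ac586256d40a1e030212680d271f75edb148803171df2f5fd44069520dc0cc13144b173de206d7e7180e6ed173148c091715d80a4d5116a19b4dd1c1c88451cc74c5c3795862552e1216932d653698737d0f8856c41d5a10cd07ac100884d80c1d508185616a1b4c161056774e93cd0a811a92348147482679db2dd6f1f0800200b4b0c3011d31c0921ed1357529024e333c6613116421092fc255d12b48d391010d4cca250570309ff481f90b0d26ac7e244a00bcaa291da59a23394b58007a5cc520191e3bcbb1d857399f2631b34680f08d3c2ac863a8530e4020e18d1290b7085e54cd3681f582526318280042668c776b8321f4b855dd826031014446a8f90b8902c816000153846b1d0ce1881f279e33b5451c49617cf527442169c75ad8e58ce4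
noncomputable def e10 : ℕ := 0x751d377191151e429d79744e44a1c7871e289618755a37261453d705f0f389d386bcf16796e0bdba4f60c6d48f275a758c511894e359744b11c181bb379c50c1c454c467bd0a4cdf55a8f5285fe735fd6fdf32ce24038cc78505361eb24dcc2205664c225198e46a071f9a25b1e33356d5dd3b741df83504010c97d13f2d0353c97b5f5356495931dde7c185500ee3e1311118a3710e454276b52f1741d238bd845296f9990a5e57743153089705e72f1d661a1348569549ec7a1d73d98f45c020e0453d13039e062a8b270095748fc451f9824ca5414b375195292d3a8c14806d13d8730864219ea398a600c982b96859c552b1880055c405415555e1e516440a48689908dce7194d0cd1f8759c4460a51db38098b82cd32dd18031445fc9b1959d7d9e083c408655f1a9ca2ed0f2fdfc19d022d5a9760b07e8811b1491e16665c2e842001acdb560615f84c22cba6344356dbd31872855ff1e9f82f8d52a1891a13c0d8901c071296044e596878e588e1f3fdf7585757c9b0071b68062202220245b75913712e05035f13a43d249723e84714c001d9ed054f92a52b6e0d255cab89a0e885d95e90c0c85e798a21d4123edbc2b5954e9cb2d82d315fb20063259761bd9835d36129785882421d121496060c19339ee569c8499060fc586a99b6a1008485785c668205a6b00f01cdf80ce149c214d00a2c5ab3bc7c16c1a595b2234c45c5084a9235503e3acb86508a2308486c5c094851ec508590d0a049490136b8b902c7d6950925cfe0513e351a63b07470d07474116097302434768d94940550ce812094544fd0f04e33d0b601b42787368437514af559cf5bc1e28c06488695ad8c7a53246d9a0ec393c113681b1344260812e1641b6405f3dd485742c4782a1b8c31049f389c20419f270ed32db96909a40c18059db34184604a0108c8380e3208c01dc835084d07c7f3683a0ac17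
noncomputable def e11 : ℕ := 0x83cd9864cf48cf6879876cd2c46536408467549a1a90d0651b6f4633e0755a880730ef1e45e5ddd271d562b9a0420280c08634d2f645ce66cb9769127061d70ce120c8a55d456a4702f4608587a69df30f03d6e9251098c6edd61598d0b9b72b0498890a041a385dd73959e4e9a654c4b6b9e3664cc638aa07ca9441fb1cd61854953921079c3f6192a4e0b70181c32c650257e238357247d3d1b02c1823e6215ac02274c23208d62c9f5d9057854653d297719c611815514d358e27a96d3988b895e86210c4f1640adeb3ed850ece3734c16e5aa81cb45fcc43c4ba1104c569553d41a72cff491966b6053a1ed5211874dc5410eb6007e65c90438170a4be0845d652040907c6255f69488061bf471e663cd21216f5c54b1985325993549f013cb27d07b16927278ab780ed7d4006c8628687224de47a5636a07f525d04f95e479a1319d9165096d22330d7331d68820a529d671be1b5009b5b80f3561c35c77378b1264231d9df191017dc0343dd4418206751533513509b180034371907b94a510a3700c90c8f7344143cd6c2444e005d17115c4b91189c844c5705c8e951c2c0145231526458a45f0bb2bd301c4610348788008819f8794f066151208b34d54142c8c2f0a87c57a589751d13b539206bc3915dc6828d40b4fc775341413f84e0c4e4514adf97795b271070c441451f617d2d581c26f8ea248977bd337211f0e8811b0d810cbf0bcee114db6d5bc4c9958996676cd03f9fc60ca10a96909dfe8445523d74251ab3395d19c68078788921f50e0b4746b2e0da4844a6b13d06d781a57937558541cf05a0945cb5629b8225f20317b729d80f8df2159f835a280ca2808471ba180e04d038b6400401b4227f454298e00d9592b54c789b6690fa094fd161ec488125f4074a1ff4de0e16cc08501528004170113b01d39d924699a04c0a594338040b328f2261030de12099fa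
noncomputable def e12 : ℕ := 0x2f1a81a0aa7fcf4365e83800579d62648921e0a77799d74905269ba075792a10e235532d9b9131c105de445e038111f51ce988ce873833461c521d3946dbd0d1ed61d77369973b93c7d0d23fc0c6e220875c600a06135b54351227e1763d2b6582f6b4763540f2851153e155651d299fd3f03a3c8400a467281e67e968088fb82027204587d9b137a12829e952554788bf2112e6f0b857513764612d5803de262dcc73bd8e468433cd08360198590359d1528c047c1db0a93a6221b12d6f775a41a8cb511723d5937cd7025945278c12b1aa2bd63578593445c840187c8520d51e5558a019866407d490511d13f429c466c00080d65fa1c508df0717d6bc7207c6d744410b1255cdb68305f1688c74cb02ac24488f66dc238050f6118b2656115d295a8b2311ee1e5947e05e3e07e38ccf24ce4240c9139b21fc9877063500211c0eb5596d34d4b2201e80974740e57dda30f1fb814106689b6b9e0750b951a0e7841a19569121a00ed0185007670e24180b7ac0e051cd70882371376a54a62622685cb1d4d0695ef12826498a4801fe0342e471324d5022f61f581bb13cf9025f18859f14d6475c9448dec5ecf04d05d044a2630034c0a56987c0593d0a08b608b16d0553862718015441b069e0b6ac691b13e3014e5fc6f0b581536240f60f861cf320ea664cc755c777d830c8564521350d2c11985094d44ce1a219311ac3f8355030844109217e491115b30acfa6fc774b5365b8c60e40a4ee19201d83c56b0495c189272b850568b323d8d2d2257203042c384a8716b0bb549383397a06d515f1be5049c2f83135d765b06e3752f78e09644ed0d9090f8972148a68889561ca238472a51941dcc1ec64020495d5f57f09d15066768e62b55720d95724c3700ec2554c521c34a16556d208455f16d0c6797881cc52e8fd0047333516758fe39dea4007a36c374117187998329e504d66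
noncomputable def e13 : ℕ := 0x315a21ee116a5f0569af4aa107bd4573dd8751a071585869231b142430d077115289ca5b11826951885b28253a8599c7c5327ee015b60d5b981669282f98340d9b308a844075368c06ea1f54e23529508154b1a5552186227db44490d6917264da55051b6b5ce3c9e6291d1381ae3b8f012de0720a95d9590b893658aa4d0f44ee044257d4f4674c4fb3599d510a6275772e916791ff608cc625fc44e074da135858b375f4245f238958420b4559d37e6271cd012b94c4f1885e4fa0c60c2555f1512e6ac511fdcd1ca1e4e12d6ccf65bc6e410c84dcd97b1333cd007552411490348d85ec5d21da770dac38d921e01e1649c2ca0a1395c519982f0816a12b5890a1e46f191175c60683a0355d272ecab6c21985e0b284052d54d3e17e6f926610dc67cc1601cc7b9a67dcac6e5d93a94e50dde7cd75335477a8e656db11856959034248a3480d32b49739d3522c656dc8815925881fe6ed07295c922554264ca7d4f711d6a685bd3b05c1007c894492d98e1050614c4636daa76cbd889b82bdfd769951ac55120c4478e48918c1e91f3d4e97588e5d0d723ce51d8663e55283d866fded1c17a4fc4c70457438b31485b3186a5cd63486150fce87761c2c1eb77d491808c86d6510e261603d110b13b5918749b53de14bde50494070a02651f6074e1701874f9e94880a2e02771dc65e1d73383584807678fe409e863ccb6d4680a5394440f47496861bc05c02280155781679c1c044d1801197420813ca73ac1465dc40f97c7e8d50c15d4b1cb628fd63421129f80cde342c5a068231d0504700c17cdf5acf1749e245063664de59d7f09505640203f0b95c1660d81f5802230ccf0c8983fc2b021480a02a0dd301f6143501b68c9e2fdb60e80013438234391783b0f0101086d2510f0bc773bc714696820c01228802092904cc91f88421426034b7060190180e31c2c0b40b00c2401009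
noncomputable def e14 : ℕ := 0x668ba40ceb7a8f781d177b1862ccc42f6155308752e03320346a0978921e36d537f19052964814786a95479dc0548aa7f87b6c1163d1ac7fc6f66c644e4a8435a44c5a2806228753b3617b3092d288921fdd42b9b1188542c1cc305323160f3e4f34da1a268e55de19670557487986dd66213c1aa0c449cb2749c85c725b4ab34ca53654342086455ed4dcf646c2e23de060e064a94d881d075d6c62cfa88d5d5b93a769dd0c626426184fc956e2027d1f9145601cdc53c8a976d6a2d04b2450019cea698696b594290da859417d9af7e93d139446f8705c4d664c9b6d1c94c0e332ddc55447605fb7f60b15d0a4a01a13c462f1273295b69c43638811b1624ae21721a05459d791107acdc821e82c53451996799e93003a4b961871b74ce12764ac354a36f59570604231855f5a9479c35ea006ec362bd8c6106b5721f051f85414246176850a1325233a0ed2245b7601b1ea0a559b2838536addf22df1080d177a111855a6fd9f450fe1317f7d493661780f4941a0496e992375454318239dc25e5d5159ce075cf2d5071d535398c647d2c380ec5ada1299d116050695403edef5f172389b91b833489731f210100994bdae2410e0497e01ccd89cee105f34f9ee0bdf73e15f53db31209f0310151d9e341652d8c33d59748538539c4729f21d9b644dd34920d52483784306d5662ca0943c3e4808863c217192568d74384e40a4be474174451a5bde303c100641557816624110d504894e956569078df7c05d66587070d75618008a133c4cc7948e6f0de47157149e24a4bf164275c1063386059cb9349193c18d3f4cf6285c1dd630acd473465408ef42cfc5d4b72ec233fd0531c712e0250982d0a02a0dc452612618c3f6446d07dc7014060f038234392780e13402178421984a1116829c7e0c85f0280b214802087404cad1f424228080345a010a00003b258095200100c840602c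
noncomputable def e15 : ℕ := 0x3e8ee655904f5946905e5c05639844180521459f2b8c088122325ee8305424c3f490eb77cbf314cc1961c1213b6981c86d1b4d8ef7f6141b9801fd594c0f83215a221c4471882194a119cb089b0524b77a041751d0154da7b532289b4268692ad6d69c7b828b41849c030910b8232e88f8885d0c22425c642cd961242f3ccf9509521be18604d009c733546d6e0f03804074d0f350d9510781d9c1285255043a388c170c1f874a74cdb96fa1e869831f45a714b65c89f0cdcd7099a739ca744bc3958c4e0fb66cf70d495502232e4c750cd63790d6853733d7c5e547608ac520e45cc1e7cd316fd464d20d5ac997ae1985ddc26e0758c024b5012d55e84c822001d01cd76ed1a4a4df5551218dad10d4e7ec1a13e1248c0a2c9082a04c6f5ac4fcd36a4346115644dab05ca35e870639da5f44287c8c53d2e425d20420e54d051f9c92616c7a5fc2293e6611e000a40513c75a057558754490811c001a022a8fe2590c721275856e3490430894279ba3355f83c5c451e61645864c3e7c1cc3d5db6950384067310113b48e845657bce82c5a31e86838dd9618622f421376160f49d7a8b021dfa6806a61453344a61e5cf5801b32c50574475dcc61c5fe52d2880cdc75c2d5513539cce6714c79d1f401190c5782ec772bd672b4a53d1b22a44a1c9bc5d9f162e0b4e86c718f2789e53a820249aa4997e385063fd6a4b0fd64457235f70a8250a171560e92815b4e4242048416d0a6247c0c98d5ec74361501d5ae409a2825ff5bd4d6dc8578db1599746d8ca5910b455b545e0136e153d90e7e59262a273b19e1acf141d9d5a06630c4e2f9af12d45665187d5e1116064bde03f1de4a9f617c360202b4451d0100f45920895d871dec7c98f134896a0090a42c55c134855c791695fddd885977d110820b80480120d2b58a0003805898160f026061b30dd7522c037e0390640b0ec1503438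
noncomputable def e16 : ℕ := 0x6a8c44f20c601887d023174f13a41f1686366508795496bcd3484c0729e24083228e24448607746a129452e5ee62c7173db7764485b5233546e79c795d4bd8550a258aa195cd6f20b599c81b5ff28444540c3799ae749866e9de7a57775d8a709c3586004619142dc62dd8f6d842899b57c07427a11849f88754c3f0bf769db49a037e9a05bcb3179974fc3067455394cf29099131bf5fa0829d3b488926114835ddf4d02f7bc1d50cd65f610761b30440c658b1360b83504b3d2273c0a9381657592e2b0db7e6221f59e371a91603f6f97a199f5389b9148d93ccb53d9400148e34877309f34254d538a238cce54dd4715725e221138247a8b63b4811b015058ef31c704c488184765c5c90cd89580ab5b96859d424801926dbd7d9054f5fc67dc14da144b517295132293e4cd7c57da54dc224a9392ed47685d12111583840071760d5ac52a0d03cc140535025874a5cc73a093c87255ccb4ea040b19c8090601cf756564519a715c7c7acfe09cfb318bc7705041d4b17cdf5e4981d5e02bd93376253418d8707e47868430b23691f53c91464fd5d141879e386c943e5853fdc788de186181561cb4e114438e1740ee6611a5ccde6a170754e80fa0185d69859526b43a818ea3d45b74e19814e76385668d0010c4f4bc59049c07f5166502071067491106ad6c6995d24d95188696310f7a2070d0c823c5c10592398530c56b0a4be0e03c0e57b1bc7a029627dc10578024716a1fcd106c547b0147b5273accc125f2269fb21db051017219e42709029963828476ec9d881f183e1a6e0ca668fa144c5390b44b06b3b156078212c17f23182640f81cd2540c9f0d9b2335b41190d6c583069300384d2248b02c857f8971ed1b0ba1f2a0950951d84c0623400190132b52b55478411a4568ae66d545443d324042815b571320982d688800ac3b004ba0dc45444034a02820c18020820342a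
noncomputable def e17 : ℕ := 0x294b24b51815e113e023525124e9293d51c4a14e720417f0dd2d0ea73584689018559d879bd644cf7e1cc5c0b51e106050e42a0e7870d00789037c53158ef351947d9a6355af3886a73c202654727c446fa274fe07715d4260cc88cf7639f44f827384f11d8d92edde7ada928d0f121135422658df01e4526e93b25061030d7804d2310f07b05471160165c11308f771d364060859d25a94a319b15e568118e675d346fc7f6217d791c72cdfa16c423a08768119604b11944b0bc6e83116860c52189c6353d42dca8206d1a0722bd404d4bd17cce79e04329d67419b168b0808734022540c9638cbc72dc6780664d96b468a1116092d9f5380007a4824888a02dbb83d933ad040c1fb34e1d139d5439ea65d4560c64504a2649fe3587c551747f57b7a0e5068ff0f4ae245b75e1a5125c9628c8565f32e0ec5ce228017e78a0d5191e3360678c55838f4084fd7e47d7b61a848474c99a07d4330964775896d443344a96f09e13d264356d0cc080d1233cd213b59e2b5421405d764a61d5d81702286cc08914f5ba19885755c51185169201562fc7b595200b85e0751f700fc6b8b73d951618ba6ac405bcf27c8de615b6004671a42861c62304c35e98f631e16e092795ee1d2103e49a5347e2e57f0a527661ef0e14c55c3187cda62d084306f160be4b8ee56107880070e90222c366b21756e05145440ac021e9a44952b54db90a99f5213709809670a47995e5b162095a8274706b47782c833a49732c0e440320dd674260a24d17599800b04a049ce1b0ab7dd1b3715c224c931c6384d2f2219905dff205823f8aa744192541536db3044044a87104c3c0d46b7c4034b105060ac0b5b452d3c2801b040166c1550911580d76211305f1315c88d4cd1d029394908e6588c035df68c3f29c3b58485568d86a84d0f8060e41c549b2655c35dc0569da157cfb575143e9da4280f4e1c226ddb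
noncomputable def e18 : ℕ := 0x799cc5c8f177d2c3b4a12b60b549fd3cd1a3b98f269b1834e917519888bc565214a1911ec7059187791242617c0cd757052b16146506155519e47607195f3589dc4c0d1115ca2c8be46dbd74d4e57d3f5f4852fda148d293096b089d4445b5000063e4f669d7a541e26d1b014d797b468846065b5884d2176816c78dbb040026e0dd695e78290b569c7238c14e0ce43c3e138126b0377c0db1f49b3541974880035f24d8920860f03199230fe830875e116168b353425045f456147825b3311dd62cc32ad33441a3324d733e1052c5665c6c2d92a6882f500c56ad3703c323b1424b42d3ae0534cef418835a1af3a1aa1c86d38d1272c82075ba02c84024622641b4c4a32bce60d94323c13361cd3c2182e4b00f5ae87c8b7a92753096450fc52582795db6283c71a1d0a00322969605a60ad170b830170a5894432404b872192d108244274095d400e2379260aa1a19167662241b9900d00873a1e3a8757414f41ca9624051c4aa28a02109565c49e839734f055478dc028072ee21778d986d20404d2761be7d8a43fd2e55e121e59b7f9a84fa005bdef765617e4d08506313cac7581a709457c5f554dc0435fc8217e495e01dd7b1813217dad639bf3191331cf2394a66016e754d62dd2f369638121367e266597660d3a3f44019854431ff07cf889c86745485983b7a50a1fd8c004ba7ade11e170145c51bcc04e5fa6d8260b0242755c1845b6698d070311e95e15ce7690b84714439093726031f1d73dcbd5d1841287e2a19261867119ee32d853316a6554a178c8711b25fce03e8f5675776e4a788df7489bc7e1c825cfb42551061b76506a4d5cf461a9595e84399c858d4080174ec480789f054b11cc9c11d03414742b95564ce10fc6b2548d2d4ca7688920435880f447dec455fb37c140e93d14841164381420112469134390107608dc356c2922104280160384c1109433560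
noncomputable def e19 : ℕ := 0x6096b49dcc3f11d0183e569d13ca0d85da7868dd5f8702a54e4e5994acaa8143783e075e1bb53c541eddb4e1973f8132f947660d13ccc4305020b8ed6a08f2195f689b16d187758926246c1c4684fc1b431697c5c2455776fc103bc8e34a25191e082cde55def03627599928797d779537ccc57b511459f4671b838832884ba228bc5c479520da794a3285d36cce04298a26c07750e4694f736c453e5f85b1f736210691e477e2420d5280d8f23185705750313e0bcd31f8c0291a652475679d93947c5ea0a511624a0196d49e4917214d1713dad864cf3a1075b5a04dd462952f6c9f22e0c340de25e485308035512a7261f4107426905761606dc6b020ca221c607e1d450af045dc5618e685347f098028bd870212e5516a8366514c2b4b22ac12398d66b22650d3384d4b78dce5fd320b6060096f2c1551e17c3511c7aa0c7999a1382b6c1ff4b5d25662029c772dd413a55d7845f5b9cf1694537d70700ee6f512604a25003348d9584473484273e889440d733422420c71f6081b84a46d317f53635584644421c95b12cea4645b112160f18b7a04061805889be468251a80f6b9d05284318d881613c11d133c542125f631823499f92ec3d734b6591dd2d1e73402672cce711af68d8047cac0a9b921d0f058cb080515da0925920364c97280e2a000075c7246020a0b31489c7205e299ab5361807094119677ec90321d70c40139d830d4ec1b4f81bc50434382344c7d4668501a7c03f171303d89f640ff5960041856372153c00b0a61b1a50b011eb025504b04819c7a7b90e0916155855201ba209e90d07f4a4182b83963014838593ad683f43b494934248b48963174fb1812e5d1bc1896a2105705d3b400bf7150120495848cc25cb166c155787688d186a441571fa67d7b3d465658305cd356d89d7542c2d5fe0e93d478f463499136046753a07a0138d9338461281da7b1c3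
noncomputable def e20 : ℕ := 0x7c9dd5a5cd7e9ca291556e1d173a056b5d03614136de96b9ab4e604621d252dd54e1f0549f1311f561d50872125296a461f8359253ccac6e6237da006a1f9821b37322782a0c759c95319d65581859b2515dc629af789e32e13152557899e64d0f46807973def8397256a1087a1a75e1d891f3512227b9b76d5663ecfa64da549142601616858d6d1967ee1f720e171dbb7d1e86097a7921586d40850721bdf75f520708ba644c56f5d935d8f7b10a60ca865c43665ba7ad0c70caa68c75679786f13548de52f61181ce02888766db17a9bf1f06a69cd5559b05b58e4553b324cb38dd445c744b5375e4dc34a028947717dc6595104392b6f96026d5e2f95c56dd346d367797b881273ca0b436062d8f94cded83e0377c833b54379dcb519c0861ac1c122424c25d89784e0d5b958631db53464781213191e5bcf1588f642c7b550a57f9c162d3e4c1a63d52e4444a564963a6015c4925dc8e0d0c04756433963545944a59c4f4e239066351041e0fc2ed0030c213f502715c45387f2a52a47dda7f5534b0b32e49a51cec12cea464af39c56369075cd086d98629c5c2ad6c85ce51ba1967dff5f10528d6b1385518d0f334c85d0ca5d4cc0c92f68a093fd3c285121695d624b2405a43bde107d4f2d4913c0bc2c43d3a0510d9fc375923dd9a37ca649a2134d853043a27c6d2749c57cee2647d4e91a25494119162d0900b9142346c22c2b22488610540948452082204803e0712617f4a07a761035a076641701cdaa1f93f6a4d92788c1ad7e1a45319d061953233c621846059c42174de080bf1641d15ce6340861a0522b850068d105c4c3ad1c1244805093048446605e104330fc112c00f0eca00e438034ad0d513100c70c4300308f0282c2282a0a428088082142408c273f85b2dc1e1601c01c4f01418134160544700c450f8020f00e0dc2f0042d0242606c000640404c1002c06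
noncomputable def e21 : ℕ := 0x3a0b5344a3545122c20774df084623505267f532538a824da484d9a4fc755e5407a0e2829d5244905e8b15bd8319546580e3175597045b1e1034b8577dcea5ccaf858cd6ed3d432103749429452315cc146246bc507b1178004f6e84e479901c109130e62b9cd834eb4d9ca2a6041cc4b4ee0b6aca138049805163dd2d5d8c185c48368477b4f6699941ed6a1196424a1239deb3e1b11989c5619b688862206c5edb234db47e1d075040746084186732195676034aa22851243003d779df8958b791851d9712d0d97edc31803f72e050cdce68056881c53b9b86f49723cb35d4d67860c3f5895583035c2f5357d411f9775503f15f6a55c184e16d4260942a0a1fa54982329ad710cc1655486cbb2b14908cf44d020865a87f0641a520434584a0ba878f08742e748352f9fe09d55529080895a0784548d6787e2656cec8261c86925511dc075ef485275096822d7e6b1e77d90145165299bc071e622500761811fdee514541554c1bde5670c33e918599c67d5ff65d1062218725a76848e4e86e4f81a7d0f9781b03718a5f12c89cf117d1c769d93fcfb818f33c9613544464d6d5c9a53401483d9236dbe644ab885ae1dd385b8b82b5e975d1346c3155c9d618d84f08a25434409f3309695dca246529709c071cd43a51a064996fc9f6020e454b97c4416580c758a0108aa29c4a6d94366215044bd0c98d1f89b5c1a32fde202c0a209392007c06c5e2148d2311d021116e5b71a984268711ae026ccb2489cf42c621e4e501d4b6a9481f47a1d08718d9953d871c9053f8ed7c90a379374d55307d2f6790f76c6d7a8e431de337d8f1345367dc83398e5d0980f18c5b0a42790e58d7833d30018050e4380ec3a3183e5fcc42596b2d8b70b55e575620052b0842c0ac2932c5c4cd474c45a47cf541cef3241003c16054d2060172f013048000384321083204091a0370d802010030900d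
noncomputable def e22 : ℕ := 0x3a52c63de68719633d7d4b53f4f52854527524fa705f32619584db4875ee354a8755727320b4a59e880e1609d06607871de13f9388654761d5a5a1a37dd193fcf12e85f2961e4890c6f5e36c8533220d469124198d1408e5ccef6419159d24154e53910f31ca1829a187d3b67da21d180759e860dd23e44a2c5005f155618b37f4b22acd25e5147c5df1fd7a1f89b57da41dda66c0ee794ce5591b72c6d58d483e1bb36214241ab3dd7f12c57665056b212198993f4a3669ba36cd4345dc1384825044638ec5c0fb190c16307c81158438a90cd1c5a8eb69e0783c3e2ddc35d4477d4d962891814cb368430c1b82e11e4b901459b60fc2a37a015902c0ad624ad327f9ad30d6f4d9521695988d66196175ad081b9355386c0820242d252691f86e0e844f37c0bf734f5228cc171d316d4b0861807c3c161f9710ea0a1972d1414821a499944bc7548544075dd208e6314ae2d502789c629d1731a22200fc1584050def1cc5e7693406d9d189697e8bb4611038c615c565389033c1b1715bc0714c380df3a13e0697b1812a751f62be276cdd81c0528020c581c913c5d7b4ed34dbf620c05b574374b069414894d70f4497c95408d570659b144357a432410b97099323d392581154140298ca0b82f899895d87681a217d1d73254f3409e74616275157ac42890b6728a02a841309ae2487b2b0465e0312f5ec855b5826085dcf621083474be445a91a1aa2140b0288b02489434931ac886e46a1c5fb3358b8406973c631e9db41cf4151a81e47d51407671af80d4619c725858539c867fc227f01e54d427e17e4250a131ea79de4781de135d97389c721c06f9b74c0dc0309f291a061034648450dc360e438018054e8bc604953116e5b13c0b4260955c0915b4dd5e574015353309d4a1653148d1321cf22b41304816054d60400f25c1805c0d000a22348c020811bc3b0e803008040a40e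
noncomputable def e23 : ℕ := 0x3e187331693895718dd4745c73860c620f96446e63d761f8c0484d3819e13c5c2491f277dba42e0e3ac9a2aca3529db1fdeb35a19778a24250874df35d6026ecee70e1c7be013fd733a4c81d5814eddc31cb84951b66e0a6c8b923959711bc7da26680ce469e3651b62a58d5a2240c9677b190889e441871435326d44b7e20813942405372bde8431e24f5c5262206e1a586e107b5bd5107d5b4a14485e6a46c355ee5c4d82e9e626c6f478a886842758db49d35668c364d174a9057f8f65512f3158c48da41d1b3769a361584658d021d2e41c4a6855f83d7c7d18e2fc57280216985f6d0696fd6e542035acf77421f555567ea0758c026f9b95e92b05c0304d347f4d772cda73a1737dc13edad51e25534fc7196c345a82d870258f34fc34364c12c466580b72513a2f9495858010d167fd4b3bc2b5e13667c64041951cd723c1c93811425ce31353e2f12d0009c728511e2057555a07e0d44cca018fa12468879f50c46d2d5653912627e04531825be187c574849031dcf4674dd249cc3d5106bca75ed99299793b614591466c5a7505ae4b17f294cd1ede5274d289cdc65d6639d8a2ed333a0623f45c4e10219c6b88d4e32dab20dcd2b8c67492960c5a240ec0b88a5c0b256186079a223d4f7edcf6791f50c726c1e7231fc460d47e4b316531488cf410ac141f7648b054c6a5f61116c9362c91625e96dd6a515404f20b4443a035390dc887a90a214800d80e5883b7c0463987c8757e43c555441d800953109e158ea76500219487611c2f45329120080e5104aa11c604a054050de0304f3c83e859c8465aa4383375dac3095284c407747a1e45809e15574446603d884070fc4867025210ad0e43802cc90d5c006cb482430195770b42804804474181855b03c8208c5d3f82f069e00441c149150282c1141605422099301d95e0f02400499224050a95c1308d064090208122c29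
noncomputable def e24 : ℕ := 0x69dfb4e1043ecca1c8eb2a601818e2365c97794b894b36dcd8484db2c6007d0c1770cd6e994515405f1436fd96080706e4a5051fd1380c1554c4da165d546699b05da23431607d5e189de9488337499075d69511ac321d57acc2789524b4f63a8b5101ae79dec49164601e47e4a3311dd251df44850794791fd5a2499f15c9063c58598273a5cc7b917874f7856075a8d350475375ed4806a35dd67990a2214883e103f5a57ce246d8075a20e498a4735938694a65557301143b19c5648e3312346d85075b473ce7425f81803f888ab06d671bdc8751b55e5c52bd8b4f19e281336c9f284874368302ec65535a1811d3711ad40d7a6a40311c7b6e15b03c0406108704d06ad6d12d4e3ca17621587f0d108d104582f6446c288e52f53e8783e5c98671d99385776343522a19185ce5b165175347815d25d557458704e1442e0c3e4e03cdbc044ff134f00d21f0344a284c78096f835fa4c5e8070b80de18338877c173259aa464fc76525109833d205559326ecd6668fa6cc6e418d526e0b4e900199153b99d2e5bd371a457c643e17b4a09c899a07c477269af29dbe3a0444a95017d71408223c50565d377f91818c7d545495b9a22313b4691372a0972d5368d8a2dd39625c0609c3169d02fcac1e07382142434626c4510285b405924b9c207c1e7be2130c9978df70f4d41647a8813f4d47e1d9702d0c51197d1a4ba0ba0a22405038be0ec7c14854215110e800570064f4984718484456761db86d1f38c320c4aa43d2c131c6179a83997e255ea1052751dda2789f5d0ed8706d3496110cdf069782a0497d8866057f2b99b2755484d0e478711ad2f084930958c80ccf2c06858d8e19c2b234190e438210ad3184841d292456b53c8f0b52b05c0222c103f8280491d32cde7fcb63bc4f2f0f5390a620d5e0f0160545c0b0452c8264c02909198200365882a14c0b324810240820801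
noncomputable def e25 : ℕ := 0x1096707cc17a176390bf650a14ed50461c13b5ec630ce60e0144606551f65acae3c4703a45e580ff4386e6f62041046420793354f258fc42de42f5e14ad681a89e144b33ddfe898c832cd368d9b1306d545ed4ccc03e41b6018e0d05a310985cce3314944a13f4bd1a4653d7e1af7d2085ed1f675b110dde2acfd31d2c4792e17d0d085972e0076787e1d8b7688110f8c2618eb3f9be24a25354526e05b03089359416f1a950ce21bcd7269b9590d44c9844dddf4020f4561a78853839447cd613cc351ed652c50924d811a02f364a56fc7f15850644873798f1f57705078034fb3aa17561b013cbc696160fd7f155227b96c29cee3e88c39dd2665627dcbe22c7208c1a395a664198731fc44917490325e09d299c61dc197987489d49121c98284a440b6458475c42756d4a519ab659b67ed3a755212d090811ac5796f69ca34b4b04d8974f91b00c3d2445757552729c37a4f63312037d6608875235264e0e66909f254202a0e042a152a84044ca279cb967d7c414ec8659c3d06081559655b54d0b28090157c44070636b5fd61d4d1611c508ac2d4a95b4bb26da11c5071886612c671718a30d1436972371062387a07430220335d5cd709b440dae5a4ef190d07d4297213c75d7e4c557801f153929681ff75a225b8614c0ca64e07165d854c8688d6a431404a82d84925151c479611885da7394c31a1d194f85c17975102476131b03c5718d7bdba008170e0106a0057c1db36d5a6687c516097c8e8104316eccf360ba840f07e48158dcf7adaa0b9b7649892908f781d96cddd3ca1f125567e97a3750f48ddc80c4e1761e62185214d10786b74caf1cc99325ea6c9278520d78d47890080ac800980a04cad385d182d4b3d58b86dc50003a054064e40f7404d0383b701cb5549c60a185f5c734a0c004830a00b094690dc454d48a090840da1c28004060395d1480242c048820582a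
noncomputable def e26 : ℕ := 0x811cd88cb12f5600cdcf17c4f0683008d862ac665b55a078bb575010d11b3e58e26450195ae45a11549e73946a3c4e475c42645ce150a46d106169f0231ca279ab2c85c2e097320de3cdb72bc2741dc81058d256150fa177f8587854107cb5258320897127cb069c573443d1fc604d89a1bdb0110876b5a606e072404e1c47d6040c5113150a193a0ea5e1451660f7b599084c37bcb9764a5154681e51945c2929ddd3ed505b9fa5a1946614d7a96c741180c5f8755e3795b35c840781f23c97a045a50bdcc4409414d55124f68606d6414f5292a185678405d23deb68dd24c01c530e11c1002a0735d07c3d1382d9b15ec7a47d9b4508d63d201d1115895b6a102690ba10c5e1ddd15c0638518b820861a4981f8aa6800b221954b4b32f0eb310fa88a058919e83092205053d6000fd96319af4a445358db7d58584d09596122fc782dcff3dcfe324646f8d8578ec5f0dd371c01ecc14ccce592017dd763f5fc8706e3092c875287104b39a026746b1d52f552264396a71d6651d0355d0d26de64d41d885125193264d7f5a49d648147ccfc6ca0b52de401ca37edf60b89c468e27b0c78695348e1668835080d9500728399a4d1872b5a15e55f72d824f937759837d08b559bb430a12d1c989dbd2998a87d7d49a0911d61048e93491c3013b245db7e50f81963620063c1b87685242ddf3294e67ddc3bd5880cc565c624784a4ad1d224264e5b67b973228240b0082f883491fd7508e86ccf49d3d35d77421151d8a27161e489517795c35125121d3708a94113f159c339d136fe25335c17a60a3405119dc67c4e3835aa7fd6f7605b0410a34d9c1313c6e4ac0d93a35620380466d4cb6244d038180083a0dc036f18024dba37d845652e52009210011b02b3e0820a0256a4ee525ac7a0da2b9e26317e280040ec0005d4304c0d5ac390540f484cc0a880028853b4160e0055d43c0b419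
noncomputable def e27 : ℕ := 0x881e0bc075f41b5a4446203f22056399bb560955bd8426c7a1b06b375dc480426c8117c4304709f430d574e0d1781f6f5d02dcbb77cf044c3186c412f85972c2727a1e889796ea15499c15590078423451a2769496e4b2359f28480c871801dc5f595702381c12dee49c35714b4885d47f4a92454e2c5e07a498489252e0c3068ec140d00f58e6099f59c6057ce414ca18762441950828f2710ff82d983188d4605b76136421bf8616e75c6e7a0cc7792d76dd531d834ec675f957190621e11050d913f51a43c3e1692e800f535d8b535e725929555fa19a1f5f112379f80d9aa33d281bd8729ddd818c13a475759fc529c36b4bd36d392fc6973a1356c8c4453f794b9749c083101435af4f9b8731247e45c084e013c245dd3a649eb5a0dc5e9a9551607f8fe5ec7c5799d424474f2091c1a61ed751f4ef050d320487809c9765057aa14615b7048631c4df6a1f339d64302201e4973e1ef58cf70a434838327d1351a14f898e5364335858c295c2162056f96a5107e5453d7b1022986a53189791b32e9e34656663e1a275a72a0ab5ada05cd2a351906b18d4b207685f52d8e165043250da2c1a36190a3e5c7678bc32d993c4ed484cd2494b8944c308ee820b383d1d148a30751b80d157b5466c142479161cce85b5b62b46d8059b5d0c82b0ce080c53ad766c40e184f4129e6744ca4dcf61199a7c09c788c448d382aa107dc89574094adc81453120c8a0982d570844111740cd889dcd1d87f1c9c651d073ed594c9f62b85586562728485c8e242c404cc9a7fc74288ea672175b1404bd93264fa5498138d535c5976d449344f30118a34978658fc5fdbc114b57ed34175b46ba232bc3a134100643b4c00373c93655a48449023ca40ad4802c8522c2c218250a80815c548591f69465569458104e05ca00183c0610e3240d5040f0580204c2e02882004286ac050e4000dc1520038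
noncomputable def e28 : ℕ := 0x1506523dab55604758b50f9ae72181681822e5f029cf5745cd589ca6858018d3489141888907cc614d4b049db285da50f4b47b41d849e358e113985d47499244863d03f06d7c67c9b4141a70205358577bdbf17c4f59d1636a1e1ac2e159e71c99c6b5878414534a15765cf489425a5ee77d7448d241cdf2784f66ddea454c213a1a125c72bd1062dd7528ea7392a5c5b1220070cdb80c1b3495be7c5d552df78812f5c04739450255dd2385508d99030141dc4b248d75ed0b4a5d2268741fc345a0645116483a2364cef7414c250fd7e51466a0283031101887e8f781c4100d98679c92b85a2b21c356082a147070f0380b8710522d95e83d727506c444890a55476a030d4ec044587d20a580602a61486d408598d344083787c55d567f1f587cc6404692ed6a198d884de88997f3f91c7d85b89c3640d19439865705107cb1595614007a8015f035ff4c92c2349e5acbd2cc441d846409ba36ca622c93109a409d3c389cc07973651952fd91080c33e9d3340757ad174f9fe705c2338481710f5261d46db9301c31e1bb12918322013a56e33c8768c623fd4334d0c861cb519ac19dfb270e13a1084b94f7b1e91b8a33c5db2e98f048cb310210bd8a3b96627d1e481a865ceb568e7178f84993a540dc37c973ecab818e42b6196f5de6a8cd1b4bc47e25275f841802289895e1a2714ed4246a6f12d5e5e62c84c6159d66ddc2f92b56c01205e06d47b098090942b2308a6307929443089fd71904564985dcd9545e5698596d8e356139538fc4a1901a1b41c0ca2dd075d9a73316f305a91f57e4dd3d6bd4d3510d1bcc714d963e5e40011a4291260c7e2598e115b044e095b0a13c97d5b4100100f05c4d5d437885e24ed36375382a8c502c2402883575484c42a214285495361071761334fd92834f30180e0143a28032484135e8160f015324a42082d2002c82c39064384c0182103b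
noncomputable def e29 : ℕ := 0x220140d5b2565f129d01594ed631ed83cf01a1d541dd333d6a0ae074c85c2f1ef61d55808661285b75052340ee35dd1130604f8507a0706edcc08c2020c471103f840333f503084495e076361df6b5063bcfe54848835a67a5050681c0c1746c57b4907437d6b6e935530cb10e17168b6669dc865a41589e5f55851d4b7f9542757c2d0c1188a536cd2510bb3512d4d986100ec5811b0f84236a053e11c489a83215a66cca5004e2c1121a61604471241044e199498de2cd83314b9851a2849bc82cc36852033a1f738e46f5ee3449b28c735a10b7cc3d2c60e881974a4934c0f164998194dd72dc11906e17dc5161436e5b0454274b028725ae6dd1152084090e5759d00755f400941b49a3a01b7960a524f5319092983a63deb07ce0868e2331c40c4e6255701e99f4e47f34db46450d300e7178053fcf2655460a8995e4af4521b2384f3649c3261c785e02014e798f47ec070bc5d0c9e76002e208617f5673a9253dd0f144413f1aa5b4aa335a74f0c26b1026716f53c552a21d5440c68c7b2e8638610e4321e2e0724a06a7e9d84c5dd639b6884545e97f1d5666e0d558d2f2187c2457619c4b078e98251f2a59454dd21dca403d964d19e15c7e8109611859729f72618a5dd733e5ab7358d1e5f514de2721de5f9af065bf1e0bf558e33ce063e8b723d081ac8c821db80516855724e9934fd8855d4546022800bd249d74ac8a0b017025d94ecf6280392b40d474373eda5889192d5b331d1e88cdc49ceb4a87d890ae2849f846137c91a5c5c67910a44d2e2adec6a4ac505f0610e1289c27d834311f92c9176d56e675cf7d1895754d60990441854dd500f20378dda7e06f7a94a8946c22c2d0040b0197562d3d21e0c5a56148d641341611403588136040e0d8387fda071d6c70e2625dc035a272f95c2140809933041217f0290288900142010120543b6f8810955b0088d0615e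
noncomputable def e30 : ℕ := 0x7653362cec758fd3cd3c454b830d782f10e719ba3f14c2a5c5115d439ce162821739007450a640a24d56e47e1e24443534ac399cf418ae36ddc7fd6c2b53780dea17087670cd71d1065cdc1f01a369aa431022698561d5a6b56d89dc0584f1580b113ceb1d45f349913d47778d077098d411741a0ca7e5db7cdd063cc6140948043d7d4467b0fa58ce93817712d956d0e41bc726b9e6529da4bcd08754e271a8658e5240a4711897782e5c5d37f2242f4aa1fd3886d6614cd115cf95a84e81ca580a042c21c651652d9b6188498261523d2a50cf784225721ef405265e518016182e59944db88649d4b89f505470d21a5111b0c9815181315842350820e8390e18e5ae1725db73094584572760d654866299a3678518182d848d870d7f3c0547494b5a5dd55cdd6cc694e4fb07986850ea165317c0256b0632cdeb00d3a8817e79e0f75df42191603ded7a5050de0a3f87b6edbe48d84830ef1cd64035a97a1b91a88e545fd675f85bd1c190bf54cc85c096815a71c5cb794b238d8c3a142500b55ccab75567494ed6ac7d2bd1a73074178306f12d29d178396849db02ec674b0ff3d9198009379182899fa129e1559831b4cb88cb7028de43616311a53b988541f66908364d204a5922a0f866a0b31c446d5a62781c42c3e2f8b4479ca57e212e852155cd248417c88a16db11305d33d9867cc50c61f0741f01da018098088df0a81705885055241e80c23001064002000653d9b7c5fb1e4404d1e0564d545128266226c9af1ae084c82b0ccf4195581210f600f21e076489bf331037b97a4215411d3d1f8237882f4d9c10445a0fcce5214926da2185bd34c1b1b0d78357b080a177d090d6130b04d0600420530684954ed55161c936427574080f0020a01028c895d40b4f9125f46e7f8144fd7c5d8887dc842803b038c00a4c91c16204809578e256d210988b3051d0d8242352b57111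
noncomputable def e31 : ℕ := 0x2dcfe1793d8953f3c4422cc704250d1ecd76f183788d4791514ad288217b6d8cd14d3b3905a2c14f718a34fa2724d0444936145e11f90e37da229598444de4b4bf39d90155f86c4876d4d95e19d16c1f818f4654e26581c77d912686d698962989d6bc4f804c165c7d1a1765519b881fe8998a315f62e1e83ec561c507188671711817d1f2d8352f03211c9e7b0880fdfb650e55a1cc4ca0a724207d05208d5b755c8631595dcd33214925d3c40c4a590cc6d19f24534519a03b4e97fd815860e7981b540b40f4a132a1a4b030300c4704343b01a2c91b59d8e31db91d91000d6d2199376153141a385d9c044fc3ada15f0fa4a5132895d2ba223191d84c6c572160bc943dcbd618ff35a071b9a4600986797338d7f0842d3e4ef6e1bf051bd778cf190c31e0482a0442256a309cf3cccb454ee6f9754002e5150a2357e4c5081e4b11a87f3546f035605948f230aa840db6a99a6a6091d163180f057989290fd3d8bb26c4c4a8757a5fa4e0653e15a849704912243ce66954083c2748d844dd6b7b58f80c9f2542201d1c509ba2b1bb1850581602150da5c8410c5ee469194b81e3411e1dd2f10c6b12cab74c591e9141740c0f899485ef36133249416c90b458a949c8188d43851586c1f149569770b9511f3891d67ac1d324468654a1996f69cb56b9fc380722e81975df53a8dc3d5ce8354c7c1db795880cd3a29dc55e47c589f72f88522d477294e0202b200264e40a7454b7096c45d666ad26554734055f5b8ce70d717350c6082940a04535ac15e1882d20548905f5d087d565e9f2139f96dde0750636b5fd61c9c1620c879c40f0494188e614692bc404c1cb55e0079d924d5e37480205c38040050dc4534a11885da6661c62cdd004830a00b6a0257a88a0908486dd96ccd1776153c97471e1d0003a0540603ce804cad6344d0383b049c0520090b082384a0010180d8390a816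
noncomputable def e32 : ℕ := 0x4c5372920d6220b0d5a7505e03c96e535c02b0dd80d4b7514e4e5fd7e9d75858906d7d01d521096c5dcaf7aa225617e3a123480fa1e94336179604a26a13350953825c86ae1879dce7fcd13f5c434138770941c84e7f03471c88734aa6808e3315974c1f6ea216a95f4019285585749b78510a372125ca1d6f87926d653b8f83e5eb799ac2ac973b1143c1b07146f21c666ba046d04415e1e764da890a9170be180718090e38c9c8461b7bd73241da23d7f671742f4504190761c1c41068328465287f6ecc42797a7612c244211261a872104d85a0f9f0654112549d1d4610ddcc421606d5a5178e60f44146d3c73d8d78cc249d8a7ee1349951489620a52b22cbb1dc6d5154488d5a088231ccb53486b159846a5b93cc285a8db7598b381d08314c074fb1610c0ccb61b0301643281e0e0791f09c03698d32591e231b664c69814b76b5ca72dd104cbf294c07dd343c44c4b8ea3f1e270d8010c4a575bc3d12d150de6504b264d4188a17b4784bd154fd25385356086a2c50113cb85e1c6859f30683f33568618c3269562f1b839cd52e9f968cae1b90b359672cd470c4b444de11d13a659e95b45537dd5524ff394f72a05f32064034e9149400b8c7409c2174ef4148d468a64f4cb8656618d6388200464934a2066f5712b56f2c02f53d6b85d121f40c3389f100153051c28cd77b9917d8762c84768583441977d60a8959f4748144480571b3391f4094010a80b2240963c4816d46219241f8ed665173f990725db0806514ccf29d5e77c984f8673653b8998c83ce282150794b97e0f54c9701c1547a1dd67a27145644a9a2791c10e092660eb6fcf669116115181f10f5d97b7ca1f8040f00016018040d93055d8e6c4145f1af315de028082082656c244348520c2c6747b319034a5097f9697c5ec014020e4100399a048c95543c0e8184859b0b42b211486c81905c3b5d4a02284d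
noncomputable def e33 : ℕ := 0x77cd35f19c32c722a12925a046ad8a65d685bd74560c6609350f14754d7d498e110d152d91c60c6e63d493fd8c7d58d704d77e41f4299d1f0d272508064c06fd2471ca11f5315e85d481bd4b1f447d0f49db03ecd574455340780fda14f9fa721ae89d51496233c6126794182dc67fa0d290e93f0aa0c17b7be19851a3515cf149de18118120e54661843970559862cdb54ec71278de1c1b17852f3b5e8441a83f8b2310bf5304a0d4922654b425f11f8b75c89a7b5a76d9892f4ba752097155a738f88960f688c278d3679116338d459065511280841c1085c5de1c6e01b095cc3cd5267d0141e06781f8565914fce03c196621126ec10775db2a40d0b40102de21dc684f4cf0c85a40d4f42cc11fdaa80616501af1304d5a963551675fcf65acf507423162200cd2a4e5987d85381c798986d4c8366b56d390db009802ec7437d783bc8845c61028bc814ab01906598ea361763892287c755c422001ee19a1a31de72be0a0f85b741fd479cd179e65e60c3691b88a174e1bc648b85f8d974c6a8846477143450c33ba24761346e8f7845ff699b43e40c841b9238c84f1ec7ede90bd46111501d95f11dd5651ac26c4e7c05f331ca049022d5c4260c58755501c14410ad66e1b374a75ce1e329873d0ac4b4fa7698b3adfc7de003c99a854b938d4d639a409e08100175b0b15b9a912de51cc9055d000d1c2358a380da56050c00c85020a00981a7c923228182f95e0dc81664573b1eb468871ec637486275ce844db23f4116cc20334451bd0d4e9cb3714e1a5054b98512491758e7271f327c504cc3164d6129542654a6529c3765900e89d6dcd161067165be84cb4809602887a13cae7002b0595d5715b474050f5691ad6525ce6151a05203b1b08d04c290b8094c0041588f8384125137254b0119ea20c392308b2241e5880f144284841544486090c90382c24c805d4384ac2a21082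
noncomputable def e34 : ℕ := 0x1ad2e0c5992e9e53341f4b5b27c564248f02b19880c213f4fe040de7d20c584ff44d024e89e250e31fcd134064245681389c399d87302310d4f1cd730191e1247a7850629627620c17fcaf618864c842595b84f8e8488d47a5043c8951a6117c9b3151604015546dca1561f888f607624894c845dde4e04067cb9734e555d6931c2e69c441f8cf2cdf06905a3b0ef37d71199a66250c16433369031e05724df71d49762920501128844c426160781b1e526724ed416204aa0e65ce7855f36dd547b9c223c631416659d7f13c4628d0814870558b161192825a981d813aa0d215745260a238fa650b08785d7689a405436e4d788ca662c16158726a8c902c8420916565902ec6e4d97e080a93889f631d50f4f5318304680051cb6160e0668482a05c4fd524f4b54ec5184c4b2646f4d5c61955816c37494d521d4606114568d934cf7301e01d9760b4eb49dbd0e5952e1187ec411895f0f9772b9530ec9b6d182311ef818905f47d50a124b1df5bdbf7e9416b16b810a77a110748f880867764fc758ca79dfc6e8ee70dab61d1c75cce685ed4bdb1704a46014a770cb5a81a58cd62a87c6c060261d4258d242dbe715e45f0cc76d2404cc3541ea1a82f7201182c32644ad031a08606d679ae63d9343e19439fe67144129e3474b4874147445e68e1b0d0474c46128405820fb8714b4285f5459d0d5d3788c23849d85d707e53c4c0260b0020a8f30fe000040e6a06c5d48c1ddaf6edc02f5b5088b773d078420136c077ad7a220713c4456d8273612372e144a0bf465d060d85514e9688f4289967d8dd4a60f47df55ecbc635156b47403d78739ec530684ddc7588dc695727e1fd3e4e48680a0e91122429234195b41c539c46f16e435dd020044e4be4855d314800d8385359b4d16c79a265e4ab63a05094174ad5b205335783c14d48034a022c7b0a012054242c88a00c4d570830242b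
noncomputable def e35 : ℕ := 0x3bc9833d383c552649b80fc970d21b87023865c385dc6191da001db6d5bf83d0378da7635e8044c773e061119180d9a804c67fc7230c3d629c258d1a0087e3d4df4c8de071b635d3a7b5ec5589c6420a2e9962a5e4835ca560f2490d41f07a84a14124072a06f6b89549c874f9cb81dc96f1c8741e2739cc5f6160c525861fa27c698401a165cd6086b3ae201e1f08453c3f83545588479d51819463d5a6008a8316d465873d0205f181611344b95466e0212d57519e65ddac4b221811e96acb182d011cdfb0f9b06906e3699f16dbb681a91c41b71da1308e11dcbc654ae02574460fb2d49b3fce0699121994553d264810c1b4927e482584b24a55e574a0115aa565e1661eb2219c1762211ce35a4b83c054218b01053951d975a8303dd233a4fc4fdd14f5b44edee52224388f34d59e365f3185300c99d3e5934acea57c1474d68711df5091309167259af0a9140cdf8695733d8576c51c4896c444902387d4356642cfa118b31a0cb2d8ca838756305e5bdb32fd405c90a4b4f850d177d5a34d9e088d4d89cee2ecb76e52a504e8334e630050541375e96e7d1f217cd023d854cc2e7bc4f079de154d2344dc894ce39ccc419043244082200314c47f57b144e53f4392f5783b5e70854e3b1055c4b4421606394a2bd76224ac29465795d71709d2ac99288a32855c70442299ea5c058292268791f750531c1642451036d0f2348c135a82b5557494b054050196200480075f6439dd1eddc1e5b75e4484087462dfe5fc9375986594166e86a701071896b2aa1510c674c5ad3750054ca760c1f6f49a4585634d4c2504c304e43584e22c526644a764765450956e0518c9e524c887d897f03c0ec3a2f82d0dc366ca1d46d2f715440bcd80e00f0411d0202809c2609521868222e5a2168d51fdf15f9be0641805c6c2152804c128242b0b0030100c02c0a5d429760832100d039f720613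
noncomputable def e36 : ℕ := 0x309909cb285d8e1c104139a260cfa569d55ed966c5d1284fb4e5725ae1f7f91b71453750e73885d6b4205a9ed2dc9a16c071792e5e11c7bde60f8616a06506c2f320482bccb554ae550477ad1a154cd4fdb84c414780796b8c10c4220447b3f8de31ca34f528868c574d516c9955f1f1631446d0ed105df8858966dc453d98150980797023c6a6ed0d2ccca4ecbd3120e1d8e838cd80fd2481ce583c6e2788a36e1d3189b854b11e8d424db7221bf2ed5f54e25762207cd1f3d5094552f309f53c9171f97e364e41fd561f4425805733c46441126e86b5cddc41d5734c6703e064b60a0ccdc380965d0b959205149cf514a485844460091b604849627dc8020a02330f0130903451e7054b2501c778bc0c8a82e90f218ad7b210685cc618ef865ce3989f158c02d05a5214c415d27907c18d14525214a8a5759e70b040614502d4da3a89537c51014d05c5a60914d7418b75c350c0587261807c732101d5b916198430d1082981a6cdb95b158238aa7a540722277ee097a18751cee43823675634d576671326a4f83d9465fe0d1c938499c6495f94d89c64903611f41a0711e19a12464165290b9130f60169da44e887481592496f5d5cb701af4059f5dd3e188b07fc2b601696b1004dd3c585f882d9760a006ad8d548ff4c0bf349bd085654cc5f878d51a4a72442d795231dd198521c5b5d9339fc78a2359c606297d3c5fa476130a0450aa241d18f0d80e134134ac0386dea6f950419b5488fd428f72d89768cd73589d42c4f80c836d9ee679f22e1432acec288c33cddb6a8ac3e6262a5a0599795e8fc49d917759078541385b0215941706f4b0eb43168325da821426654e8893478c0a0a4be09808040198304a7f54a6f1c2844e904804280374440d7343805c3b70dca7d84b6050237588695c7094811b00b004750183c3d0895748d009f00543a0603964d5b2315e0008b0595c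
noncomputable def e37 : ℕ := 0x3f85c660882503f71d96840a56989a1fdd55051488d6568c9b2315f0bd466adb43a8352d5723f0436b5745a9601b55a348b22fe0f0cc963f48e390b657421638de654687380c7ec6a811477ac7e404fb4b1fa27d350f495145e37214f14d7a18044261974652d86a0b74d368591b5a14009d4432022454ff068e6835c408c3054cc76707d2a8316ed7d419e66786b1e9cb41dd185c4e319e181cbb2c45f3bdf73451e06cd01ce1e5145a310693d4f1714da105c22d2187404c01ce11505221a222c1cd468917181c3e9434a4df874b307cbd3ad8a241cf86457161fd30cf23256d5ee1247dbe3290f26505846052f04624c592a16b3d15e2dd836680403c0001a1b331045e1867bded664af7487c70c4047138548324c5393e4ec59dcc198421410079cc275cb86dccf84ce82e4e33cc3e29cf0794ad641fe5cc492052f359d6154e7395ae278794c0cd65154235fc839ea271636310e645323517e0a57f528f76e8471bc776490a5e47b4de203801e314ba2b9db1e0568521c174ee1d8ed64c111858d23d58508f872864121250b9b28293f6b1886c60913d6f48dda0757069d26625b01c871291a05dcab55520604977a1597c1b8115f3765a5751b51898f7813c2b03a6d94e66d4b5b06780c7549d3b6e624688c07c5ee5205e1950216d4c289094b966760638542b4f9a91c0e269202899c01d16e4915167ccb285566f50303805009a80419d33949135111b15b0615c61d8b61534771a1788db275b305087448e937221129aa584175f1bc28cdd5d90d7d8d84ccc17e092299ff8204b8053a35d166093d7a5c183169489281ba1f20d5708034365f27b18022964431847252a6bdf934c120900a020260a8854610b5c54d77d177d0d52812b2f8890ec8b894390651d3d9de2a60644dbf441507d5080d8090940102de42082d774375d4840a2270583c58838800134842c2000d05403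
noncomputable def e38 : ℕ := 0x3bd0c33c5b3c420612200fe0680579375586adc28117b191db521da4351e504b54904777e0a0844b5909748191854570d14679df52e1f37f9c3858a9228757ecdf3a8fe0707b4b9e088c871b905655e82e9e64686f82dca08d1378cd45007a1a10718c432a1e445c9534dec5cdfd5a8e3314f65399b185d55e9630c4c05e0bc890a726587831cd4206b3e9b81e1f08456e378357741e6fdcc499b463cf767c021650b5801a0b952385696488f35d977884f31da031996534e02c5a985cf08652c834bb2e4f5170142415650d804e07d55e217acb6685c77e57c17dfa640514ad7454d7240d67239ac699e541892660601109839945308c975d4c6b445010a0579855651453c71222007444169dc9604c37a5a564e0e8882b51d5481d6f569b33a5b14fc5d4f5944ed220009f408ce4d4945983d7382a710aa12886025325a1b02595f0c98d7c8f24449b74ca44c1e11016c1513e7219a3f21a7b9f8091a43fdbb6d4d95b4eb24d0e8487606cc12c07e130560c1232447c3ecdc4b4f8369ae1c8504d93a7b5772f4ee404b4341fc83d554246d495a34c5f65f53c311421ddb94d1aa898f4196026207947cd26c90a1a8f31c0cc19976208332899c6f1f472dc62b92f3f43789e18149ff045d03b09c528b76091952d7187d04225b7295ef449610f87f1d210821992842660c9e2697e8141d6bd3387855088db39dcf2fdbe14d442b40e13483234e87498e054807dd6200405161372cd156d82f778ac86d6b388ab8258a618467597f594130322562614320486760301d1b5412987100460697045a544a63585e49cb26798c328d8459f102ced28cf9760cb6f4cd56d7012442688622bdc04a83c0b4292f83b0e4363461d19ce509d0f770e40e02884d1d0200f7155c09521471d41cd4907d282744e7a910064852046c060d50581262d390b003575ba22c0a5d43a765a82100d2300605c10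
noncomputable def e39 : ℕ := 0x6a4434e8a96704b109048882016d071a0f083d987b5733b0fe2b4de199a68660b2550c0c4e77d85c110ce341152857a12a104fc1b4f0c84b94f74421114b67bd848362762106294c185c7413d6c7cccd401b862d0b750ed70c1f78113739b57c9b328a08594140c1e20f4474b57881536404232f0bb3ce1a771186f0b055d692c9335b47f14d8c069b661cca3f4cb5ac967d20c045020794436a0e3090e24c8b59834811c73a54b64852424f1165d81e4e1700d46be200c9036ac9e6c5325ede7715ac4dd9d898755f49061846531be130707adf81ea210f86b6a9e64bde10b2067060a239457e8e5875316e460895db769d9719a14f9754f4a881cc95782d5887d33218778d6890076c99936c4133d77154c63d51b638a07b11e6b4e0808761c8e3398f91591f2d051571e52a88779223291e37c437711bd1bd8f0611473cd87f212528f2121762121474cd5485ae538b96449f77d5f825d52b8610ec9b721bb310495d17f59d165c8f769462635ea650fc708df629507a071758ee6692435d417485a550d3600f87a5976911c7f8d129a033aa15524656e8c067cef428b31f06e265632ac9a391225c6013a1087b9352755950c6704dfd29dbf1a82f6d1893fd2a7ec10031966405e3d1955191943d6115dd72e833139580a93b879551cc6d4d21b25e1f175532443858123871125a8dd0fc6368927728784997c7fd70775cc4c08d2144d47538545f5004036a0090588c5e505609c92f611088bf56964270d23897e559684a110858067c027364fb72ceb220b764dd0071853e9400d59e151a02505f4a4ac2d6006dd175bc64160af054f61a54728c9223d20208dc4b1422c4c3548981000a049110ac290981969d832e1257356e1edf90200d4e4240e55d66c8005c05534c568c86604501ddb04681d094364ac832042e02c3c1f948010007dd0d0a03a03cbe31c8a0380284d5b1b089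
noncomputable def e40 : ℕ := 0x599d4795be129ff3bd63439875a9c76d98d6bd1c7b0a34e1701510b2b1cc540e05ddfc3092f425963952c38474170da3a5ba2d9c34dcde388ce5c9dc23cfb798fc2cd0247d4a839e98058f85d4e448f569dbb4a9a38694446ccf78197715eb559b13cd765e9f33c1c452dd5809e35f607359866f1616b20d81516569ed551254c4dd50d4f291d0361b43657f82e1c6b4db718c64d19c679526d4d34a5457282e6a92649d0c8018e2a8f951a08645e75e19045df13d995864ba7f8a77d59a7e1ea72cc55b5714fe031556932e242f0f47f5b90d0a142a2176872289d96dcc74190d165d37bc5e4b58c5b174544d0664f8269107de1e44c076600a1e95c4b95e2054c78558629db1f1a518d151a1197a14d51e06460213c8d16886e6c1e24217943cc01c616261ae46a112193c3b56f66d824d4a9350bb21c9f4d9dd06dd2278e464ca5709532ad40405206a441044b73fc6a7d8f1841d1854318313e0fa1d1693a41ca8109d71f99f62c9d77c123ac92189a83321f84d643ea0f5b877191d66117b4cd057e6253556760d3940c198989c2b4577c9c00798086d5768620370d2791b335d9d7ec4364924489281a6275241f0d8c31ec45198b87606f2c870565c8259c98611e4f58119c756f4c888e0a014ea779a00b4fd124b113cfe614b91e1945f175698df7b96b0c88e2fa123248a1ad68474bd7c07928025251ce2d43c39c9522d73234e80a40188904158241388256c8417e093109714c4d304f73b8036906d20dcf6247d735bf850e305d3b52142484a64444b70530588061fe044adb80c1fa1b03f03c907d0ca48c37580855947357c0d4c8bf0ac13180502c0006c9ab5743502c4c3b0460ed140383909c1a021880717e0e810174cd2d0092bc2a2242c2645b3988000865554235048c220261d9002b81826c04058440303d1483324c380886111c910a02012058144150bc400501d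
noncomputable def e41 : ℕ := 0x340e93c1842dc875f0de3f964441b6385e3654bf7ad3e4546d3f49e4e9173e9ef721136dcb61f99e7394c71c5e621d17b5a3889936060c35c5a3c58f5951964455758e5660975c4a3712177718e7b94f671f5894db74144565df414b34b1f85597b5e0c7428f674a265c92a459bc1c8921be10635a9300c2871b3775d47f92518ce41ba242e5cb79a006005c5de1b6b5ba36843769458653c6d5c9109a747d0079ca5550757914737cb2421af361b04d5905a56177a08658a849cd56759a7b1a28696e41d571c434879cc2acf53b5342f0e26e03273ca73d1d75099b835d82996c231f962a144d8f962d6d28a1d6189a3ba2713cfc88061728511355c1055e205c530d58381db085c3491ae5ae0f6f9ea5395a74df033c695359f6a9e26fc6807d22625122f5381a90e3b2157f52d4cdb13cc4b704628295d5be06175e56acd2695a6708d414cd319d207c4be266187853b5414b665c65483a58de9195665061f5d1a48497d82543435753c8863adf24841a46cac2c1f47d8fb681681e1977a18276549461d5884774dc3d40cb48048a23c2581d281b1fb8160e291fc700dd6d2026e5bb365cd3bd316b0dc5216a781fa0b8ff61454274b85d9b26307d3320b1e5401289f261834c1942a8c8471ff2442d7ccc52b8450ac1939e1148da14c90c64866499bd859795f8954b929418e805d6709d3d1f0c12389303d02028567dca022c1e2349c0a41d4bd39140801cc8256c2417d091c15532d5f258a93e01b2ea041397a4fcc4319461d05926d1a345512ecc9088f754d01030471fd700be030990f5cc063988561e131ec11014462b4831e83e192232bc0702c3c328143590b4780216111048900ec310e00e148cd1017f040a14505b00da82c4281242a224090dc1c250840800d52808338e3000334ac363a8181ac1501001121044743015c39130130fd600b035588602d4161d82322044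
noncomputable def e42 : ℕ := 0x61d0f7cc363c5523722324d0256a07878780e43a85c7767c176a9db6d57b0592d7981268ca10f0f53f1d32a191884a516970780fd628c030dc21f9294f16331d133dde71455b6e6027b49e5584069a044899e2d1bb689830ad4d10584472121ea223e419111992e1fa521b47a5cc86dfe22597759e275dcb4a0e683125620950301d6dc6e09e0b22a244d93f08d7a54402744f447a18455d27b9a422c340c1820c4583ecef0d576088ff350ae401ac16d3a5191b12de35dd54386038293e4ece8735012ac910f9b06501a0246466de43320e2401b5c81e5952c718af7953436974085194cdbe604246411202c5f8552620c56869dd156085b8b2469d40b8a055400785597bc4264ce313e144359c415ae3c05423065491390a5c8875804c8f8571cf880fe504876ac6049c6b4c0334d596364cf420e23a843124884bc3242d098194207c2f5a0df380ee4de257d9fc3cdf8118ec6196c50c7c2e8575fc71338a211cfa57d66695f51396b778ca6a5403b5ea5bc9a8147571d0a40d236c6002cd8d3adff6e0f254167099c035d2a4f4b1022160f4d189c967c161170a7514d023cac2d55d6605d684b67e481141926bc8e39da04180128c9c209173042c7f5bf071641ca192f560630de461f75cd69200a91857800c4a2f0206f185668b0655ce7d00f1ccd31f4c97a0e90b5eb2985e3196d476268711f578531ece57ed103609877086135a86c8457554c0546201931411711a42a438921c08d212105e4be25cd66b5c94443f740f630a0f6e86a2dc94014cb2a94f674675898b84d2e54df2729c4215b30a10c2654b41c4c3140d1d06863c6c1bd4a51076844146d8bf321ec5246387e09450110edc3121c10dd382b56a55d2b715d977cdb0e09d040a433516164bb095211b57c1fe0d804d52e5f17609b01c18768526f57d04da7625583118e0109f1980a5d5475f9201e4e40394e348dd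
noncomputable def e43 : ℕ := 0x2e81f1913c5fd7089df914cc007564249cc04d547b0a2491b16204d1a1f70dc2b821aa020f5149de690d181d2f348837b54f51ce12d61e4dca00a842889f4208754d1402c87c5bda6806176adc10fdf5684b11e0e831d780ce253c84b3795622d153ac488606e23d2521840498f661e133193245cbc001f31f8a30f5416715c2f9bd009d61b2000b81a07163851dd41d4d449cb79514420db368d557cd03cda3569c68151913d828852d828235390c58406835337358e4a81e528ef0ca1f4a42d0a583640e24251c6946b419e80c0d83e536875767d9926340115d813a9953f90d17c5035dbf30d018580f2985451979160a83dcb747584201d9770ce792267f8dc2bd1b3658f86d661b49b180d365dd541518410b9175930d9bc530e0524ab239b612968578f02356d4b1b46018a66e1a0159e79879748b8788b00641b1e92752c773a5e0295b86609a2ecb344dc940c9e110dd4013e2a5ce8802c0f03e254662b1d71a8903e9d850847890140417d16c357f56c651f039110728f81045e588d67eccf1c4b679c4e19c887c57e43c2f688ee0c485155a92058c408fc5a8a7674cb210cd3fc6319599824120885c854bd080cc545283120435169098c95c60b47dc56b00e4f5a01897c4e5ae555387be1901c490e0210297730828844bf6ddc3830706d5724e9ee1d0980e5db24c9f8419a3ec5a394ed7118b1f4ec565894b9d442e067e0f45ee1c320ca291214819f1153588cdf5adf202deb4c1da459af71d2b7a57a0d10e619ba50c046f93b165233049d3f5df6a05165985515b2595a7511c205a027460f045731cce32581510c254695078d116e51e6b50a1c9cf22a1254d912504625d3f0ee0300c6109c177407f838877f16e574e74c575561222b574158c5399577208c521bb7e8aa3c5602b86f284187fc0d265d30303a131e10249c700b41ec916cc891d967090697a95256db0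
noncomputable def e44 : ℕ := 0x1b5a02fd2f6edcf611ce8557117d7c6843002c1b42d317803e430155c845099390857f2f9bf3d93a384af181d3819a8864d4791dc4705b29038091232a5a9024495057379d3e8609733a0f4558e4e210884a82dc4e2e59630d1307c7337dbe215896696453d167e5fc800b8851df5e8ad35d8d491e62260b18c610cd9c5f82d040e456c47019ef7745869dc9379d13ece517578701cc44163420535a86e758f11c5503698f074d6278873356e4f09c4fc8a0c4aa2edd7238943219f49e24514080e54b40c995a1c86ae113ace75347c7486f080ff10c427506c5c05243c963bcbd568785b4ab6559038c04871f54b90a1dc5e691fb484932316c6d9471d0b601d86345fd195b141dea502073712a6742364c4119d3407204064ed3d4d32ca1d7556b4d5da324c04c21e64432425af1a8e0038e988027051b463040094c77c14a318fa5505a0d10433d7965090144f978d42615aa718f31a52d3280d0287e734f728500089291f5f81202e12c8f5206b219b05dd534c8666dd5f404f8582165d47f479226092c594e874152832086b90d530ee728013a846059e976518110f4079b900ca670da50fd8b8983c66da33f42f150cc360db030c27b9de2001345095711e27cc003984c72d925721a88999699ed469120a59e0e91f8255d419463b1691d56732de82b9765d1050adb3480b1295c7829812d5ac0f5335598a565f6355bc3484a1722304468538625548484870209ec1c98050df40a01a0ddf226c596e8188387a689eb15db561c0226891140767861b65cf222d586e0b3815883f1023c15720d7d4da1726149365c1494814641729c9f7143b809bd3410e761ad134fe7c57b1912660c560493b84c353152b2f0dd8352846c555789d6c82c7e8c10aa0180c792b2255108d2804f6621f7f8ba5bd512d0364f5f7220b01ed1145dc203ca34ddff3116189d1d249db014e2289e558966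
noncomputable def e45 : ℕ := 0x24d309190228b779d310793a5096b198b8805ef158f687dd10e483619e87b0730cceb720992b4ea54a0317d4809c490a1d30301d561d45902b75508058905a87c2fc78105296f0c72d0801c154380a47c5ca009ff46cc019e15740c66edfe0193e37c45659a95057b811816d8ed88a2043db02ece56e1882691712cc135c10149b1829dc1208e88c75368613ed5f1b92e2782d559004d8e91109661d187da026e4b5359653407186e26648b053dc4345d92d81f195e25bd1f534ba4e56e691ea7312d350927685e1b55a466210f4f12607e831c31621c101cf481b23fca23d4a17ca118797906d9e5c560501ab2a189298003bdd86b801028f73e82f2b0b96fd732446216893215253f8ec069a675c8760ce76312815103578aa63c231f51a7cd5366df005d9d0ea08839e9034574fd4a250fd8593b89169450f00d950428326443e145cb7e0f258c9d2b8f3021fd0c4b313cde045d67acc3780b2049af5dc463a21385d684ddad554ab2812262c5c3e50c5f84233c5d6d526470f843a09514dc458646a05b5d4e6518a9614e34c8ee610bd6d1c05b40481d34775b70d151329a514ccb735a223e005108d56447485ed67ccc295134f5934a9270dc0b784c80a93c8960b5d03565c1c78dd27955c25c191814327014818a3738255c1987dde6134d826dfb0380343421131a10b99c1dc6b628557b97630994588071a91e411950896118d9a724156810176c8416481140c53d1104258204c720997259c6829d5d7787f69c82601aa89d7a409354548852cfc55c3f71c8671a05875666cc8b7f1241d9ba1bc3c0c0cd6b17847469081e410cbc4148c7d1076f8e2840dd5f57c5312c35614254d2128af635fa1e4180e123715386661a339067082c27c292c47b4c20f4adf95390b8357f77cdb68d498607a51c74138e18492f3103b225c103d33448c9865117d58e56dbd0156c3646c390be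
noncomputable def e46 : ℕ := 0x2b9ca1195159128409a4624691cd0c1d5102bd6f3a0f81612656d2073d92138a810983279036ddf0341a34a8f62747867918188d933e19331586be11225cd540512e8c25f945885be345191713d1b9320cd477bd2c335460bd9979093674e111c144fdd71009c3818d10c49780a9614f26b8f012dc81d96e4107b78cb60805b6ad3b1320f505fb085c73019a07616500b8455d828cff5fd4d5c50845cdd89a13785865a8f765c6d805a05298a438b553ceb841fa66d3530cb181d662f1605e07c39c65284c5855a21921c5adf617913605fc23de707e064485a3bd1c7f58f115bb36cd2180e31a8ed2c8c7184da1c827089d1709c16e95c19df92540a0a1480a85f21c796713a824e22e5682dd2f860d46320b8361781002711593711634d42248ee338481294e1d1f87dd67260e574dd51f99429d751514c154fc1b0445ccbf610bd6a5ec48cd62b4c42194b22d1e1fdb67191f3543015c6b8204f2f8234b82e37a27695793a6205c1318149b641ce291c30321276d0d5d07739097141bd715cc14de51a1d95d834265da251a741d272397c740c63603d329ea3061437ccb5e9c02c17d149ed88c707a1eb6098b425344506f1755f4849a6d5d46621d35c906460a6c4088790f2a92d511bf5ee0c6c12486d63775ff495b4038a66386389536868fb2cd050691a42c814f0595c8e60c4c8601bc198716c9f53e94977d382207a0948022800208114041c03405054a00981646de20c9dc3f955749a64fa0e7d1932d0ea258f12edb85500187dd6245296595367ca56b5e67b937725fe48a245949f6a8f3549a172c353d5876560080d560a602778f4159f33f55a011336201e5dcab0f943584242312b6a1620ec3c01d065b47d7c4a255c3f00c0f0e04d02c397c8374c0105b1b3889001050a3e41b6b0ac0255d44539474ec060196e4842155e05d6904cc9018127a42c0b48d0e82b0d883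
noncomputable def e47 : ℕ := 0x2e16e17d7b6adb13c850161df490ae1456c6a5d66106614e1e1361d5add14e8e5429fe6a9603e4dc2859b4cd41349863148651dff3a5252edd223d852814d150c3155380cccb7384e44c7b544f4668b12c8b64090d1ac87671923f0770b95f76dda4d0ab6397c4f48e689a184046185ef6313f24ced2a0990c6124518370dc2355931e1565246f4a09b40c94390970d04c548402b169220654dda488cc17202a55d0c7020053ce2629a03a1980fcff5bdf559879860431499d62de04b9af478e11e94a695fa3cd542ce277b9ae365f0604af0456d5dd9780d3c63d4b4251c236221685c2617d271806e9406f93b69cc24559959517410024d57f761216a02b0a476290496c21107561459f2448351a8f167c59079276f43883101174a24c94281106754ba7307081dcf209b37eca9621ea519dd4400401c9e12cde0d87e5e8a373469729c648cd15787306c420020d1fcf83f81c5911a5a1895149d048c782c3e499b4369765c0f73621a111f17e5e5815001c8c43f614084487515346092335d9716215ccce5e1317f0ec5402f38df6555a38958d07c672544a2f0bd6452227c74188411918270468652248210b41ce087caa359b20389a3b8e7560b461d6743d90068192454c6b5cb0c20213c5e031197d1c7439e6899bf0297477171569d008dbb1d52a29a165a837350dd7ae065f8c8864cc2e47175d2f4f8f64b0226e6095d53920c15204c0415ac4440322c260edf746d590c8ca481b715a1c7cd36654d07b1e12592918ceb0f43c854e6790db74d4485e1b181c483dbc838b07b4b716d4e37cf509d9e779e978ca535d1f5c9f804da63e8f08052d11dc9095e21b57933c7c34de8658840580156d48200101b8a758c7d79db62d5434ac0d5700b062132408c114056d4572fc207f4ef31908880fb0b03902089228140a0068282d05cc92f8ea574ad03c096e0850e9301b1620911d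
noncomputable def e48 : ℕ := 0x8098083a0388cac8851f3d4fc719bf35d407217c6b94478ddf04d246fa1073e255d9ff3057f751225a96f51a0489227561ac8314738dca6b5a16e5ee0dd9f7a587779b358cd67bdf851520449d97d50e71c5e79526855053fde0851f350dd876dda7a9dc38597732093898a745c983dce529d54f9fc7421979e1d624d970dc27058b872116f46328d7e7e52f634b929da67c87c5d1a7302177ee006ad0f2640b6c1b464c861a8677e9a07d87934c7227054664567586d2943f6959227888108956dd27701d2715617d0b813865188cb60626829ba42618348704781e5c20d5d5b1538b733177818af26d0655a0755d675a166595647c562620112ad5e0a95c061364aa015a56b31935469382746e399733a0df3bdcd525487fa057b616775425061a4f5cb4fd2928461099522ed5a550f44042e31d306e0dd3e8bd041594f0a6631e43b61248e08485ec881794750a46d533110845cf8308f3175eb018ee6a9e81a44c1d11c5f5181056c7883323d024cd00784b43f61e2fd2d23916070f687d34450f2168e052d10494ec0d4b507d4d0754f17c7a7f5d375cf0530914b8d1350d0710cf86df0354db6757b370da3604a1617160840324c84c555125192cd1582daf3ec2c4b0594dc936d9865c8b03a8fe30c310f8b65b8782b62257c981d8466d5286547e6ec664ec801a1915459b5b49a6a4aa0c096638072e8923785740cf92348222c8a0ed90111a40486c20c8c058a01fca41f5b21cce4678ae154a91490b1ed9c1c57a181506588414da34349f688a2610516f1834e86f395e644c4f16cf12f0cd241981dd9a1ac751901b171850a10c120ce3144b11ca8114870f58f41cca650b110c03224240a4387dc2d3ac23410322c897031320d8be0ad5d0e44d089390943a0d027068203a57839cf7140210355b024810541484c855812b0200e0642f6a00a05c0f25111004040f00201400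
noncomputable def e49 : ℕ := 0x61e057ce246f6221c5b8554fc719dd7e5f86f17c78922351df03d24845e56d9de3060c5d9e807d447c9c4899c180df474dd07fdfe3e5fc67da186e1a015ad72e02896076c9f0665406d5bb791d94fa0a37d9e841eb36e173c0328520e8718f769db7a8423bd9755ce98058a40a002e566735697d5ca6b0635321d3c606709c38118b50dbe88e197b19135e2033e0f7b59d5a9f16c53d655057d9c95251c1bc194fcd364ca8658c57e9817ede66d0ce60cba7bcb6759a36bd0c6947d6e875771783618c701d21698889cc35b08766d82681464389e1c2185ed092ad8e4a60b5d574451193313c36533375855adb3730da341ce5949a1f002584b14795e2f95c56d184a8e27555687d544693b434fa10cf34ddc73854a6ad4851d8029e086fd23355ee69de96c170548970f0a1535084d4f45b87831d3047c9b1b8fb041595dc7b49d124961250a16484a34bd5f001aa3d9535c95a320f842d730d126018ee4297f545944550f5e9363904e6b8ca191d12bd003805c3f61e4b1507f5162a51b3193453896715e175d103b4ec12cea750bb3343d1dd072395852cff79c215b4a278d685bd8d6e4d650615698d2199676dd9c39d7132d04325174c4f5688b761874834a52f55d2fcb23a19a73cb3311982d44f2e0bc580564042e028ac5e4983dda4514733007e480dc4e03a1ad7e1a4624b964180aa4e8f2078501507f06890144e32346c22c8a22452610460488220c8420424248a4649634a041179323941c640c22984a8857d6a52d1a88c27c6d27453124d1111037209c0c0991547908cfe16d890c41d15cb017c931a08823c942d10605c3f3ac7219c3511c860946553dd81e83313011399390eca00e4380042d12113101e0164610bcae0d82a0ac2c0a40909c03114801742237820824951607601c916a0181341605414020850f92b84c0e02c0c034ad0a01306d117dc04099620dd1d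
noncomputable def e50 : ℕ := 0x80a0a83a15471b7610b9519b37c8d66f9635559c87e0f7e5156a0c235e106c9e50d1e725d0508a2081cbf3d5706e5662dd887a5475c4ef86472891b84e5e883187664fc501bf7bdb57c45e1a9ea71c637d5208946d80d7f23913849f38897e76dda7642f8015775589311697454a511ce725cc7f13e531ad7fe1e824bd70dc2705c036ccf6f50e1e5d878ca77751f4bda671a165d19034e05318e14a5412652b650146304c448c8861546f0a3301a1618527784474926294883b5a92783f108cc2b12562dd609dd7409012486546cf47f9e26000c21dfa3486f458e0810fe5d5232c958255773291759c5f6096a65c9b57e2763cd1515626b1c45b4800a824521365cd04629347ed352a4eb269081812a3d9cd728df52418606178687c6357b43ded2a14b2e9ab19061444f730c20680cb2e07612d307b85316cd984c314f07f64ce7696146c5b6484cd488e44750a189323886e2bc7a490f9174077dc6b6a99f3948642e23660ea3690d89972121f466d91450233a61d5bd2d3fd1e0d4e86b96b7853a1681e72d2e49cf10715007d4d6597a418f86383e5845974030441647c09f04611360d43561c241423704186cce798e3558fb3246740dc82ccb1125df378571002c580f0314468209c0ccb04620d2ed5974c7d5b93b03d435a10c0b8937e12811c7506c771e15e41d00545332ac9d649a42445c7f5eb4fc4e82daf4c4f30a0820243b229a7158aa048380580e20ca02999a2d9cf15579140511cd1a150742897c10d4f398b507484374945b0d06887b884ae7d9833c8701a4587804f3e8ec5e1ec6757d198a43b87e285bb259852349823c4a4dcc76553d015090f5651a2066c1191c4252255c0a46c018024e0b480421538c16e9530d8150e4040ac4d7503700c3a5d9c50695a3f4bc79152678320295b22c812f9b4040004b00b0208c065dc04c0d05cad68c260055d0f02d11485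
noncomputable def e51 : ℕ := 0x839b98097f6050e1c5617c58a65cef37dae8598c50219788cb7dd6b735d17ee274692f31e03165ac755375154282a254cd226e10a4b0d683ced601e984d437b9f37d16987dca739f55196c390ce7e0ac6d50d598a2416153a8326098767c68525c11289f6d9c681cbc2c8fc840cf6b5ef8456a351f03614429dd65e18e6f4d57690b52d4a70db714d07899ff6f1d779d2855d554f13d5b61a73e0848d542c1114fca6670565e55a49541774dd2ada55c8e6408868747b544931c87d37046615c418e181d21e0791f7790463c3d3e9df88df989041261275dc7e68dc55ed53325293119b044d22ece96bdec849cc7c857241e5249003d51d880cc34d5c2255e231a22c5016cd246c9aa5d93b654f3151193c4d76fdbe76c0e471ed815c87da046821769cdb6c1b15484f4aca18186743d15804b43052183079189fd4e43e5d1b45f066685566ae004c1066206a5894716e0d538f93f4074d06e0687a6a01b4d62279844701fe2a88e6e92078d8624599561642d42e45dd23158346094144ec58cc25409653427870507e8f62b9e15b85a1559a335eb2f4312e42286c8f679914f82f255c9531fc709cb57d702780c741ea39560850b35d42082c7c3ed73100f44c49b1242938dd45bc3f38433270993fd32329d3565a907ceb115e86750908c8871da6274701ade44e024760d1294b7300472d97d120f2364f86516540d673790822d5b23404574a8131980f0160e0181b03a0517a648c6659124b835074341818b1b593884a4149141cc8128d1e179dc4d92610c1c6352d17075160690846146ce88245f5a1a439d4f6ec6f3dcee4e842024870c1d92fc97269902b50c1944e5f8c32e92a610850a8800b08304c0d1e0762e1e03884b368fe064390543b2f8173c010000a02a4e0174c82bd891dc64441130b4820a0840ac7f0dc035c426005480d8d001802134054580b0208a0480a03c25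
noncomputable def e52 : ℕ := 0x4f1616aa166c540275b967cc2455be35a205fcf4439b583d934ada56fdbd4bd415cdfb38dac4ee031d0b47a15473dab2461f72187328df789346c8ac445ff5557788d24488d7355dd47ce614a076b5e98646043c561f188714624950a7c493841ef5a93d85c72338511d99c525fc7e1c14f84a529c952e2631a122b848745ce70dcc360d476a0c13046511437b624888b077dee8389f221f682a057f9424a2131047d3f0a2150ec60a277d4860fd6b0f96c470dd860440f468718a6195072644058e1d755fa285468111911d513f5577d20075d3f4b9567cd1e39cea680315d5e52dc303ed355d85b0bc507590b685dc6e9296a5b42e5626b903760be0a55d2344f804c15f169602022ec59594355e504081ca734ef70828409bc821b8869de5edb657d4c26d81451a27dc1e58096599972c537405306dc5e0c88f6a17251d006cd097c927895f9484708546d475743a4490b81c3e9963b58960ca44e5e6349e706c7b7a9231ad38240a3384de4cd70389847514e4ea1408c1a09de42f15a18d8a0886717518741ec879135e0f718536660f86781d2fd533d55072dfd33414845af4c5f036ccf76e1b69d996999d871c053e06748fe324f1271050451a7118c255b08348931cb5364ab78dd382d853ad594b0334c8924b4ff03545030663156d6349e1c5062a8942381534e21108c45f98f1fc73638af5bd9a59d953319461a091b08123080578d014c55021480248322c2c64469138a701d26260f37acc3435d91a8cb3447a391525f55b4807e1e45716912268f971c1f321166ed7a46d6e085e04206f640ee68ce51605f785a445ca50e07766d8b2f4b810d6800d103719230034368a959002280040e8180dc453c0b225ce8561712e8b30048a0902b570841e0260b42a4a8645345c3c86e21ce0430f60004d038170ecb604cad12c1006416048a802c852080a1d4060f0390d8050940f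
noncomputable def e53 : ℕ := 0x681c848db67cdb527a1a800ed630cf3514379d9775e2447cfc6a1c636ddb855b12fdbc2ddad239457a8cc6b18782154565807d9ab379d08318a489cf4e5ae67d815ed25774d8769b26dcee1dd0b7a205439105d0f82e5fb1445a6cd427b968355bd1d15f5fd6b62cff2e0cb70cef80dc252dc037d4c729ff18d93784c370549738ce8461c8414617d67881444bd408596449df988cc0369617a60a80a255952b34cd1848501553a5a57787ce5341d212c94348e74d11624890850421fc572689729cc2128f4451e27f88f2d90044da14f1558649b1b5575045e53ceb7d16f5d51c8352a0c1022545c2a19a671d95584624d355443d63562899374fc89570291b0f62d0316097c7d6043886e610e0334fe0853e725cb744844a5882b1b96e1aa83a225f9cd76227824fd445084c8e85c1fa40cb13653083d7d2bcb384c23599a94907a77df2429f14846b7b57a47599174c4618f013c608753b3b0667dc44796171d41b5a9de49859640a43194e581474c5282b8ca60da55c517190e63a81a386181e01f3203552856455a22d57846c325e5ec1506f82d014141c7f1046604335c3f2edbf7c21b7bdbe27d0f1c488359d5374911c9fd324612f5c72a49c1da1e5604138d5e124f754c2f58c485cc142f2060b8344cdb4259c5049f82e8a30f80c1f19213912419a46243b6c0a6884c74f46563c790cd36304a2770b0805074b0a156c8b2042c2f9af0759e02828208092308a2646a699e3430701a427131d301e07261d6295201601e4788d424731f9943c8aa644223d5e03a5e61492e3c4205b867548531a1e4219a321deb7516c5687d061bb045cc469c4615ba0d99611c9d69d8e6759b65405054390104d0dc03540402c92d5d9725b519094800a824575483e4260042b3ecf316d4d1893839118434fa03c380580e280dc04c0d31410000172b4ab02c0820c851ec060083a1143c0b419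
noncomputable def e54 : ℕ := 0x59905795f9429dd1960885dc63f0d433d457eda1519b2891244addf3621085a252d1f524626714b981c406b97778e270cdd771d81255cb5557c854a74446379d0277a1d7b4db7bd2f50058251ea7fdf6830cd8381d6e5803cc5d309996dc0c76dda765ba6218a754272c597744df1f1ce531cc3bd4b734c67a5b30896070dc2705c07c21b6f59f1402f80df8889227b81487a0f48c3f240f5721614f10f64a13221b44949801c67671354381b15e184047e7cd095a4e711da749c99401b0594e350da562d57752007d19b13a211896b51d7f789dc15872508e61e8595c0235d5b1565047f6043ecaf57c693d16a748ab5b602108dc86962384bd59ca00103a060202c972758cb865a00b81c274ea1c0313a1c94f9d05255b7fa1f58dcf2b0d26a9f124dca119292b8f27dc351255a551562711a23d306d4ee3e8116a14e6aca63b596631155d11f485e66d8f84762360c760f8b55b979850ff781a34e4dd505bc418aa42d1c1115027ce58295831d876189e3e57607df23285b450e44e14d81582238613b0bc7f05364c5a549083f4f64986f4351e331196b178528c11acd16fd074b0d78461c354d66bd7b590686f8ce4818e4d16f325a2121ad2edd34de120c19d818157101e2cd3d881338047d1b83431573310b645c640218d26c8654d3f6e07f65454678731448036991268b85a1516a44c82c4f5c46a2a18525cd312de11340e05c890ed945f50c0006c2048c0595e4a0522c144199166eca128932290741ddfa0f4605e91879038441eb17c41320556113b7a11b4e94f5b1ec44c964b4f13805e300871ec754b99a1e079170920a1a44c44a30d03294ba005981c58f340bf640e210c03228240ac840982d3de0d2dc1a4a8de760a9008be0a55d0e48d624060f15c3fa090c9363a4f01b4eb28c2103548024830b1a602c85364132b4820297e0401922c0f448371142a0943601412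
noncomputable def e55 : ℕ := 0x4a4e143db248df126a0343a128521b87208789826f1ee859276a1257c1bd6d5aa56555331612b9e31d0347d9a01f13c25e17319f45bd4a6015683d8d4e5c7865704291547e11355b76d86f66a07721ff7ed4f50487512000891b6311c7b4a8841ef5a846519fa338784ca18525cb29dc17284a741cd4f9056b5df19103745ce70dcc35cd6769f5690ba73cac501f9774b63092f894da65063899ae604d22992b340b07c8731d45a5ad6679d0c640f43886988c6b6859810c416cc7f6109f6a4bf868fc7557c1461f5dc3e2949d07dd6409d7620933b8cb778f8499084d52a5d60e804de3295408d2d760796290b6700c0bdab64814881623d4c76e8150e4041345c0cc301c9d25fe272cce0108f71e9584d94b531fc7088d61d9f2e5f8515995092259dc95a1473fc67444f02f44f809693104961930889ec0684b84d047f89e87844874ed7961548460891e4475b13f4c32a4eb16ce764dd4188547dccd5ee0c28c667a9744403534d9e6b0c1272044662109c313c9243f8216241d078207a157824c844cb537c58719e0165384e95a424e406c6d8182e814ea3bc95481a63609023cdb6fdbe76ccf221f36d057351c01c04065d76324ec2e20a36476581a55c43f2d03b1206e4b09b6e4b12444e548b2044b7469853e8f9029635f8552ed5f50d910f4e52186a7842c6bc6563dd3771654a07738d173ec7e5b447639a766dc50e0160395e280684b87b03d5b22c8105cbe4005f249b8449961308e25137419d97ad34591164781c15818798526ecc03c5a3545147a4e968979140e660caf0c85d5417a6c05301d0d1796c3cc985b995210a24058b711331c4ab094dd344996760d41d53370362002a09148098012f17382cf65c9fd4f4c501489570290e86c284060095d5393b3a096185185f5782a94d04828208092287d02c084c413034832153f04000230192903700c2b0b4450f0ad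
noncomputable def e56 : ℕ := 0x471bf5c20c59988268f54be187e9467edac854fc6ddf56f19700d8a72a0479d772ce246187c5c93e1c93650de57fd0a4b5ee80d7b3f9be7e5c667dc9034d74890f4f04a5fdcd6add075ca534cf4821636d842705a618ccf4e11b759296005e605a04d1e66d614454b71ba125054071e237c0c285a11869e32e5a12fd0848d4284193815fc738d43006d7d8c6788df3bd123390e550da4818d6e5f86662714c37341eb701855f8eb875db86dd8499b32a4dc524ab77c9e28d0d62c7f1a87b1e434414cb695243ee226a9762a0e43dd2776a1c6c9961561e7f8e566113778c3325352441f54df35687810da43b59c1d1b069dbd40221828ad2b0ca2c00428015060d931cfa42d2547db1330e0651585b4de191cf514d67bc83349dd385e9899c340a0059d445a2253fcb204cf040dc45d1ea4c96e56521554e674d890d93183990609b4559d2709cb4c19587c56115870c9718256f3c8aa55c1a6399d048a4809f143151755f41de066108636160534d50b965548f93b17c168e21709866de06e1d9084c82f4a17b47e5acfd314b5310511409b424872d15029d3b83cf353cba7213d461ae6b54a746197914724d3f85d6a2511a630b15d4964aa2012dd482d692e1ec3c43a7153a23ca25320d3a5793a88e304974111e2b901009612d8f860d6c52c886ecee6bd9a784be265a30fc760f4711ad162f11708ce719992450573a04f0384d0e02b0ec7341c4e44409520280582c1f510249e81d444771335e8624a1cc149f25905f1a20164417181ba131a90d4541e93736c1c0c49f5f58f255fd0812c184072415f1c0d11bca62eccd38c461b09d68a071206705106000413759e1943e1a4334b8082255d0a48b0641012578044f60c059030af4ac24228800e48408a134742a078275385b4645d06c9c161730055b23081570470f0061002d0988d0142f7dd62209390748502d5e03c0a6a025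
noncomputable def e57 : ℕ := 0x605ae50993205165e9e31106563410511dc532197090c49e0f6461a3601736d2462cf4639473a5146f148750297b9a15bc6c601fb6d47b2a605355453c49b524635d5d308d9b7cd9676d26648ba5c1c7608146fc8a641cc1de0b7b0b92f97d2a0b829d8f2bc5d5b20d584e161c068783a435b66b54b529d63ac114acf217c780fc64358c5070c92b111470d21393081e252013f0d5c4368a5581d539e237da103f2208895c3955b339a77d04c25e0c65502001121b577025138715323109791aa75d7441407561714847e5e4757150e700fb3a12076601858e478a142799d84d2e6c42047462825fd6b11a721336edf030dc9440ea0c98a7f1a2264e2129f256a27136020a0b328488031eb6e8e00744f1fc6e0b1e0559393e0464b4945a9ea328ae374431460424e0873997105e85cd882608b0e1b2345541818607d643708947dd81550b4e1de7de0e7e4cb7189d1f60a1d86f795628915f12d67108f6535f53e83d7bc5a4615e860bb4f9cb6640219922734d94a8bf4282461536610901c5d050caa575af0cca073d9f5d9a4819f15486931d3c630926dc2b058402c0c830083784840862149439234cc87d50161d186da64d5b05550638d7f335a96ac531a900671d219c2f1216533c82420180dc7a3cc04005941f087049be5b8270695735d1b0c01545c1e539a37a5a589885238963d5b8855c12b5284dd66271322186128c745a5a86d1dd164e6029687f9ed7e8df4051e6f52f410454e9b350405341df158b2464bd79cec4561d0c4a60b422268520f0fd3bdf858d3d0a8d30643b70d346e59804c955b42e0396b288083dcc64b00f3c17c2d0ed768340d9592dc5c1c19a501ca2ac7915d8906c4700c548009f3f99e1ad3b54491094ff5ee17848d441c68124a43b983179ff2d8c140d46844f9310b55f83e16e030348f681e643c5053d782f0734c40b48d724a4b137872098c2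
noncomputable def e58 : ℕ := 0x700a57aa1c7e962391905643c75de62517d1b94c1e03d47cdb231dc2117e3010b415d06a8f88195f3253983612658ce8261d3eca981d04069d44952d5748e558ef84d613b9955d5772a1d854d65188eb43a03359a8425b65058e498cf749d955c8235de41f0194698b7f1b748572195893e9305802c7805d5d9a007caa0a9b3500fd884cd519556f842274cc319b26f14237cdd800f220c306896c5488126c172fde3459f231d5a744fc18c0f854f402402309674549e4c44b0400c1d11822a232bd2e4f9238091d7dd1e788d04adf51910a7c60e29d6f4313c7320f69497645540d5ff719f83a5b57560a758982b19b6ad4a3d9a4678071ed5b3d4925f1d389d814b1a1350f3539dd5e1924442b40cf7404ec3fe0b2cdce4d834181284ccba6c0872c0b7288294dd140e86d1c1c76c5716e16911d3f87c884f47e2d8ea321b47e58f5b5ef65cb93c52435535046266f547015e76fd8a64c993c0c3170901fd49090ab7cd341bce28644810dad00072149de435e15919c168a45e5e81d532464065a827128da3f9a3879f46755c520237ac2d38e045d1661397b0f99a65106401fe1dd681797a1541b28da6110e066187512205cdc4284bb630e886df639c0e29922830e1269513b510161ed578b500c4550cb1099134bc5923cc57f5073e4280847d4ec5b794c113ce55c2226b80a185c11c4d249c3f04889105c92148b3996345ddf6ee10894be6e4691cdf07eddb81416198cb070d172c368208032929541ec254041d8676099f8918d1ad1b095832596b1e52a0cd450c85185c8d3105717d8847112034ad6b091141c80780b6117f6190f6be011e9cf2e09f1504d4203b2f5022b94b5b93a04d58845da3782e1b1e93644c0c4936e89c125cd859c286839860222d015281c534d800606a66446361856a437481ca70dee53c8669c1453408076140bc560e0bc4e02037001100b21a053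
noncomputable def e59 : ℕ := 0x7e011081b69413570a52c0ed6bcfc2902936d3e14c8c77cd72200944919531b15883e8109721d0b1649920534595547c4cc3f61d31981574241c5ec0d4ce0c9e1148d613ca744d512ca1f83cac6b92d5f19c48c61498c130c8b71d673e20388614888347396b5e5ff1c950611974259e4149f4c4d9041765bc9e74219861e089961019427e0a030a1c5146f8404d1c18b15d2c069b3079bc1a03c59a254c0236696d11cb981d9249d043e96312cea40a114592a0a82c2c55f020788783f614a36a11a6205a298371221340514769330818314467475e374a231f1cb724056d44647915658d28290618129375fd528b61dda0428de2a4ca04439858b77bc43639d97d4b32d5c168c3d5115770c411015620cef008f43acf03204a6d8bc06414794740e8d3626275f8c911103500f32b85b43c63301e424ce346dcc02cd4194f25b1b86f58233595788558218639d47839203d475234fb2415526d7a098df175f666620289bf03e2486d7b2246d729717f907171105dc82210502edcf2394f430010c0a8759e9591f953978070385b84e3f8e67dce2394804e4be5041d4942b33c6c82c0042193641ab8307f2bdb93d9372fdc826198819d8646150cc4c54df0259d45f60047c2228427435116edea36045491be2e07e634dc1e807199ad7a1c556da62686e0a14605d593dc943542d6ca025cd581e4e01a4164e95e24415159fb179d1084d03912f4ec31049727cdc66a917824f1369e71609c1d9ba2a96a6309d219cd50c7d311dc835dd23d0e2142f4d93f4600c66d494b91c4add3675c0315606501852cad684b47f0e86a45f31ce13b9d532c620b8d11ed4d25574849db3e5691a8ba6dd484e18f4a1327d00a5fd3d0edac151705686b0d9e661d8a4f092038ff1ce1a4d5b47e952708ab7c8bd191d7229a73a5a2691b077825488ec5d5ee7b4045a049815eb67d004858085c0d71003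
noncomputable def e60 : ℕ := 0x56d1c2246d6389e6fccc4bced802243142941c2717c2b6740c7ce040e48a5e17e814bf5296c804797f609204e479989129b15c8da2add320e2349d7061cc4608ec42da45fc84490142e07439e250d0f84621c28dd8699853f9c9231005521220838771ec8756b5b5fa571dd6860c121480b1791ec16248524d971088ca0542a26a2745dbb46db522c2f21d33749e25b928709b64d54112c9d4105559e0b065e4044d25dd643b9ad561c61b9633acfc5a0de074cf48e037c0dd455525d620499e01b0c7751167385a3384d0684f1a06f5682013a108695d380d63e5537b9c77bce332dd04d09f5f03d495ac198f34c8d8660e27a8fd23a227c9cb820b77dcea581a287c3a76df56f1747adab2f07504d5503e180f966438e9469bd188cd2cdb4785c14c18b4b57a2943c818074ed474790a50cf6655cc2bd8c7e15960c641d94425ddf7e520628c07441785586620591a9d53d590235a565d3a2c058544ba131e73fd7b8398078c432a8dc835fc53c40534db52cef701a07fdcd2a60a5396557d9c559b0485137d1f12ed4c7a12a5bcc630c8f28221395082f8d06cc376c805850f00cc1b765e547d57084981f18477a026f9b81f87781d2968db72b05d4499928a0f69c881040832142488474f92b2d825524022c93f6343f15969431c47f9ed5f4c1898fa34d3d32423119966e42e6a4bd4516a5d8671ce1b0c15e151102b5f617a132418f2512e50012246116bdda6a87843d2c299d75844919617364713dd912150226537426194e0351ac1e218011c07f73d8167de926d4516cd772111290fb2b8b91700a354450010118053284e111032650f10b5064c41c2d0d1415ba24c03258df85a1e109390a0090607a5cd4618c610c5ae02c36399ca541c34f0a83c8b11a50d3a02629c06714510347d351fb7581f6a080090100ec9547593678c215d921409c66c0e588f4464722d59a01103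
noncomputable def e61 : ℕ := 0x4f1c16a9085e9d976d0c7b1917f9ba41c24711c300d5f319da61843669b77ad1b1b4d33656f1fd1f68cc90260b7709a898be751015a853238213b9bd3950e5643720c1d804c25740e035f8020b63c0a91f02c505305f1217d1c2854131b06e10983568c8068f1130c01797b231c53e1d71c92c5e1035dccc77c822a0015441f5585c428b2495ae2dc78341260f5455d4226c09b83814875e92a832350811458d060a688c15554161556601dce175e618da7434ca7417148859359a231cd50e95b2bc756d02a4f58b0ad1e63dd1601247f0040d53b2fde741912754ec3f5c803c44264844083071ce969927758761000b779ab80cef67a0d7005a650927ee2129c2f280985494e4520230c207b9d23d8ed11a0f15d691883c470a26e5531c5be37d3719a180d02921c933843b3386708e046083872da9220617a1b217d985b039685e3374b3794110151a2f5735f4604b58c84065201995c9847be112e0fe4cc6a2e4f58216573cd74016e735a04e19b61406098e77fe1c4599f105dd27ccf4654a4d9281f9485304d878105259c05c52474e638c894b8e413896441645acae8647d728b5851f22752a4f9701208a36df648e0012d624e94713dfd16c6f785bb78931334e0071443e43e690b15796855c54561ed6561f34535159ea0787758cf27c1898821b6390b2edbc731c61d07a44ca5818cb828c11149e4bc28245151acf745e167801941613824731a4fb534fc814e2348b01c17911cad25d9259c7946140095d37e5b56e0a4410da0b83f255ad5f8ab4a41b4c84a7916d1408d43cff4d18a81c7b6cc8f4803185df35fcfa7c4e86d8c46754602987695742d139572255414f6420c551ac0cd3f580ea6202d7ddd8315f5218f31a0492719637197868a32e911049fa6a0bc22d8189daf378eb891b150c58284942414288885585c942427008644ac36849932b1bf5d80c0014b3d0d8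
noncomputable def e62 : ℕ := 0x5849a2b0fc090ca3883f7d5487399c0591d770ef6e9b7820cf746035c867750a222597895cf2661681844588090b13721daf211e81646d75dff6f51b7bdfb70564220117e4b16d5c9714345110a5241c7d96564c2303c4d794a36e0f6542222d5c64206179c8a481886061078915460a6141e40e5e622d9d01504709ad628571d177570bf129a3509db355c88552c2801450525330a87cd706492955daa6c8e95f5263ecd6645d96108266d7577c018140d7c07724094300cb3b00427475341a5634e334ccd550e70d586305b902c32031bf13db156e0a8822727d4c11c798783d5fcfd279ec5b8705e4975ad5801d02598f453cb958d9f1618e4315e78c7207c20731276ac30558f872c78099877288e7f978172044919e3cd3d470f243c276cd3b1f9bb5193c5015563e0d1f56f069961bd4a1ec3a2c12f624f17a8387618b1c585181130a90d75982640ae48a017e0c84857c0185a021737a55370015824eb868661485b3108036cd18486800dcd3a167664c3378ea5806e1f12d630633d5007f40e1886c442073b5e112c433c13583c3639534119a0385d22ea1157d7b41e1d2a8b674e23684640a16d5d0be4a8482f0a547a1905ca14684e290ce3f9ee699950f939809c3538df060b22dcd885c95064b83fc9b24d941583331a1b2ec927e8da5f8c548c9631df7348136f0494ba2650c7f5b06a094e43e41004821398a9235c73091910a0051485218a757621205a24fc982f4af4c40a42d17660651061f1a5805a9364ccfa06da823e0e1cdda380dd1d8d40edb66b1a914c5e1314b4ac3751d7a7b47a0f09117d762ad684505184c5d079f127109444f72d0ee8913847d7137002418c9778b344a140746b775ae82dd51513a8702d0b905231e00a5284f9b4115a4565d08318369d0e4594d001014c1f4154d98615110031669b020deb7c8d7568ad4c82240d520adc45a5be0bdfc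
noncomputable def e63 : ℕ := 0x162260ccea69219680dc7059e29801365228891076e158592a7882c3f4e062096108902b11850db7110ee67d324147d515f329c1c51c1b79c84129f86d5d71d0b98019a6f4ff2808b709ae3c85b4914d7ed4f3b15920e1364d237206361cca85d04201ac7d919608e703067134085f0da5a02344965309df0ac6815d92335ed87c471c83e7c59109cb56859d820f17dd516cc6029492221ec011d86adaa494f056d8558223275086e6218161e6e02f589f22c598084e46551e785c46f0412f8fb634460a0bc3e20f77586698d5569d535d5c450cc07dcf0fd61349784450b5210613cde04c341c13627d6c5ad2740dcd3d1007281858d9b5e9a51995e03d8069d837907155d3a0c12d0e5176d035798a97a14c52c0944d757f5468040e8253e50540261424f53c4ed56340892f56e404944ce044c4b326cb05506242a14184d35a8c16a5e97821a228321d5944348746ca175a0a548370897f525cb5de182644b474dd5d92b339a241d7480dda5a4504d5667c0fe84443638fa2bd8938c3b3d567165eb6d9a8056063b5e507a241b01a7506b395963dc823861037d724322036dce86cd860424610d44a1790f5390e10970d7e2b9dc154c7320513144830dc9498c00098f4dd8a238ba7d0b82dcb66e8254c0b26652e3e4cb1ea0b13816538107fe1d6c4a40a86a469ef5b44068c9c4bc9a43d3f25e0e115341f1b00c60c0d8bb234057b9214e1af47086215fa78ce2205d91f87f808931ecad148061dc7647df51cdbf5616f1bc6e000e9398a21a5c67495f194647792c4a5b217c5e1745c7a81d3ce277140a3241214c79319025ccab7444c439f9124c47018c256073f20d6409e5edbe344173d81954ccf4588f5417089520245556702e0b61271ca30a58b6ec142d0d67311565c0b5f4eb169fe7f0e80e9640f0aa3bc265c454034a857544045d308056529d000c78231ad01cbf8706d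
noncomputable def e64 : ℕ := 0xde0604d68629037f1373c03c7ecf417d7d7795e02d2663c8d385da39cdc7d21d4e0ff771f92761389876835c64c9d268d906907c08d2a5bdc34a5e4635f743db01753c340d33685c0992c48a1b24ca23a4064544c2287d7adbe25d523ac9e8110001c62808194c05a00616381936094d421f82e0ca7b927521627fd9f3b2234edcb601104f4e302203145f58391e258b7074cb7883e46d4e4ad1482d652c0e52c91a7b51228614495a216c0f20dd3011f048d5c6ccfa08919544164e8596d8d6481360451d0719a195df7207176ccc428b61a83f69c6f319d41115b63906555706c410889e37a1cf078bb12cc96a8037119c5c4025e4aa2fc845b892644e27e85e3cd3310087631b56d01b7089a1c96a069e12c420855fe3b6093751126d775e9d8685e5338fd42c4f618536e49847217198d92e4172f5545193f6e8d8822183e2200d1564a0476c96c3d53554dc77cdef0142b6fd886ecf70c8297154b7d96303918298e4405e6224ab7aa1c735a03e46e0348b459576542f87879678007f583104396a5457c96d1d4c027c826f1f1504495f14a5d1ca5604e3c8c27543d59caf204505981479d925c96b87dae5a467740c4699ab0e9a87b0d51dc7f83d312b93e085d71541f6114c05457334f666c915d5442a1734bc480b86d7595a674187010950063845e94907e542256b07a651871b1d157d0c2d02c265c91cc2a23d8545cf128d7b849591c0311a4fb230fc816214e6012a54930c563203b864d222030094a46e046238d710db70b4b3254425d913438db0e1432f8a52d50447d64252276bcde434e6484546b4a0184784b97f31d470d4600284d58052219dd764d4730c56f4903a18989210508ac3f8ad3b8c153e0a2152d1906b2719657597869e02f024048a7800ba62c0c37e071edc13a8d15fa0c739815842766045160ef1d1a50a06802436415780cccf129342019941d02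
noncomputable def e65 : ℕ := 0x16a072783b7097120126344f9839047a8291dd284d1d2525a28208928c3a30db7814186ac325192907a26205db6e9d71f823715483d6218755b829cc7d90f6e20f46cef3a19a469c9694c7785052896f355084f9f85c1b15302861a191120b60e1210d402f8ab3757a67202260cd5b81740c41700e22498547204445677e951070a745de00fce94552b4dc711b18f5515365d215cdf4164d014c9d329693c4c85f4cb039ff805a04fd02710f72a5662d588008130a82c3ec9b740d457600855777dd55086230f11626939238bb3d1cf059bf13819868e52294158c08508672cce32c0d3595747ed5f3b9203494e33e2436cd76a85c439c60544725e180ad985e0aa220e13f1245d52e475de64c9f0cdae738ba440e41f1c71312d3c0b21883939ca54b0c06f5f2705911fe0d8818c4780456203309d52bc4f0c1ec6b5fc7e52372216684a1665eb1558d175b6629356bda66510c234fd795ac199a4511be7d46515c964ed81299cd005760245e88800425da830374f0822119640527450b647e1c564df2321f0403551dc37741b79c3d844566a10a6f15c84dd107c5851610191ef4c92a1b98e318427c076069f10193d2dd826c9ca5a8791357b100cc1ecde0d0ec584614bc275b0224c5cb6d18017c951a9a752da9368c10d838419621f4b10910b1807222de868c523addc8242d50d5024d3677db51a45b7a55e2d03e23c6f850833f9e341c75558450c560674ea36403310a0789fe0749c3e050316063b40f2454f610875f1002b0990b97f2140c3393361c2f291d81444a86d5a7cdee67dd4640112e07a2f4544e0466e4d84e8e0121e45ac05398ae48870049791b4683cd575f9b03721e1e0c93c86389c0a12d2501d13218743e8ad1ac94460904480d051ed1cc267f5952fd4a2f16d6cd895494d758a84c1922e4d68942562d726790d3fc2085c4902dbb765e64659b5a16474cf6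
noncomputable def e66 : ℕ := 0x84550729696ec3845c9b31cb3610db3658a29110025704a52a7885e584c14c57641df25948c514a5110ee719d385d0950c597b52464108470b7319af6d52d1f15e8019a1f9e00f08b091ac0a6040711443d0265559325f637c927208d27d5741581735ae84c55289b3769130654c4307088423448ac3f8a94c1ba35881508a787e23660d37c57f70d4a0fd5d7dd2f8215139d266dd232220235cab33c825ccf056c9d6d0476141b6d96880dc70d00b14c9062c72084e43b04e0e59b7a5e401414524667c1c55d415775a6618e12503a0115c535215e1cf684fd3ac1f7e8f77d5a96c9991ddb8368e561c6f1953740c80350fa0cd7a1d9c4061a7118b91b2246958310471329015bdd7785a058035549df344082fddb19cf87f52c8393e3e40e3bda32f4cd8742a7492e34089260624e95a25c5b6219e371555516e17e143a43e05ce0419bc3fdff7e4321d4ce7ae0a7307978c87798c309991635cb2e21863c4b2c92025a126522510a108140c3a9d9739660a0c2160436390038d8c2be0b130167cd0d6e47f83c1e175e58198003d7b7506b4d82042daa3557464db05f0e80053586c6d411c2298f489d797f8c88647d09ccb2eddc465c14e48e315ef0ddc91815328c9949d22144ba2a177210061a0860ad1d379568257e1e83b479675605c8693d6c6224f11a1a848438035008f3c6077ecc44ce011cd381d1720c5ee158ae18cbe830cc4d1f879c252151175800648506f5a87b15f1ec49744b604d633cd48115bf538305b0aa38861399821519f4ec935ac641e1468584f4282c3b4106b40d47d282f02e20cb4588a11294f495d8148f55b48a2b53f511892549a01e0d51c9e069647a16a7f04d301ab4589c89a15688dd244b06700a0b52b878023c8b1690fb0485746d150442f5f4d21683d3da20755be2806e504225c469075f4675c065d32658362d5d0101de461ea3f14b870d8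
noncomputable def e67 : ℕ := 0x62260ecea508cf409b93421e3561c364d60e1101a15d03d2a4b52b6f84f054af83490688995d9b781cd2529812d44e38c7515d7f565ca231112b9f8295d7118a847dee3c1724ddf22f11e435da7a1e9015cd7954778d540e5995607812ddc719ea45d097d9d61e5d401149289d00c8b0799cc449fc7247171ddb29d9b7018a4e5c36fe116a0d10390588061820e86c5a76cd746d4286bd94030ce290d8499bd6d1a35813e69a0b370500259e4a4e47108b781980742f655ae54d620f44121d154ec74249c21f0ef43940274a622452811697f8c65f5204bd283b9782120957db2381f05c46c4e86227c6f194c46014f0596606c581d99234da55d45c85903545387f5df55c704d5e264c8056d505a0a94914c4f20574866790e53dc2742e234c58605da43854b6356f7055a7bd2c5549425cd7505305ecda84d3684a146757a121a93054d2c4242397c7cdec3c8be46c194650f765166381c19dcb7ea18461877acdd50c2c760ac41c606e85b572210c100378fe0f840088fa2589351433130aa1651d069f162179174ec07a240d1b639c6b5199c804004f573300ff431a136d2e86daa4ca1a8746e586066f21f889ac11c51128ca324c73217e3156a30cc2494df0a91c281ed228ba040b72e08d80c122cc2948dce839f92b5081f4f4539f4715847ddab009d10e8bd5b4436142e0fc9a8283c4ccf9255343e18b0c60c029212d9fb668bb60c8863c692157720c6d14d521f87f2ad891ec7a755de1dd638018c1cc72721565b0d4209703984d21a1744d485ac640196e6e1061785f3b55e410213cd647fc361542520582331a0842021a8f5774cb12527335f51144427842640fc26cfd64498894a1786190dc560d4e93d9cf245016589c0b50a0acbf2c9b0510141512208cfb1680b07ceb65d14594f146a274fd6783c2604cb4034b9855bb045ad0808f67c0800c6379dd301ca3004e2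
noncomputable def e68 : ℕ := 0x4c501291ad3f5cd4147c6b0f0121714ac578891059c9338d2a758776919d6202b53d442b0da6f47e610d52d565680834c12648c300f4cf144c30e906878c705cd66982450cff1b1b4784c962caa790c647842475491f48a64ca71a94a5bc0685da260dc1554d015410350522f9165f1185a113445322f1df25872489d94a1ed87d531a0ef7c5ec37d9f818e06ca01520286cc3f5d9d4615913f1d8235aa3e59e7c88859172185c681e03599b571d984015b6c02f05007655fb709807556c1341853898544c2875f04d90c800ee571bc35d5a46dd2378bd181610681d4490b7ddf847c1f87034541dd1bc413d4b3026193d162834fb3b5ba5e80d19941311c47d0804911c55ccb071090e5dc22d6e810e56502a7e90308da83456d3c5978253e578f3119423ad3c640ab4656973c35898f6079e6161272690e55099428002758a6d9af631cc7fde584d705cde8714874504e789e3141d03f84c565cb5dc021892e3b0e1294d9339041005d885bf225521960583c225f420044fa4fd5d859965addb25dee5a975055a158e1a4cc0b280d22486b2a43b880db3760e09e23618f720a0286e126059a1100c334e851d210e12d7248c46917609d77f9e7894a6211c37cc298618f4dcd3239bb69ca32dd9c66c735145a2a04b4953a2b60b28416634e7780f86c433531c82b9ef519077d4561d89b064af1661025403370b10c426398bb6ac797ad39778c11c4862154b8285f1b9926dd7b73a1589c7a19cca0b12f13da3095da5618727c81850e90d8a22d1083315f4d5d34e1f90f2083885e5d1157a9785007b434496b89127805534781d5567457f2c12c0280f701a9115b9011ca4ec531fdbe7f4742510f11c1b0208f1c03231520049f62d82e0b4d86e0b8300f22e8211a4b97a45c03a248453d2c8c87f179129604a45b0fa0c0045469599624906386410c9c18c374d1025f8ea390bf04c6d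
noncomputable def e69 : ℕ := 0x160650ccfc5f568886157617503e1c4290d734023d0dc880003402c5c9c77c1b88119782e027c57b3b84466e0d80e0a49daf7fdf67f4385348443c5d3c1fe4a59a220b98260f3a42864d8254416525e77a1ca7142373939709e0289035410259dc65721f071216b9990300563dd02f5e3865595dde634c6a841da79583629e16b0394201550cc909d663560e0fd306a0f26cc7f42c10801d5081c16adaa4fdb5090c13ec1f0f072611a0589482582f815f4750b683134654517b55a1544174560394af22dc3120ff0d4e1499a1711ec604804505288d378217a5e4b272ca5879065ce115c4325b96f27d3b5ad4518e2276dba53c1158d9f5858e57d5e299d9359927308755d1a320ce11c067addd594a97ecb830c897a59e51c6f5a8146f542504976a53e4cd3c5b0a1788095f070405964f4421edb626d2e424193646d7d4c2805852611348d1d7583447cc648871131562287d1e1160897f49111448bf7e50e868dd6c61b4b5bf14d7441468779dc4d4b56205c37a24694fa118c424c073d617165b42cdf70fa073b457078437bce82c436634941f0826182b2e8fd4321617c834ac7735d5b6e464724d23461306d542f079138506f1550c11e290f852d28698c04404d73ccd2ecdf7c94c2dd98400253c57839cb0630ab2b4ac2b85b5389229d5d5d8c50a9df4e86c5b44005c494bc76129255019d254e43dca8048211ac8e2346762d19529f356086215fa368e2205806c860460e34c47a331173609a1d4611a5a2471365186e4a8a023dc81cd0423066898d45a43a1d07e36c5e7e0fe2a81d3ce273b00a6443141d7e650ca13ccb2f91b12c992718954cf9116063a9326409e6dcef0f5a300c62701fc0dce661d2089570150c76702e0b612380a30a5ee6ec0e2d1a779115241ad690eb169d733c1a4b00d275ea6f94404c91591b087426061d3010564e0083d9527480b0ee1800614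
noncomputable def e70 : ℕ := 0x62090ecd84594f74d3b44e1e20d9c16e1a400b7141df4985e2f83830c053b20001d4b849276e5f347071815713d9dd3ba20591d73a0645f0151d9d81b187131417217a610213c1112c559300c50c13d5bcf465c3263ca639dbb5d9ab7a196390db589e9625d6730fb0102b341151bc0f10d7011c77050973a6225c86e5318e2947b080ba4b4e5039e6181825f98619d3e0347e614df1a95560d3a529ea4fca0009d52e0583240c7e5ad2919e6bd5c1c884628ea709cd098f52f0800f0ae789e505d47475881f4de73c8c14899209b86012b07896045096ddfa34560780dc6f09f4d593279a63e048144c86520782cb5328fc4d19a3e5c469e110f55e5d50888cd75594300d4031d6e4a0d40a8bd408f37ecfe2c806674da2ee016c9516a5ee359ec560a3809c0838a11340021d6a1645f1fc33489a8105746f5300bc1b1e427828cc519f5511316d9ac57d1e7ad3642d244655045c5a22d4e1853c0883e3108e30990306215361c2510c896240b1c62a61915c90695db7c00b3b46558d032ac6824c2806462691253de0f119da6d57f7842d5756638c160e8e16c1995b6166618d6a8533881046152740664bc9d4c8708305d349674e5e41d11f3650f5e1950fd8b29e1d355c513e180905c6f9655a0547bccd7b4cb2bd060d9385ada23ac1f89de37059f0e4344812c1d48915449374ce0d5a18217b095ca45092215c32b41a2352134ce08121f4dc31219ff84da0205bf8184a7f90e4480a4a44241c984b9ae1a4fa4cc1c7d9d9415d2399491cdba71cb079e14024b3222262d9fc854fd86d5b12c373fc8f744454102326e176304e68d1a5cd452704472d0104954771575e4ac46d10319ce1b48a6d1693bc567c4a204d6c245f86046b0ba037dd230a5c90210d2557d6c542751926cdfd5849a4a87c840bf5215a7c8f233cb42e5f4645772a00166c7a8355318dde3c50a1e01d2a840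
noncomputable def e71 : ℕ := 0x709f176c6411dde10c9a1f94e078821b93c33cd37f1d171d084be055e8f53bc1a328ba4d0794eca2651736a85b4283d13dc85ddaf854207be1a50e1f5fd376b0c33a19331d5b26dc36f8b0530076f11b78cea3352e6e09654c215bc7773d65570d704d3d678dd1f0fd734414502a03d63224f73020b3b0058289465cdb4f88b80411400147b1597c0fc6d8c4464ee1f58852dcc75c572aca00bd486804279135844601ed0d164785b06d140a932c385c5123ecd4629e62e2167adba3b46a4042808d200dd60699f4344887f9558510f549da6a53639d26541a579d31041211c14d618900b07f25d7b47065494c63d1ea2a9046fc1d7a19848928231bb44e1228e220c9243622681db72f0b5860f95a5c17cd6403401071e97606213422229b048c9d63e0c2981f19e065d1ca1d030370c51759b750614e8e58389f5a1ab460a84a46f7e1332fcb1305a142e133f8c86c4554318c17884055a36ca233fd41674ce458a5518065d41b291d23920d365968761b700df725c65c85f285097ec40881c45c1c55adae37871559cb2f532418e1440e60d4807dd1711200795f26f5873d9dd81003890080fd660fa096354553d405f5765612a26434879df0edd5510a7381ff474cc821b405c0e66426308ac0009560942444f16a02b2719f4fc684b5d06396d809dc2484a3a5f523816640364b154478b31d8be215a2324b7245a42b55d74d847e9b9388935f854095151489e8948d21dd61b17c0602d5aa1c6b5fd468d50c505064da13203588f8159f60495a3cc3a1d404408eb38d4702c7212d610cc3957da70087a49c456044e4c12b645397e579261491acaf160831a446026212ed4a43827840f040d853c86378449145894e03c2d0d27648f0299c1205a89d5e7b85c218292b98b09157780663591f031ce3419a5b9922e5b359c73655786d5512c9802d82e2060f3e9077898314ded86617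
noncomputable def e72 : ℕ := 0xa556204d74495a108f57e0c740478401fa00551001947f5834795c69c3d0212d4113e729c7348bd5553a848d91b8a5704e0301851da173dc8b1352538c6a28188534de899bb7ec27009bd64d68521635e59637da979c050dc1f31a22368a4895800bd476c47e3113123506858a87741a74db23b1383f600854fc3c8f47ba27538ff595ed375e957992229e3551b903cbc0511346d427f8f01ddf54aa055fcaf161895e89045094481ab2b1d743c2c4c8182e56271502046077c81613c9d4fca734518089970d1b4371730e88c010b314c0c7dc873347c5ba11130107fccc42539818fb66cf377c17299a13c47953d2b04cd47714c7386d1718a16428239db7c0686f0cb080ed6109a785810397b33e1e5d1eb6cc40129ac1810b340c37e4b2440ce2adc37621a8252f138337d97e6a20b490ea5e05184de42a49b140ca49d601557c5ad58505615d98c070992fd6d7a0756dd293890d211d15759a2c4e76083f6911947e033e214018e91c9660ec6363dbf4451d751ba664075406c730db8416919c392c03c83db6645c9189e6285f35f4e64b905184893a0c13f8ef759357107040d577681d1d1988603061c198650e794be6760d24d1c7c56a4d1b87d0b7485cb48c963ad531060c055952480b548312600d489ec1202323cb66bd67679283093d4310756e083e5ae4b082500ad7be203244b5bde22d1c6220a3245720b89f2015f70943735861fc252551611a1c024e45c21f6d5d569456829a277897195370485e3b97549a1b6807d12590114aa4ec1e5b2240e1464c1a63e9174cc268102a68c476c06b4688600c830d59f804525146f174a20d82b88c44150e1885aa748f6354d380832314661699c62c9c394c816d591cd366b40a1e9712b9d00918e0f8b82142163544781fc4f21d591494220e1c47b2ec9e455be764697017773cba52c1b17c2d10cd67a90a7206436057528b5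
noncomputable def e73 : ℕ := 0x2fd0c1b4ea7c0cf2d4dc0d21e4b138365220bda568a0132d342820b170e008a00290901a1e350c4143d4567dcd409dd3b851665864785f7b17a5e4a91341e7f4b92591621e27788ec4a1593c8d85cd4d6318122dae26554074575206324c8974c53589ac321d66bd5b429a36d5a72ecda89529448b637c66184ac48d922c9bb4e54b350b86a1255dda04b9c71fd566c5d06cd8d289eb1e5e7848ce835da644be39d49580027492b6e5ba7799e73222201e57fd980e4386554754d176f1b73c115181e447561064ef1f41c44d6e77055209005ac3c4c48a394bc38d7834e097216313d42601c11c1841f96c451505c5321015c178a34199b2111077dbe7e4130221c1197555d3a38537085c4750c43d9f88407b11c06698711d12f855fa42c2a5f57f838de4d5c35d0f11b0ca7bcd53d4944cc0007d6a3b4b084e1d032140ad112ccc16a5e9715f473d215f88c435bd3747c46607549ee621406160c09e1820d890a11b5d908761db41d3b141aa59a034f569690fe2dc16054fa47c4b348e2404aa31c926d9f1638ae26df275e1b3401a6d0490fd9c574d70c1e830964899ce316208905b53c104d8727084a0f61f391094f0758195a754597d9f336d302e8c0345c988d1c4b544480c38683e8456588412120cd29da105e161e82c43843268242c4627dc424f9d1808bd640f419c2e5194e110c625c981152a285b01cdcb0297c7f1f50dc320058263c692440e4603b7a9d927e0846987530ad32409191b22bc050c46e57ce81bdbf811700b4a5219ad275587f877814a608c7606dca5ecfd205933acff7803614825410884fd054903a1a9551380f1ac350a5fb2560a279ab5b4fc1755e498f9798f8786196688f49ce95a08e2144c6589c39804674187018b7b4142d0d66e0fb1680b504f365c652356f2ad723316783c2640c54034a83dd8a04617080565295100c78651c601c5860c33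
noncomputable def e74 : ℕ := 0x88d1b8121b89ce4885ce3a61e874ca891f4659604acee818942f4683f5e83ec51109cb6b49942d6d20e1577a2580c932b93f7fc1c2301b564bc38c9a1a8f347a1a261ee63cbf551f2444462485b13e10790820dde71113765de01c605284014290466cce165d61e408421d26c4e7482201b42b831653095808c2c71517335771b0471c83e2f9a934dba2c06127d3a289a76cc60744f23258c82d09290536f11c6d1a64405868c0c4b9a018d9e4a4cf7648b665987861965474085524947f7c5881d9ae434842ad8e4686561584224520ed69450f907c320fd445757870943199064902a401393a16e8216c500c4600003f0137293e4ec8003a18520b85e503545387edc855cf10c1ef1699256d30388a93814c0a4785255f014ed32d7a5d8184c56b801643d4b258db65c15a789364052a4cc335055026da12812c85d3467427120d16457348cb92edcf0f1f50a1a8899874650f710ec3bd7f44c907b5a54601962cdd825db6b1d341d74415da571024d571008fe8456783cfa5f84e128d74f4437d9b0558874561651916320d987d6f7406b176227e54f1314d300a3430da36cdc3a8813d8a83546e6ec0f49834671d870caf5161c6bceb078963156a30dc90f4df7c1bd84dfa484ba4895e1705e2d4540d53c2c5b9332012b4046249e538d629ca6135ab379b57752d6dcaa2749c4bdf8829f325cc625614809eb0c5121588a17dfd6688e60c553c0861cd8a81de636162640411f07d1ec7a7554a1dd8d05d94215bf77c1a1bcd4735c1399f71a61219d756186467c626e1b2234b6394b77a95375da415c8f220b46a982838507a4f8294e10e8f70b527701ec115e33d20d1f8165edbe3051f6044b0742f7940a2ccd04c97c245550e02e125c67317252d1d4a0260481071c1564c205f4c70e5fe7f070439421d44008814598250442434961035a202c36019d401c0951cac00cff77168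
noncomputable def e75 : ℕ := 0x584762b22469c50209b74a59e78c2f7a9224083e5983f5ec1b63e038448c665df52a0c0ccbd128dc1120667d388497c562007e9e73cd2a071ff50c4c3a54d6b0117cd6443ce76a0d3795200521b7a5d77f94f7b5e4874be7142a8380777568401da6fc747a1190d0ff605c74e4221f55d32823701ca62c96748687842070cec185cb765102643c509676e46a880191b144504981e49222032569f555daa1fdef88d856955b1555c684e28161e2880166c1883cd8084e43004e15c0b05c7584cfb3947c724bc338b161ce1698d50117074d0813d0b35a02854585b4b854ccc5d43d450de101825bd365e5405ac873d9dc6ea17595f258d6289d603755e739a2691ad566016acc7468c45dd17038357988e7d8b23fa0d44d48165331c5b47e5bb6cd6c180271bd3c25cc8746044616e06934518894c4622c09b120b3059fc87c8b471261f92428e1a485ec104ab4752717555759375481d02173524470e5be7c41e434665f8aa3e18017cd10b1040ee193a1db7514b3f4436386e38d092bd693d4b57f4260e8a02fcee3b5c212cea7dd017c0e6635963e5a06180537d7257e0814c0f16d980317d610d47b89f4184d1b58933576319cd2753a558cb3155417028305953bde28298a2a4ba035782dc773d0954b14c6212f3dc5102a254790a2eca821083148a448d9d0c0f0348133249c4b8656f5b24edc82d094119b0244900d94e236104a08a4c9af5a885218a729a21204726a52573d8c1ec566c4782da26641d81cc80514704f4fa33db51adb81a5c60ad0c2686400d307053f41c5e46cc33643751d7a64c7a68c1236ca52ba225fd94341f83ae091252d44893096073f00947d7185a185d1bc40cf1444001688f541d582dae0c4a18702d0b90519de00a4c24f8f21141f731d065dc40910e459fb851356d99a6452b009eb278547d010369512e4d7648ad10915778063818318c1567038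
noncomputable def e76 : ℕ := 0x5091b604d90619c408b00d21e354ca3a8a80bda58497934934282170f9e9088cc109120320a50c9f20c0f1e03b2d4f87e41715d147ed657f5ed8049a134597b0d60f1f221c2a789ee7e9f562d048404f51c6d0dc05111ef075997214a0e8010b05b711ac3cdd6754082b1496d4e75f1b92082b2401b309df08d0a29dd911c845c0cd1c8fd4712658505739b85b56f745b46cd062891d32474689d86ac81344be69da386164699ad368500199e6762245d9a781980e4386558c168803047e3c0ef58d947ad771f5150656b274a660d82895800709607dcf26c27859786290b52060534bf401c16d8626dc6f6196a5a4e2100137f1a4635526ed10198b73b95c56d5a2307155c1a4053708562545300014e5cd4c2c9de7497579c5d1292882627504651d458130291d8e81b1385512c0c21425cf64c5500fcdc2f5361a0944a54449dbc0f4e02c41022832260466c1bd8990e4651866cec621fe19e0c2f16043d1a2490c5d9c63380441db26e9ea40e215557128cfe6f816054fa31a0232d323849e75c281c18f6395d3951631e1b3413a740e63b4cf2b9683d52437c023752e36da1890530cdf4874d403a156a4e9391097020e3de1c6bc1e3acf9314c430dc9644c05c9a84b511238ba0905c5785f80c250d54b48e20144e32b5d31f0432a61a715841a8a43fdb112e13820f46142e5edf82651f4cd7e2552a1390d245cb0d8bb1795922d21224557c4691cdc281dcd6a99210590624ab1ec7a1e6051dd3b4fdae215bf560f15b06e799391aca52192b44d5f500640256e185742d88d518b8769937d93e7fc0a22012360522bda07a0937dd3d285450b44870d1e115e32aa0d1fd674be11495f3811dd65d967948f2ce1f35d200c5358649c125db731f04f0f25e8142d0b971e0f54c0b5f4c87857f7295661e23800fc3ec265985403522818d30460b0805618dd400d9f7910801cde7714f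
noncomputable def e77 : ℕ := 0x3f53b595e675007811184b13a1f203224a767cec2016e3550077dd97c20e489f310d72205e84e4f52843a415dc27987819d7168f9325ad6158b5b53d5f1633ccfe2307b68d31645a50a1e45e0f65159d525965e8171bdb26c22363d986dcd7351db179a8345a951d3e410c63c5ff1e6022913f56dcd638c425cfc06107708df21d64391440d14e3343b6ba203a0dd554ba0f994874277ec9356a0a64a05185208310962961631814859c0cd4d47c060e0b2039ab64e2211daf052147b1e7841fa4bc882dd9733811575356d8e02d9564a9343b90b084e92ac294c0c0459271d1dd1b0fb6812d521bc468f8064d23140954a0b4c9f203d3872e27465c95bdfc700641f9d106d6a3ddd283c0c1721600075149f4435aa50d8971de9145b46e1103c9b944d5e3061a1c0995622419d76801c6330ac2e0b0564be288cb2d55c2ed424948a7557545458129ef155b169ca5519363710e8852304071368e715c8b198b3055fd84d71609661b9cf421a214c04720cf09141690f46205b730eb541690142026218805fe784c70f0ef855d3738a054c495d2125514a5fd0c52c0212c48778a93299b2353c6b0d8795e31357b59df74a1900d4aa13ced4b8232508e7ac081f4b97404e7051187890448a824803100544cc26088f087d1c39a1b81e195e43934c1c4dc5f358a6610e37e1620c0560c9401d9a67e4ae21a252f5e01cdbb0b59e6fd266f97e7a8e1274252559506957835ca5ad73118445802e57c16710c80add8048014a4967d463870af1adbd2d12b0fdd6820ea364601301e1e1177d80d85d1d898c30748f5b08502c5d1a82f341f14787f20e090d8657b570245863881326872164ff6d51453da1210826689c634621dd0f0c4411080a1e8fa0f5b35f611531c5115c33941f28d0a0dd1b3089f5a1e226cde4902c0a97740c692fdee404bc664db6e8ad769511b58041868408b160c50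
noncomputable def e78 : ℕ := 0x58059251387819645db82bcbb6c46d2b13c2a8f216d503ad9242ce40a18f54e10205a7599ac128652ae016aa21871ce3c535740f04315c6bd8e25c9f3385d1bd4c8396413a114801011d9130c8951a0a6422434dec3481a3bc9284cdb5d204768098487480066496233a954560bf418e9728f9584805790151d3409877091c32f55b2348b1a96e2400b50143775850f5440a9e2479e1651b97f0d56614a759d8474987b8fd7c5040e9718648e7a1a036037035de629e6211b265dab7bccc77dc90d5a37e9a5520fb808447eca100509688063848a0a5f7341e52a5eb05136490e51fa0c42846576167e4551fd563d81b33d08895c07d89e6907b1e53e61d2a72dad4bd39209826d4e339d67020f70edbc6782737ce279d6f7551b7a5be525283f89a731d47e0d689a1e825622951a619802cd657c179634c75c21f1a1811c4cd5d88c49c1745a0f685a86744d168ae0796d57e201797748c3c4fcb92f1420c91852ce05f8206990571005815d304c0303e140f9f489dc65c82c7f96c555ea820fc7d541744b03b17f322183e0645f1b7448ad08dbf2804322184708186d9190311318cd4770a3855db29d6a75c4f401896ed334b0d97f4763b9d25a5c81601d4f5780452e24c0e4a5b43013162d834ac694399a009301b096029325ecca368b8868a2471cd0852d81ce80720321c36064414e8f371c70214c56b8b7114ba158c435df34412686d8c704951503912c3882e17131593061d7c82d73c5f0cc9953975244404513b78d0701d731ac51048044dd0f1215a1b8346a462291d9149513e9ff0fd224449c47cb440d4d51400324be3446137521398dc6547d0947c8342f0c0b519db30aced6ea062a19b07c4932dbd67c9b0c49d1407a23c161d4155e9ed6c0b2218ff318b15f4f40886015ca655c835adc57907843593108736211558d991715214c2e5a0c28899c3d5022d8de1c94f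
noncomputable def e79 : ℕ := 0x2fdb91b453169020120e1861e84d5c86e1a865be85d76331fc875695e0f183e2018cb20e20a181c84d9338149e40de84953b669895fe14425f2261e9749cf468d625dfa265d4188227b55662cd97e2023e0687096c789e37840e3714a4f5cd59998710301f5d65c1f0429f72748b7d991771a672d073ca086d54f64dd93f9e57051264a186f55d5dcf4899b82588c71ca32a04a149b0524c7208a1018c55612c075cc170374e4011d98367d9e1a9083e9ff621da63843434ab715bf7390629997520bb7acde7f9991bd2108c35681824ac2f7f57b2e54d5f8154be116ee1639475164bc225d51944426de43d51c8496859ddb17c843b46e008c33195e6f21c458e2501a91e1ec1d04809d5248cd5718935f090335de6bd8d13cee1f82a4fd110415950c397747b8012068c404de0712cb6818134c4a05e49f4b5a86052a4a40849c5d8044c545226193a0f51e3016a305f5464bd45d5b34cf3221c05091043c1a654ae0fdd37ed9c729900ecd880e223ad003fdc32e0e40859b3dde73e42c5adba451c9840b31614658cec404db19c1e39c2e5d4fc38d5a2283a37d8a145df3a8177a904059f4540d4454b0104550cc1c52e15198ca134326b95f6a8c45802646d1d89c8346172630b75f4fd2e9342d4453c20c2c4d22bd0c158006500c119b30618f294a46d0a26b1304ba047449c5b4707c5f97cdb725477538922194c0d87c235b6740e15c51321c910c5642f9ad204201c54575c8e4f07a1e557251a15d1551cc0b1fc9a61d628942b0b59d1a5e63a4cb5bc5e835ef87e0959464499a516e235ccef15cad34012891b13745051c4e325244d5b21255411ca92d16e658033453842c3e47c0f414e04fa0b6908f6103433cc8215d8600e61acf61b1440a41454cc209411615ee3ec80034e869cce06d0e014a7368d75e8284c854091410f1e007caa1c80a01d28025ab0662110961688ac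
noncomputable def e80 : ℕ := 0x669a940c533bcf40060e6759e63d81315313f1be718970fdfc789325e12165dc81e0b280e077e6204dd43290cf1b5cf1c6162fd871f2141bda42613a6d5e8468d65d9a7461c2281e06283262cd931e02070ca751ac874833ec083054a7ed66735981c9f5195196c5e560ce9135427d97576ca21ed074360874900665d93f9f06151266e185b95d545021f9cc1748c0adee2e606755b00d1f835d408361b684f029db817018744045150a67e1e87d2b08015714d82c4b53c8ab62162520d22fa0f738e8308ec77593424f14a4c4059af4222111a002a0707cdff318b85113b0f0512a4e72b0521f50f47c74479544e1e6659dc7297a2bc8088da54bd5e3680c16180285b918dec7916a741520e48785c4b5bc90334426080f069b28993e518d35f5554cd237f9cb5ed24341054da0a24cb61283b868622b90c611ef5706408c0e54096805ae5dd22065e92c0f50a04837030759f135161444eb1e5c022cba1104f05179331ad4f4aa17d6d04dda0e1ba3cd4f5c94b8445015d923dde73e60b13a224391d229304593f38cde51e241b14e2f02e6461958da28403a249ed1d5263a8177a9046801f49d1754c3d374c95c4f870e1534468275561312e16c35580266ddc9591e3264ff4d43e040fd4407710cb44b14c639063b49f2b6046521c7f4110de1344e054a1a65b0b357c004e49c6414d2f4605f91b15134078df21a0c0297f234e009c050cca5354850c627299d3204fa494762697311c8f220072515832d591cc0b1fdd7625bf3d9c7398611a5687dd745f01b019a81aa095952a77cc36a8022385a0845668c2536d70104e44056b15520630ee1251c4f059115bd59c0319a1242cb726d8d101b60a82c7c87a4b549278c8245d83882d1ae2519dbb0a595455eb049b3704a37846e034bb7e8ce179143841d6f082210c05a49550424394227d19c7103655db46ac096182f7795b56889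
noncomputable def e81 : ℕ := 0x55a10e0db45a22569c887e1e2f90816e1a142184017e42e1420c3b2e0192c60801d4c1b5372620e4d946815713d9f61fc97591095cdfc62418181240ae020c01f4eca77c5f02cc083b0c8309ea131cf338687954063ca615db46dc421bddc76cd802d1a5f1d6755d40586c154d37a03c735a611c5f052203a54f7147252dc24a5c0081be43cda0e5ba1d8a277ce019de0041436c5b05253a681551e0c5515300ddcc30c1d1342f899ad67d9e6755c1b88466504638434759464c8003c3d78d975d54e098de7ed884f48a08c35208342a80116616045d75d8bf4b8fd4f97b634417f4bc81170268442c1593d56a414ca2d56641dff3b4fa3bc5c2b95e05d9c16a215b07e018326b154509520a8d57198c1f60c70c036bce5452066a5236c9532a1e41297761c7b7cdae3241382a07078773b8404c5a827d79310a00301b7042221d1b1c5f851122384c74184e6551c499d84651845e2322d472211209c3e6f501300c6854d77fa1c5951f5a5980b10243a1739ccd5e0e4085623e41c3de035acf413c28014625853358ded0685371c4b3fc2d520fc2bc04485b637d8a32c96891bc365da4280d540d47409b1d49d2b1e73f83f375684e5ec4810c6a92d695eb1750d5ea1d2f57224cb7092112e89459cb47bc9083d6d38d5f2b4cf2ad811f1417c9e21e4a4039b81d12c4bc893409c3496f26609800dc094b62ec92214b20d8462343a455862791349c312459a84d832059280558534a94f00a295ab4d1b9344a11cdc4494657759b82dd20b86a1a5e66d4511c05e024f0185f9728643056086d5b5fc0278456744123a85219a193cd1e68de93a13f1244872c8e1156e659de5d13233110641ce8488c6ee2569c8f6118200156219f56886b399037dd510a4f24458b254b9615283edbf7d135690f84a8eb841fa575d389dc94e0545f5b3644a33592b7647a18dee835573c4e25285860033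
noncomputable def e82 : ℕ := 0x37c4d3511716938888e51551325c948945c16d64681590f0f64916934e1011d0b18c921ca0a0e9c8525392d89e234ce82518579b220cfc3b9f2650a0685cf3dcde84dc92cd9563cc048dd82f1961f186065d92a1a8788480f9887914f6759b55e0436c171f5844b90d2906f3a560321ce3e8d589d083c87f6d54a0606888db33d4fb6499758c1c4c43b319b82583f1497d709fe71db04d8dd2a841885041d926504b0868244cc805608167d6e3a107770ff039da1600c7c2157ba126450f7be1838179530d6129a77ddbc0d13785d824ac6e198742e606554c20ae11440598388e8598b3a9465f0871e4dc705736fe0306c7835cef2942f009f48999a485c65ca0d5a98776ce15ede3085527b5a6870931955b1ec7706a0181d095395307911781767741f50ccd6b04c5bdab0d44f57e05534095dde92edfb5ad6c605d34042849ddf635200a522809f3540eb089402f805614d114c905e04e28944509bb419af750ae2312a27d9c728e33d20b5a004479007fdc34f83309dcd468f979ccf4b580311fa3c499639d56f4ec4a5c47453f39c0a6da146415a368602fdd01445d224306b4c5108c30f46d455cc284613915d5e8ab7f4ca6e4326b84b02d1422d3c32ca772d7f4ed162680d28cba3f4b54d0453c0b18311f5b5d71580026043119e564c623b50a6d088801745c19819ce62bc6c7c40f4e8a91cdde1f8b2095eb0b5f840d75629ec79a1e110690c5be305ea60c201c545430750984926d66571d24c17e255aa8218c6a50586d2f0d93d245712751b68c03388a687d25191654b057864fe47084694ad34085141b131e24438f34d61d325891e95483db72d19e3645e2f502881e1349f9589482e0d86908f758230b1f6049566e89c1adfc1c1c0544140a81521811465c5448012dc6a665e859d477d51d2285f52c084c8540dc1d330100e4820e02e01d2804c403e00605961688ac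
noncomputable def e83 : ℕ := 0x2fd351b4533f9ab4e1b6340a24e9de35057864ef2056a7e4cf481bf4561083c8c388b26aa0a5207f0696f2d59840d5d0e8d1669fe30433755c985574560c879dd0490f23c1f07bca70a4174580c1d5bc7d4db7952612154785a76a21c3a1dc76c9e2248a431377edd4429a9745f40c9ce7343d37d9c7e8711487747571169c24b42784858295e85dd6212db82a6206c4b96cdb26d5b013c5110cbd88a0b749df7811f170115342061d8367c874fdca66dff04204210826543c301696450663d641802b56cc3625416841c08c35681826050546d7e28d395ed3c1c0d36ed1c42df85654c711098184426c5d3d6166488d59d661098e3b5ba584de134ff8094a62c635cdf755cda555e24495248cb02507e68d720995c51e095249f24c211a94262059674b70797a1061d5f2217590e898b6194074407c268ee704dc4aca44781449de4381f35452233a1369929715765fcf80d0a1141eb844f3221534453138d36435d75d5d35c107421906007280c063ad0057a2307c2c0a8fa0151a064e45ac6e451f23c5f18612e58cec404683a5dd39c2e0fcf643e0d0c12572d6031d2c799562a80b1788b34a1b5e0d58021f851213089820cca319f6374c90e04e628cd7f59389c666b0901b0396d00d4f934814b42660c249501e47d2b4ac03cd96dca87b8a66f52a5f61e4608e519da2740a5b52f2cccc130462554f514b1218bc1aca05a20e359d876513678910499732d9685c018214e2b9300547a2bc787186f7a4741cd04721791d8f4894bb23d43094ea19cbe4cc16568621558d00cd75b1a516dc3501be8685618431891c76b9176bcc457c976e44a125e311c961156e6b5654ec043943e731940be012e8c50902d611197f1cf150e10ece60d8fc630fb7b4087014b1a43761418511a23f53d0398606e073dc227b0641ed2802485691992ac1d2e1ea3609c04c284c9023e44017c0220000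
noncomputable def e84 : ℕ := 0x4c44b292215e16840d4e0c12c3113274d93865be6e88e3e5fc46494169b883db51a1e00e19126471540353d107011e23c11b038741060b57d60014756783203c1108df4181d419d23714d0050d7500dd2ac63654887a1867859a28807269575999c38861761a3135b335079299a47da0a771af6ec9e37a088819286820455e57053e53d7a6f4c737e05518f18247e395eb2a17e0fce77315d658a1234c52be1e7fd4929d8a4a5e65b83b401d21b1da76c1d2490830842434f87b61c609e4274841194328cf263cff1105125d330bdce4ada0304e92f1371281507a2372e1671de95d0b9689d56106f61d065aca07790259cfa00d9758cb50082431810551bf5f5c47e0871e10c6241c09cca08a0704d75479b459212698b347d2e230fb4fd11579732ec393a07b3444e75a03534d56e505405c62fd1c1c1354b50f606254e572841132a585060ec78c3451d7c15d6a7f594874be8892870d245b1c050a276a0d27088a14a1b7ed988112660c0b101175bd9f664d30347207d9b7e43c330fc3d6177cdd049d8d162263b522818801892f6c02e24c2c77cea2b9b75dc37484e3569d77a8f6059fa4d90a3f90e5fce10cc48098196b1525c1cf3390933e137c94b4ec29440834600863153459442e9801b873495a75041a561ec1e8007d40c521f0545fe2946d240dc199303b9ca5540a68579380f74503a2d00983988218280b47c019b1724558345d6a4910c4cd2f565589d97210b05d763bc567ddcd5a56d165d1114d81fd3d26c814a82b0d99d094015eccb3acaa5c5b2368966b464641ee16e115653c30049558854e1b6809ab0f520324f327def2b5bc11e01254762085f802245143e13d1a2d9f144a1422c8f1953a6a8c80487d4d0e61ad041a8fd4758b2dd8e1a4d6131a50a8db2e1dd831ae06cb02605c87cd98614c5705430cb179cb20845e3909c5295b1dc508545310d61224ac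
noncomputable def e85 : ℕ := 0x2fc9f1b50388d02101751f50f84dc6351ed8657a8147c7e60b87409844f183ce50059a851823807f81c6585e0414d86635fd2c9d1800383182485459748c879cc313011259b35ec18868e1530165cd217d5714345d374517841d370775e4783e9da3a8da18529324a8429f77f98a0c99155dcc37dca0dc7153a1c64cdb70d957043904c156f4ce5dcf44b9272650b24c147c0e9515b06bd5410866018cf5612c039a6544f24e4631bcb667c790ad9c59a0c6219852c5f7083c7153273888554cd8053f241d0275991da02451014d20a6043b4ec620214d7be18775786ec8e881407a5167984d4cc9b111265ad3001d1759d9b10cc258c6e584d6424b10714f2f0201d5a97348a63dae2dd5269550571c75f1eb65c945252551d356c41f2ed4204174631124bcef5fd2068c0447936519835bd924416a4f5b94b5a84aca4758b96e16c52097171227a13a47d37300a0104f8310835a172455854193e445318790e794556d9d357d0841d130bce48922261100248fe084d82e1db0151a064723d5ba08da4840464f04b3b4ec0d5d96c87039ce683904288807b20972c8b78ddf711d835cfc365603561b34cd2304ae6a9bc63898284ca755f6121fb0cd197d1643451d89cbd2f95b50c274a0fb54da0204452a5ff578b021cd0158ac03c5e2cdd4088742952a0a0e332d1c8989e6249c5b81e6dccc491f11cd4a6d4ff2458b1ad761403f379561a1902bc8604826460032d4e28205287e1616049679dc77987564a6254f6720e8685628946a23c6c1a489129ac8180c6897e75c3a658aa7912316c5a7e07b0a4ad4303180c7e7888d13c345c1f33b8671e8c711cf02d16d595ad46e212303e0f59460060701fc7242d3ac4e315cf150174142e0d80b6740d15ca32e884095fa3cca73f55a5109a7815d06c1a3ddee0c1ea6f9b46fc857c9412ada70a8640b00a8497d5a5ab3e5382080283400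
noncomputable def e86 : ℕ := 0x56060e0f63355738a1557caf31d3416c291407b59da842cc56b93822c052c4cc649642b0341c60e3acee2050436cf87e45d530551d5aa4e5a7181e4516020c0de8001d238105d928785f52f05e5b1e733872301594813a15ca32814f195ab58889798327444e431410587e425a57a00f0199011d5c2e620560424346856d1d310b718d3c1e4e10e59b4cc877bd8d6a4227c1c72edb03cca641e1d40a140ac9669106510a775e216e47767ce35385f598902a17162d4a709946560d0f0886b1eb2319d5c81f341b37741713c1a251372a9a25d0f03c84d2cd6112dd04f92c3817f344c2890ae1c0b0111405aca9102192d46e680fe58cf43bd155c092228b62c82f1306c7351a78c665dd525816d00c5232623669c6451b66bda119d7874953665247dd425be18498831f532705014bdad519054c57e4d4e84a5b70301b829e0288c1261e930d22368be731d664c467cdd8478dd2360c2e1850f4ba09c3e6e20779461720d768d658711384a033a8786121783d1648dd9359db3e41c3dd983d4fa08d7d064dc2fc763b5ed0d49e50d2e3fc6b0e9c487980574e537c0d1213081186191036058a26cd43f5505cd4d1b5cf7fc3f46168625ec63dd57f18234d9725dc55e955144261a9c072551448824004577c8439cd567a1f158cf2ad0a265d47e8a143ca47b9bd84d7b078d87ec7a5b9871f2094ec621cd9c6c55e0c45a0d91c45d48171bc14d1f29485245c31d1ca81407804e92756a6f84949ddc422267f5e2094fc4946f4f5ba82db20b8932540b4fcbd269ea6fe163187f60cd946c2a86d4b106273b0ad5f0120b18c550ca525197f9f85e5b5028cb72df12d0d2779961641382110699ce5a575444000608f4392d89556218c80042d399da12a11868116ed8e1a41451c087d0093ec9f0ddf64a936841f24852b008240ec540a188645b4085d33909c0800e202223c55a10c5801033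

/-- the group R0 -/
noncomputable def LR0 : List (ℕ × List ℕ × List ℕ) := [(0x89e268962488e228862087e1e8761c86e1a8661885e168561484e128461083e0e8360c82e0a8260881e068160480e02806007fdfe7f5fc7edfa7e5f87ddf67d5f47cdf27c5f07bdee7b5ec7adea7a5e879de6795e478de2785e077dde775dc76dda765d875dd6755d474dd2745d073dce735cc72dca725c871dc6715c470dc2705c06fdbe6f5bc6edba6e5b86ddb66d5b46cdb26c5b06bdae6b5ac6adaa6a5a869da6695a468da2685a067d9e6759c66d9a6659865d966559464d926459063d8e6358c62d8a6258861d866158460d82605805fd7e5f57c5ed7a5e5785dd765d5745cd725c5705bd6e5b56c5ad6a5a56859d665956458d625856057d5e5755c56d5a5655855d565555454d525455053d4e5354c52d4a5254851d465154450d42505404fd3e4f53c4ed3a4e5384dd364d5344cd324c5304bd2e4b52c4ad2a4a52849d264952448d224852047d1e4751c46d1a4651845d164551444d124451043d0e4350c42d0a4250841d064150440d02405003fcfe3f4fc3ecfa3e4f83dcf63d4f43ccf23c4f03bcee3b4ec3acea3a4e839ce6394e438ce2384e037cde374dc36cda364d835cd6354d434cd2344d033cce334cc32cca324c831cc6314c430cc2304c02fcbe2f4bc2ecba2e4b82dcb62d4b42ccb22c4b02bcae2b4ac2acaa2a4a829ca6294a428ca2284a027c9e2749c26c9a2649825c962549424c922449023c8e2348c22c8a2248821c862148420c82204801fc7e1f47c1ec7a1e4781dc761d4741cc721c4701bc6e1b46c1ac6a1a46819c661946418c621846017c5e1745c16c5a1645815c561545414c521445013c4e1344c12c4a1244811c461144410c42104400fc3e0f43c0ec3a0e4380dc360d4340cc320c4300bc2e0b42c0ac2a0a42809c260942408c220842007c1e0741c06c1a0641805c160541404c120441003c0e0340c02c0a0240801c060140400c0200400,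 [], [5, 14]),
  (0x8098083a0388cac8851f3d4fc719bf35d407217c6b94478ddf04d246fa1073e255d9ff3057f751225a96f51a0489227561ac8314738dca6b5a16e5ee0dd9f7a587779b358cd67bdf851520449d97d50e71c5e79526855053fde0851f350dd876dda7a9dc38597732093898a745c983dce529d54f9fc7421979e1d624d970dc27058b872116f46328d7e7e52f634b929da67c87c5d1a7302177ee006ad0f2640b6c1b464c861a8677e9a07d87934c7227054664567586d2943f6959227888108956dd27701d2715617d0b813865188cb60626829ba42618348704781e5c20d5d5b1538b733177818af26d0655a0755d675a166595647c562620112ad5e0a95c061364aa015a56b31935469382746e399733a0df3bdcd525487fa057b616775425061a4f5cb4fd2928461099522ed5a550f44042e31d306e0dd3e8bd041594f0a6631e43b61248e08485ec881794750a46d533110845cf8308f3175eb018ee6a9e81a44c1d11c5f5181056c7883323d024cd00784b43f61e2fd2d23916070f687d34450f2168e052d10494ec0d4b507d4d0754f17c7a7f5d375cf0530914b8d1350d0710cf86df0354db6757b370da3604a1617160840324c84c555125192cd1582daf3ec2c4b0594dc936d9865c8b03a8fe30c310f8b65b8782b62257c981d8466d5286547e6ec664ec801a1915459b5b49a6a4aa0c096638072e8923785740cf92348222c8a0ed90111a40486c20c8c058a01fca41f5b21cce4678ae154a91490b1ed9c1c57a181506588414da34349f688a2610516f1834e86f395e644c4f16cf12f0cd241981dd9a1ac751901b171850a10c120ce3144b11ca8114870f58f41cca650b110c03224240a4387dc2d3ac23410322c897031320d8be0ad5d0e44d089390943a0d027068203a57839cf7140210355b024810541484c855812b0200e0642f6a00a05c0f25111004040f00201400,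 [0, 0], [9, 2]),
  (0x42a1c5ddff5996126a1f6e17c686056b60078e1e635e918dd60f1d27f20471d7030e032e1b22ddcb6715a775e58311c3e9f8890d22d2116e61d7d9d00661b821aa4a4ce8294a6adc93859567534489f12e58f705b46f0d85491b65d3c899e6605a03d05e29ddf30972541245061a79e2335915511be502156d9fa3ed1848d42841a5519ca738db6bd9667d554154c52deb129e84d4d07b1b77e5ee666021adf73691262c4e6e835719db35ddc791f21d8d15255f851916ec697007f68c73678237898264e122fcac43e0d1187a0718c769bf1f06d1dcfc51c5f1585d7ccb332554378e9469de4d8ae0f4864947242da76c1bd402215fcad888402d8042001556dc44c52d1d0ed881745c4f00fe0126c911460f7b5f07bc835ed4375df5601c3409ac5a21659e0e7843184ce023cd96c5d90b8af4a9213194f389c50b4c78948832da65ad8a7093e4c0a53d598115f40c8cc752063c8985a421254d32147e89d631309d731871556f195a433c113a0d54c9654e08e3b2183c5d313caa271e04bdea068c84b13b514a4558fd124ea4646406d6d5f4443f86e6d4a173d14398938653f422177edcd745c8499fe2e93d6ba0701d5349c3e5d4965651f122093055761920168246246140c6637d7607d1e2d4f982c300cd791e133009882c116189063bd9028d10300543fc2c6a46a650a910c7114cf8165170d01d289923cc905345c038280e02b2247b10585018175204d204be1f4ee2490e14887761011c183299d51d5b3590e527d58278091bd7e430993ad9a390bb350f72c86842442638e3080bd4e89415cab5e8dc181284dc587f4a82115119d6a12da20516c001074b879610b1435043740f0ec2a0e48b0352b3141e580f625cbc0bd6e0403a228a00a46c09c134755d5e0225cc5b311131419b3354e01418208165704700d11328364e48d0040c0dd622302639c126a15e0200a02c25,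 [1, 0, 0], [13, 15]),
  (0x43ddd4a5ff7396159155882187ea267d9d036cfc3613e721974e58a7f1c15313c61a032cdf1311f53391887210831aa5421a890d213e1135dc66b6006a1f95111c5dd9c7a14a525ac52daf6d0f4859b273ddc8119d8658d4ecf6759708159e681814d079516141d1193ea12355f837dbd3590b821be7b8d483da14b15a5092379593601ca599e3655a37ee1f6b9c7385e41ca0a4d5676eccf86d407bdf427c055a1267010664448875da6e58f7ae07070666ad1e77dba7b09d62c92658a67985d85d82695242f4ac428c1218411d98c76d4358c6a3961e51c552c023894b832554085d454e0e4202e398464944a4553f4f623400714380a88833660040901556e0631c6e308ed6e174331e1131d34b81a23db66d5f0664835edbf3bdcb519c2745c936922341de3c05903cff1456f6c5ea2b901565213d443560f10d9317cc5232cd35add270de94c0c0318b609602781713a5c4258aa730de079a6048a461c7c0fc695a62717cd9110a86dc3e2ed411e165284e33b17c716012d0981883247dd9245173ed5229c7e558fd19cea5c90301cdd1c0651712d7b5382e5730f4546f1a74d9e267dcd40863449fe669b0415f206d1a49c115d4f24a92f0d41f835d530ca36248016830190d179e0b8255f2d5fd5d861100ab4c96e58988158f82704e75c75480ee294933802a1bc6d430f753e211a1160c4c844c583707d538904dcfe038090e02b225281e96c4444d520172055d649101fd7f22184108af5f59b1cd576416a268771ace25f8286a49e6506012cba41ce8854a92f0535e9d85e08e080bf25c5015d79424a22647b5341d3e5a42090d125b33acc505185474e426c5e21d60544ca5b6130ec2c0e48b02c10688952c51b4e8b20bd334aca02283a0a48c09c08000be638224505b2dc342518339cf37dc182101657047098064102d0f08d0dc0c004021b003334850655e04cad03445,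 [1, 1, 1, 0, 0], [12, 1]),
  (0x6a9434f20c73988590c647d7c6858067dc93521e33dcb865d6099d2729c137d292e22430d63465e9129086fe107fd0f1b94080d7b171be86e1d7edac02db98590a5c072439cd526003bcc0699345107c83dd8810d3721b7284f665d7751879681813d19e7b5df42cc44b524355ee531bd7c07448a117e0db73dfa2f53650923795a5899fc59a152946a6b4f585de775d266717f5516828cd835e1a7bd871a00159de462d6c2784b719da7e4424496a3dca26ad798517e48151700921b528179136b8cb64e124b2224720b691072a52776ddd7c5a317cfc7f8772d834839863253506a0946a254613253ca83b4ce3093d4fe23400717a00a2b104158040e8150616f4c550455254bdb15c4ff430e23742140cb929cd66648334a1c52d3e815c2745d034208369f3380bc021e1192065d1d91e1334a92187c3d8045a0b4c7778756099d5598a70df54c1af554b009627780cc07cd925898754915e1b42147e7d1b26510d55e02395c421c46634b14dd412b9654edfd3b218625583f8aa60c32881ea379172fd386d4a45acfd688b52dc8f2512e5e98413cfa515526d94e10d9a18db0569057d94a409bc7ad47151a7789b314153631605d4f2565b83ace95d9cc2cdbb714a03c497144dc71cc1750ab3a8e38353a3295f0b8af589616611666d85384527b110654ba3c15d181961301c39a2127cf82c8c8174cd3447d5cc572ecb4038170e02b0eca63910601828520090582a648ee1fe0a6406563d6e4249c1ed69222072685514dd36e84d265910fc6f120931054d78c761646b1c1dc078f9080fb0c01b2411e5f4666a4733a0e72388623069315f20d4490504e4747a5b5e6110112744026c13224be0a48b6a12b19d8e0f91b184310310104080228240e4820880f0002c254273cc5b5c82301c62075140dd5b1b081570474e5110cc3600c8d7dc2f014022103c160120355e84cad06445,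 [1, 1, 1], [7, 0]),
  (0x2e16e17d7b6adb13c850161df490ae1456c6a5d66106614e1e1361d5add14e8e5429fe6a9603e4dc2859b4cd41349863148651dff3a5252edd223d852814d150c3155380cccb7384e44c7b544f4668b12c8b64090d1ac87671923f0770b95f76dda4d0ab6397c4f48e689a184046185ef6313f24ced2a0990c6124518370dc2355931e1565246f4a09b40c94390970d04c548402b169220654dda488cc17202a55d0c7020053ce2629a03a1980fcff5bdf559879860431499d62de04b9af478e11e94a695fa3cd542ce277b9ae365f0604af0456d5dd9780d3c63d4b4251c236221685c2617d271806e9406f93b69cc24559959517410024d57f761216a02b0a476290496c21107561459f2448351a8f167c59079276f43883101174a24c94281106754ba7307081dcf209b37eca9621ea519dd4400401c9e12cde0d87e5e8a373469729c648cd15787306c420020d1fcf83f81c5911a5a1895149d048c782c3e499b4369765c0f73621a111f17e5e5815001c8c43f614084487515346092335d9716215ccce5e1317f0ec5402f38df6555a38958d07c672544a2f0bd6452227c74188411918270468652248210b41ce087caa359b20389a3b8e7560b461d6743d90068192454c6b5cb0c20213c5e031197d1c7439e6899bf0297477171569d008dbb1d52a29a165a837350dd7ae065f8c8864cc2e47175d2f4f8f64b0226e6095d53920c15204c0415ac4440322c260edf746d590c8ca481b715a1c7cd36654d07b1e12592918ceb0f43c854e6790db74d4485e1b181c483dbc838b07b4b716d4e37cf509d9e779e978ca535d1f5c9f804da63e8f08052d11dc9095e21b57933c7c34de8658840580156d48200101b8a758c7d79db62d5434ac0d5700b062132408c114056d4572fc207f4ef31908880fb0b03902089228140a0068282d05cc92f8ea574ad03c096e0850e9301b1620911d,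 [0], [1, 6]),
  (0x834785f5fe66554320cd01dd6749012eda414e14390541be181b1fa3b5412c9097d17b89cca170ba784a94c90251d7612c4e34a033115623e123a0a82f8643460b1c0f00458c88c4663875651d93710425d793550c181076cc7f5f17a2bcb0605a07a8b60d21e5a04f3ae1d811060c5ab32d671996b5b06b0c18a068f748d427458b4cd257bc686403d534e721cbc5e09d3803e584741cc7a40d85598b878c8042d5164dee5b550491db144ab1a552569226f5dc3f0dd299266951b39920158a7110d6701c6085b13051c7418d461cd768ae10043779df7fe251e5451dd87039884b1fd458551da1c1b6007f0ff3416955d49400f25800a5d1b2799300dc8a0e4623b848369ca06cac2a84a674496e8bd86c61175827388b8902e2559a5b9c379486454a23085f1c9c70a0ce7e583888f4775802915e075a3688f304110395af7c04c845a170893010521619e094b31f4983e49c885716c0fb3843f0192a618336d1124f4c37cd9b6b9ac1057f67dc150d657c9d43b197538672dccc5bd92251342fc9a2456a44d596f8fd5600c2d0d747d7e5c1054643508e074e9c51a9cb265cc070654dd27841a94360c4f9d56113b4bcf85290e234711f8503e88e6a9a78087b5cc01451cf6e6161650a38d8f0be0943cb97c4426fe05589351795336540078c04a131221f5670198654f34d36658968551a531646d555511e0624277d972324135215c059ec361f80480f0e2132240d0c8c73d8b1655e257d464f1c428d3f2953845e0e36cc54b8086f09b699c81b9e96ddfb27d0879cd45dd1e75ce9080de83db8089d84a60818dbb6b61f07dc90f1eb388a14b5d30521a474cf6459885de87916327809205a8060830b02d8054b828926d8df3aa260d805055f756c0315c4d0000b3bc903c45b3f9ed882063d45a090294e43b0ac47210851f12b231750e8b52800209882319115752105cad0a845,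 [1, 0], [2, 10]),
  (0x305321c1fe7bd5445ce706d97628af3a0a81a1df41c936a57c231a13b4d52f17a8097b61d043f99a3c0f71e1d151e0b3ad0634a032dd56145242eda457503199765f5e10f98c6f4865e190431ea288ca4e8ab50594264e45a8928610940456681817659844cfc368b412dc67044e1654932cd03456b6149f185d2244a950923409c05b925664531d4e64dccd610b2638693fc11584c2298411916c738b336c244550d69540374fa849da23d792753b4621688d8f8796d1cd1264cf60f4a32c145194d662e1d379b1835aa800d8569cd76c2e0cd4f83a147fdf3178a739627039883ecf93e05f071dd1a9d07f0e059dcc755ab400962c4ad5d1f1679300048a0e49c440355a1ca01cac260726d067644bf7e43008d825988b890ae078ba4cdc28404642cdc1d0551294c0259c86d9b88934871461f95e161963154e4acee1dd957c03f845fa70c5401088075e6114b8648aa7f4621c4cc4f52c52c4c4455930c40675266c18689583415c91e90e7ee046fd6581ce93b1d63cc49311713647d140f42f564069b30d12a6f8fd3880c13db94bc9e4f1ae5c848175f225cf11b5f5181691d844535277946f5460c7a55721d5247d165297f2362129094540e34713f7d128450375ccb935d220c50f239dc0bc1f429cf6c9d850e26009351e51a5bdee254a51ecc7149cb339a86f0436990868cf23515371c9a7b61f82032168276b519324085215c059bb6361a216130e00f2240b7813146d606be17479805c206481a7300a1321de78da226c138652e34c634b53e33d9f1ad3637e154a55f3bdd4080216da20088425dd44721ec7d955825ac4e5e4561381ba01051f8001b76e8b678a0a7ac7c5f82820419060830a83674ce17a07f83de73aa050b5f70540556c2615c174740d75c907145b171b56e1c431989200290f03b0ac472081258c101b175280b50e96200c843d4062f9211340a0b025,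 [1, 1, 1, 0], [3, 5]),
  (0x61e057ce246f6221c5b8554fc719dd7e5f86f17c78922351df03d24845e56d9de3060c5d9e807d447c9c4899c180df474dd07fdfe3e5fc67da186e1a015ad72e02896076c9f0665406d5bb791d94fa0a37d9e841eb36e173c0328520e8718f769db7a8423bd9755ce98058a40a002e566735697d5ca6b0635321d3c606709c38118b50dbe88e197b19135e2033e0f7b59d5a9f16c53d655057d9c95251c1bc194fcd364ca8658c57e9817ede66d0ce60cba7bcb6759a36bd0c6947d6e875771783618c701d21698889cc35b08766d82681464389e1c2185ed092ad8e4a60b5d574451193313c36533375855adb3730da341ce5949a1f002584b14795e2f95c56d184a8e27555687d544693b434fa10cf34ddc73854a6ad4851d8029e086fd23355ee69de96c170548970f0a1535084d4f45b87831d3047c9b1b8fb041595dc7b49d124961250a16484a34bd5f001aa3d9535c95a320f842d730d126018ee4297f545944550f5e9363904e6b8ca191d12bd003805c3f61e4b1507f5162a51b3193453896715e175d103b4ec12cea750bb3343d1dd072395852cff79c215b4a278d685bd8d6e4d650615698d2199676dd9c39d7132d04325174c4f5688b761874834a52f55d2fcb23a19a73cb3311982d44f2e0bc580564042e028ac5e4983dda4514733007e480dc4e03a1ad7e1a4624b964180aa4e8f2078501507f06890144e32346c22c8a22452610460488220c8420424248a4649634a041179323941c640c22984a8857d6a52d1a88c27c6d27453124d1111037209c0c0991547908cfe16d890c41d15cb017c931a08823c942d10605c3f3ac7219c3511c860946553dd81e83313011399390eca00e4380042d12113101e0164610bcae0d82a0ac2c0a40909c03114801742237820824951607601c916a0181341605414020850f92b84c0e02c0c034ad0a01306d117dc04099620dd1d,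 [1, 1], [10, 4]),
  (0x618af394d26ad743c81b33614848781910626597194a21acfc0a1c6559d11845f4714743c11238d14ec9c405415ecb8125a47fa0c07ced4dd8a40c4e200e8668b31dd52411827398517473275341503e0c4b04086914c441c992878554c8ab76dda3d15f256184fcf919dfa840a84e9ef49d3d2e925119a92c9243cc6270dc2355a52b96b524602996d23c071e83008d0c4e0ca88957641842ec8688e0b8655d5a44c62dac399d3749a053456651e1819e95999e5f03d1d4d3701e0374c05e5d7391cd64da14513530e027e217710d66056e5809b5c1d689129108ef5f50a234ac3c44f2a90966e265fa1a844a16c11530999595170cc025520a7712102c2b0e4a91f8c569dbe39d883e1b37aceb68c5a7d8bc5e18c6f4387fd3344c660b9428116c730937557a5aa0f231f26b476585d9815433b80425191120910b4a41c1bb5290d7f21d48cdc5787b1418f001761fd162d0f75915359dc57b55121531304b1791a63420d5dc1c33d4021d636e5e551900671193f5df0684b8251a42092161ea626215384a078c7728ec1b80c7f59f3186a839b73a5a2638ce1652c27a081a10b60d07144cb7049f0fe0348874104f03d4987c07c0389a4401d804fe7d1686a8880840d378df7ed3e25e27171e60bcc461de77a05e6021c029b1760cc4d9c90d0a3149594a14481df736d2e4496f6e8c8721716d871385b872cf62f4277e5d45d42620c15059af78a000183c22d392243746d2a0c8407b18d661bf7795a294da480ff2593c6f03510c0378d4f498d438a166b8d71bcd973c63894b65157216d735321f088797cdf58559586e202ddee84db44b4e0560fa11dd0095056591e361b26750e1b46c20405061482812b541b57c47d71cb93a9dd04019571a856c1315c821140129c903ec2038d4b5551847cbf2f82903c3b22814135115fc36024c90b0b50a8ad020174bc1209130211620e91d,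 [0, 0, 0], [0, 13]),
  (0x2cd331557b525b125894076148482e23d851bd9721cd11a0fc05dc65ad0225c7743dfe470b17f4a24e1835b8d5348c36884651dff751253a18a1456c0e93724d8617ca1100cb599060d128435342e9602f1987455127d843387d878e52b91e769db3d1795e2186c0e3315fa794860c199631a7150ed69060165245cd9b709c3505a54c9566ada91ed2e1905041d3a44c3f4ec332b1cc14844534a86f60d18c2c7559462dd010d58749812ecb6130e0365cb7385e5f14f221b47003226d9557d4b1054a64da1539542e187501055bdf0681010f8dd4a5d680d70770e15e9aa23622624fe2a87018946645ee6f9524fc7442def594c8329624d50e109210642b0a41c1f8674f611161613e207498481b5c57ec312552788c38830af08cdc1e1237044e55d9a5a57d7c8b92116a67cf7621d96021c3b80406d7e3ac210b4a4425207349d72a1d50866578a601dd8474c12491617076269533685a29c69215315d8114499d5a20b4f0a9635f8195b286e1089900128b73f5df378353a51a5687f39dea3c4714519c638c77f0ec3e82f239ad87d967ccd882449078722c8bf6ea161acc22707a40d82810534322451115390ff55498359f103964440cd3884f89cd042875245a8069c77d9f5185f42d079031728094c5fd9e815432b57463ccc46200175ec641591cd226cc018556d791c4279176f17173e213bd1f7a51b3ec2235c1f5d43c20c15204a56b9c90182622c030ec053d92a7810428ccf2c1dd895086bd676ecf03c9777204b399393503d7ade380608789f9266066da19778566d4c416cf379cc609de68393e36cc06e52f4661a020d3541e174c6e11dac116171a8ab6dd6369a0a68c820583756d480912b4b5451f19237e0f2d5bf0400b5700d0600f2406c095f77b4572f4203e5d73d5366e12c0a83904c8922814025117a036134c9574ea2f80a84c2888012281302300220000,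 [1, 1, 0], [15, 7]),
  (0x30d011dcd2525742580739ddf4913240c4e181d6110dc27e1e0261d559020c0556a9474283e38c66548622bcd55ecb319ca87fa0c824ed535d219106090bb2e8b83953b329825996c08ca61a4f424c11164567449d1a0651287d3f05f1e179769db4d11e0797c69dfd125a1795a425d9949db0669252186f2f2125389c709c3505930b96b6ac991ccdd1441b104611759428504889d51d4873a0466f5766f0be7303f701c90f601629814dcb0430f07113e739e6860e6641a662c325b4a52acef41dcd695fa5cd35619f4869e2818d6681332c52e4f19789177761d71c10f234ac714b42617a60e05279f8845384f50b1d1ef594c810162551e863d210342b0e4f7291a24fdbe335884596a7904b659896b4b26398c88c387fd6e0d0d12b923705855a45455d096cdb61b2077d81c585ea899bf44004141ba0d41a0d87e5f5ec529517f1c6508a257928251dc4760b248f813ca92691a340f16d50d048c7835607acd359cc14a4766ddee6107c35e1060100339723f614244eb07d534d87f075d9168713cc7225531728ec4b40c3e5fb3d46d778cf750c55e19c0c4fb5f94414d1566ce423ccb8106b13203858c21e9e1318aa7c163039643b85874c5c808da470523780b085e767de94e9873f99e0bcb789cdf82879519dd2b5b110971421ac44d202212a1ee087c80578c9b498d96451718ccc83e2152e207d51b2fc2786ce95d40320c150599585dd04453922c3c224013d959780336ecd82d943839183016828ce03c9708644853c2636c4344a1556122415b96a56f2e5c87cd9829d1916d1471d550885e895cb351af7e5b83114003d9d1b8ff3895011e00115ae68d5f635f16d17f1a88c205f7061480e8103e9ed6c992531cf3aa1c4ada85701956c0815c8409437514904b020238e187d5a4bcbd5742984c3b2281405c064382d0a0c90a8b50b00a04c4d47c85201302080228000,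 [1, 1, 0, 0, 0], [8, 12]),
  (0x82c2e5e9477bd3545c1d141d67496e5344627e14104ba26618209fa494d51647089cd27d0332d0543801c2b9d17f8c10d56c5ee245c96b192124dc860a88f28a0d424ff2c5276f5a407888131d9198401855f5043f6a47a81c925f17d4cd98681817a8561761e340fe1221d705852f149608da37156138684e98a37876509234098b2bced6646b1494f2ec58194312550d78560621154a10714506738c33503a3086964e1a4b92d491da40d1e544a14214488c423f09b1edeb694f610dbb2d9ed611f0701c6245745d90f6b0cf4d94a76d32410e6895df831de799b517e02039612fc8e458e53dd4368dc9728f05a1d5731ab400960f8ad6c5631e5300148a0a59b3b8eb59dfc252222a99c699a2278fb6e4970d0cb5988b80c785e093405c2840a81d0d142c77338df05c7235c9c2b0f46fe052915e3346d1257304110154a5359946f9a170d9a0119039c5e115866489838d831c5714fcbd3bd0c0192a2ccca34de469cb883862789d0391e86b604871655a81f3b197450c5464cc7107d06d344b164085f208d59844fd74c2f171f96e1914a6172dc4b44db30c05a659e91bd572a4873a18c79460275ff7d56911138880f87360a236211f8071b9fd4293d61ca63cdf7539b686e082c9aa3e5d8030e94720f1f1dc775800095467953819f8639951cd311d53e1280b18c3d6d1181a8f236d1a79c9a514f5488323c4227ecc43240f5215c204a36dd40048130e0080eda8780c746c11301ae5e6265dd6f7b1b06bd3b321f3854675b613720dd675bc3e9cb361f614d5a531e34f0ab52e090801a2e51f09d8f5c2168652067cc675200099268055254158051ee0018d5f8b04157f449b26e84d0580d56c835742d389d74387f73dc72d5460d83705401061392400947419384576245b13ca74bcd9555c52803900c890ac47230857c52b21175200ea091620f06c87d110b1210a00a2f825,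 [1, 1, 1, 0, 0, 0], [4, 9]),
  (0x5d8ae42547665353205825197629334dc861addf1e99a1817c211a1495410c57d61cd28084013c933fc760b9027fa0d121855ee244656b40d24534460b051370c15e8e05812788ca8254520fdea344330c11e3544c1bc417c87f860705b8b6605a0764b008cfc59c5c0d5c68116c2c9ab60968289564185325dd20841c48d42745c0404ed7bc9f220433a01d11059079513c0b16210b1ece423c4e59986854a01d09d695f826c6e849db1915f435384da086f5d88792e4a1e464d1b53dec661b521df062e1d0697482d0a725b74214a768783283d7ce148320e679ed155f4039612f4e33e0772a5bf659ac729e1369575a549400f20440a6c47c179307dc8a0a5834404b341fc14222260ce34cc55f92c35d3a44ccb7388b80d32638542bdc3795a430866454e5671e71344a6e4622b13450e261f95e39c6a19d144acee17cc03590c6f9fa708ba0107533479094c31f4aa2399b884cc69cbf75d94445592e104699eb4fcb37789c85e0041e0a7d9c1775656ce093b1d65cda25c9718199201cf43ec9a37a071752a844fd8042f3fa1b881ba5dde2310eb0d16a1858968d3e6a5d53dd842ed8c840991a5ff72dcc194a16e116735e8234712901b4b4f943db089c73538053ce0f7e5442f11c7f442031d46a9b658d8f87146589547991a7121a5e1af298c7641e91c80d720e66755a1b49678d5337d6429cc6859e07142267cb7326135215c2052033dee214080e0130ec190c9313d83e295052ae054a4d96ed3d6555245e25350493740f18d6d6d219541f5635ad1a11871cdb5c1793841f0809173d2f09ddc4f1226f0a37ecf53a5d000d1274d3b3e8e205140474d8278566b90e499f1644170580b56c832f836560ef5fc922e54c2d5800b401054370603c24028001a852c571685b2d14547d6f87cf10e839098890ac471b0126c81020975090ea200024e48c554060a921024ad57445,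 [1, 0, 0, 0], [14, 11]),
  (0x471bf5c20c59988268f54be187e9467edac854fc6ddf56f19700d8a72a0479d772ce246187c5c93e1c93650de57fd0a4b5ee80d7b3f9be7e5c667dc9034d74890f4f04a5fdcd6add075ca534cf4821636d842705a618ccf4e11b759296005e605a04d1e66d614454b71ba125054071e237c0c285a11869e32e5a12fd0848d4284193815fc738d43006d7d8c6788df3bd123390e550da4818d6e5f86662714c37341eb701855f8eb875db86dd8499b32a4dc524ab77c9e28d0d62c7f1a87b1e434414cb695243ee226a9762a0e43dd2776a1c6c9961561e7f8e566113778c3325352441f54df35687810da43b59c1d1b069dbd40221828ad2b0ca2c00428015060d931cfa42d2547db1330e0651585b4de191cf514d67bc83349dd385e9899c340a0059d445a2253fcb204cf040dc45d1ea4c96e56521554e674d890d93183990609b4559d2709cb4c19587c56115870c9718256f3c8aa55c1a6399d048a4809f143151755f41de066108636160534d50b965548f93b17c168e21709866de06e1d9084c82f4a17b47e5acfd314b5310511409b424872d15029d3b83cf353cba7213d461ae6b54a746197914724d3f85d6a2511a630b15d4964aa2012dd482d692e1ec3c43a7153a23ca25320d3a5793a88e304974111e2b901009612d8f860d6c52c886ecee6bd9a784be265a30fc760f4711ad162f11708ce719992450573a04f0384d0e02b0ec7341c4e44409520280582c1f510249e81d444771335e8624a1cc149f25905f1a20164417181ba131a90d4541e93736c1c0c49f5f58f255fd0812c184072415f1c0d11bca62eccd38c461b09d68a071206705106000413759e1943e1a4334b8082255d0a48b0641012578044f60c059030af4ac24228800e48408a134742a078275385b4645d06c9c161730055b23081570470f0061002d0988d0142f7dd62209390748502d5e03c0a6a025,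 [1], [6, 8]),
  (0x7d14677a036f4ac1c52f31a1e875436e5ee18e184160836e14022126f9e52e5f382dff8350e3a6166ccd9601c189187389c983147239ca7d9fa35d40005fb4fa278396a1f0d66661a29ca3499ea72d7f5307984112351ae3803277e256fc42769db7658f52dd65a41f561d2409ac6d966529577a5fc801bc37dc61696f709c3811c07761188dc84809e86d1f361cf514d381d635d13f295e267dd05250a1800d4f59d694461b449685816b45e6984a188937bcb065c6a3004c64c7d5f8527601e33d2762d8a3c561808b341844270cb682057a1915e97c3497d57c954f0c15d5b13ccc45c529711014b84e559f2754d0369ce5949a6c8026203e5e55e0b15c06108565d37316b3d53554ca11a52d0f5142ede775dcd6ad487fa266d52287123355f86c1f569d774e03000d3b3a118551342bcae4c5308816d540bf4ad2a5c073631eb3b52450944485bb6e0ab0010f3d91a2dd36321161d14e08de4445104720a2743f309aa1c15a1e98585c40145d15b9003c04f3f4fc2f46e38cf81d91b554f45cc96624ff384ee494ec120b58253716043154413e6013bde171c1a26c6685567819b77e5f0505e36d17b2896863472074cc608333251731e1f19d722e10b5d9954b02a3ec315345483cc3464563a85c61859045984cd3202a22478aa070867b47b6bca47b0d15482414dba43583375641bc98184f25e01b6687f08457191fd2348422c8a0ec75194a82148c20c6c0583a2487e649f1299077982e17cf7221154a0ce88509264fa68c821a1965446b314dc21c8f8659b25da91dd9e0d0b416dc52c8e7240b6394ba27d9040c073f96c025940d59c688eb11da409584399dc391044316053c26224800a4380143612c5d329e02f13a030780b55d0acbe0e4170883c114a044c27244207518e334a9250de02d5b0a0810541403c122c41004c0e6a02f064ad13613140060dc044e5627dd1d,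 [1, 1, 0, 0], [11, 3])]

/-- the group W1 -/
noncomputable def LW1 : List (ℕ × List ℕ × List ℕ) := [(0x89e268962488e228862087e1e8761c86e1a8661885e168561484e128461083e0e8360c82e0a8260881e068160480e02806007fdfe7f5fc7edfa7e5f87ddf67d5f47cdf27c5f07bdee7b5ec7adea7a5e879de6795e478de2785e077dde775dc76dda765d875dd6755d474dd2745d073dce735cc72dca725c871dc6715c470dc2705c06fdbe6f5bc6edba6e5b86ddb66d5b46cdb26c5b06bdae6b5ac6adaa6a5a869da6695a468da2685a067d9e6759c66d9a6659865d966559464d926459063d8e6358c62d8a6258861d866158460d82605805fd7e5f57c5ed7a5e5785dd765d5745cd725c5705bd6e5b56c5ad6a5a56859d665956458d625856057d5e5755c56d5a5655855d565555454d525455053d4e5354c52d4a5254851d465154450d42505404fd3e4f53c4ed3a4e5384dd364d5344cd324c5304bd2e4b52c4ad2a4a52849d264952448d224852047d1e4751c46d1a4651845d164551444d124451043d0e4350c42d0a4250841d064150440d02405003fcfe3f4fc3ecfa3e4f83dcf63d4f43ccf23c4f03bcee3b4ec3acea3a4e839ce6394e438ce2384e037cde374dc36cda364d835cd6354d434cd2344d033cce334cc32cca324c831cc6314c430cc2304c02fcbe2f4bc2ecba2e4b82dcb62d4b42ccb22c4b02bcae2b4ac2acaa2a4a829ca6294a428ca2284a027c9e2749c26c9a2649825c962549424c922449023c8e2348c22c8a2248821c862148420c82204801fc7e1f47c1ec7a1e4781dc761d4741cc721c4701bc6e1b46c1ac6a1a46819c661946418c621846017c5e1745c16c5a1645815c561545414c521445013c4e1344c12c4a1244811c461144410c42104400fc3e0f43c0ec3a0e4380dc360d4340cc320c4300bc2e0b42c0ac2a0a42809c260942408c220842007c1e0741c06c1a0641805c160541404c120441003c0e0340c02c0a0240801c060140400c0200400,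 [], [3, 17, 23]),
  (0x160650ccfc5f568886157617503e1c4290d734023d0dc880003402c5c9c77c1b88119782e027c57b3b84466e0d80e0a49daf7fdf67f4385348443c5d3c1fe4a59a220b98260f3a42864d8254416525e77a1ca7142373939709e0289035410259dc65721f071216b9990300563dd02f5e3865595dde634c6a841da79583629e16b0394201550cc909d663560e0fd306a0f26cc7f42c10801d5081c16adaa4fdb5090c13ec1f0f072611a0589482582f815f4750b683134654517b55a1544174560394af22dc3120ff0d4e1499a1711ec604804505288d378217a5e4b272ca5879065ce115c4325b96f27d3b5ad4518e2276dba53c1158d9f5858e57d5e299d9359927308755d1a320ce11c067addd594a97ecb830c897a59e51c6f5a8146f542504976a53e4cd3c5b0a1788095f070405964f4421edb626d2e424193646d7d4c2805852611348d1d7583447cc648871131562287d1e1160897f49111448bf7e50e868dd6c61b4b5bf14d7441468779dc4d4b56205c37a24694fa118c424c073d617165b42cdf70fa073b457078437bce82c436634941f0826182b2e8fd4321617c834ac7735d5b6e464724d23461306d542f079138506f1550c11e290f852d28698c04404d73ccd2ecdf7c94c2dd98400253c57839cb0630ab2b4ac2b85b5389229d5d5d8c50a9df4e86c5b44005c494bc76129255019d254e43dca8048211ac8e2346762d19529f356086215fa368e2205806c860460e34c47a331173609a1d4611a5a2471365186e4a8a023dc81cd0423066898d45a43a1d07e36c5e7e0fe2a81d3ce273b00a6443141d7e650ca13ccb2f91b12c992718954cf9116063a9326409e6dcef0f5a300c62701fc0dce661d2089570150c76702e0b612380a30a5ee6ec0e2d1a779115241ad690eb169d733c1a4b00d275ea6f94404c91591b087426061d3010564e0083d9527480b0ee1800614,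 [0, 1], [2, 16, 22]),
  (0x5e87682cea56d0238a081861e20d9c16e1a141be4017b0fdfc2f9053f4052c5c802490895377e62081cee814890b1cf1c5f3211fb166147f8a78244c1b1e87600d80018265d43c1283b032098d9491f6071e6709592998f15ca32580361dcd599041c9f5535d65c1f035c2b341158080f771cc11d650a20e19dc664c0b335e54a5122021843c174f8f4684a23703a3a40e5053f149b06bd2060c7455daa1f8a0691a6581a7325806e48267d9e1aa1c58964620d865d96300ab714200f11f7898e394933098a42599774e1615846b434031a25cd760907d85a2727cb80e57e520d15fd72279d51c16e349405ad1c0ecca2d5db7299a58d9b161a54315e3690888c04791456acc828448445525115053cbb75cb23f842525753cd3356151128276cd6c6c9bb1bd3c25cc713532829363a094519384c52c4b92f311302a81b705ee21cc11fde90a922229ae6404e4356a17430464bd45c5a7404f44dc054c3e6f4eb4755f330166255c17c3d849da3da2206a1739d4b844fc3ec6e3dcce3e5033d5ba51c14065ef00a063b5ed43a246d5353fc6b634e42be216188c37cde199b714d5d7a99874c1f354d422d6d5d1d1000f870d0b1456868d564e8ae3152d1718b4999505613460bc538ba045782dc7759c451894c83c9b38cc6158336512b238107e9e31e4a4781b8555a85e5711549c2c0657c4604eddf09534630920c60c23ca9234e034d218108849c85219ff875a0205bf495a95f0461ec0a294062da26105ac1cdd98056f4f4fa0e1f73999d1a46871cdd2686401cb387c9841c5e46cc386d167f561784ad2745436db132e194511e4e5f8079431255472c7c2d04410d4a1d41385510419915a5b65dc6d074360d5822b1ec2451a0042d0ba03749230a5c9509eb2557d08c08085923584b0dde74a9013c5f26f10a2fcf2100122e4a8739b47d1817107a8342218c788415a778ef0bccf,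 [1, 0, 0], [27, 26, 24]),
  (0x5849a2b0fc090ca3883f7d5487399c0591d770ef6e9b7820cf746035c867750a222597895cf2661681844588090b13721daf211e81646d75dff6f51b7bdfb70564220117e4b16d5c9714345110a5241c7d96564c2303c4d794a36e0f6542222d5c64206179c8a481886061078915460a6141e40e5e622d9d01504709ad628571d177570bf129a3509db355c88552c2801450525330a87cd706492955daa6c8e95f5263ecd6645d96108266d7577c018140d7c07724094300cb3b00427475341a5634e334ccd550e70d586305b902c32031bf13db156e0a8822727d4c11c798783d5fcfd279ec5b8705e4975ad5801d02598f453cb958d9f1618e4315e78c7207c20731276ac30558f872c78099877288e7f978172044919e3cd3d470f243c276cd3b1f9bb5193c5015563e0d1f56f069961bd4a1ec3a2c12f624f17a8387618b1c585181130a90d75982640ae48a017e0c84857c0185a021737a55370015824eb868661485b3108036cd18486800dcd3a167664c3378ea5806e1f12d630633d5007f40e1886c442073b5e112c433c13583c3639534119a0385d22ea1157d7b41e1d2a8b674e23684640a16d5d0be4a8482f0a547a1905ca14684e290ce3f9ee699950f939809c3538df060b22dcd885c95064b83fc9b24d941583331a1b2ec927e8da5f8c548c9631df7348136f0494ba2650c7f5b06a094e43e41004821398a9235c73091910a0051485218a757621205a24fc982f4af4c40a42d17660651061f1a5805a9364ccfa06da823e0e1cdda380dd1d8d40edb66b1a914c5e1314b4ac3751d7a7b47a0f09117d762ad684505184c5d079f127109444f72d0ee8913847d7137002418c9778b344a140746b775ae82dd51513a8702d0b905231e00a5284f9b4115a4565d08318369d0e4594d001014c1f4154d98615110031669b020deb7c8d7568ad4c82240d520adc45a5be0bdfc,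 [0], [26, 27, 25]),
  (0x508976045b88ce23297987e1e81d024101020a11278b04b9ca280f4861590a89601c47030481c49b874da01a045987d51591794597a09413d931286f135141d0b96f15b7c42278951169ae3c8ea231fd5cc387fce0611ef210e75d8633c5a0100d9200325fdd64a5232b1cc6d599338ee0bdd2336140510b44c16459924481d70490081606f5f358571574524bd877448b6cc416c50d68dec6b5206ac8147cbe668c90f9a46bda203ddc1e19e1e568549a7740db5dc6d654467e9c4800603c0023b51e0a0393e0a36d8f5155e3600618958375ccc0450927c27880c365ddf5207e79c156e970064b30fc9a3850f2259c0b2034a964395176edbe57cb76e55a7c95c8414355c4b079542f19b7b92c33ca951cfe52c090ad755353b80544562275053d0f458500295190e1b1034dd3031c1b46d324c5366de154b55010d65755282643c1d405750a8229ac6a58c2491c4cce8464c4589c53fdf671dc3084fd5a93a6c0dd720fc5f1081dc7f4021b4e21c321054554c4410a2fcfa145892b8f661a12071eb7758f379ce634a70c1ea3411a780e658c0032e225ade437cef430d266206768d80cc2420cd434cdc260e953dcf72d7e38e21699014d4af315185e02605cc03eda82f5532ecba7d0b8578b604cb45b8b202216318f71e9d324c68539223b044294a4620a206a135ee172202d8216c49cd189a0e115fc2ad1d245c00d88e179e96d1215a49d21c731a5e1356196a9d9419748084e1ecad6759f41c5d495f52180b8243a7e06e659391ac6a214aa08c6613064778356099017c8d1d85c891ed7f93e0dc566141214db83e4017ec7c7dc65559f90ba0a83194254a64ac036c9db5b5a54fd260ec70629e615c8f1883435dd80c4eb73449271675260f4f18b5e8c2094d619df0445bf03555708f34d0a15bc18305c65c9c92d4545f61a6840e07e0b1c80a528b183605490041098e140e4,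 [1, 2, 1], [14, 30, 19]),
  (0x4f84c35d0a0459c3292e0c948685023f1b00bd8e848d25e4e43a5670551308852811770307d7c49f738a65480759848265a3795147a1e651de15a87663c59755a7275f41c42a3418b7e8617b9c60ad737f614458673b86c074e7289384b21c0b01656a1f3cc8a7b1d082d243c1992f58420a1065c3834c6a564d97fd800e4844818a42172561a65ea0320c965b5362f9eb6cd067221a645296fdc16ac810f5d1358172fc0d4980b78ddc45d75839cd018b948cb611c1b654f91695c615b26d5be58cc66d112829151896b0f00f649ae895d97d9b888d3726c27880b2334a58787f79e186e9d82cc195ed4638601778e21017133d7d394786ec0257cb711080091c47488755ce8405cf832053c8f14a94e13cb85e1692319e535f843dc96f6275062647c5846c292681a7bd4a4243a3206d500031ed87822155f16f769961d02651455345c775092758346a4af2a2091944b4860267dc57c1d70142170cfb1293a0410c6c5044b42014c7e400aa18da031c1328c5c3bc5b0f8fa651182ae0d6189e7f88b5b84d6961d634375552b7891a0208f3b5fc13a193d5492e910374b017cd510d070cdf257464050dc260a04d15454d9d1f0017cc1e3ad8c2918952d28324c03f5f7339cb2ecdf56cfe578db41425774c378216478931e9d33de242a51d3b1b977cc583d76439390fddb3042e6dc5d7e4754f479114002b922151111ac8e178230a119025bc50c731a59381a226a98310590310cb4c4ad5f9623616c49582215a2471304ec6e596130d90b21a1b7a46625cd4224707d5746608d1bd4c1a1c20714229c0a800311dccc11a217ece36a133559270b4f82f051254da7a932182174bcde4fdaf108352409415ce66d9ac60570049355a049270f4791884f1515840e2d19a380ff701ad690307b57f53ca15401f220ea581442d4915910d81cc2060ac0105640cb13d99b730720ee11141ca,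 [1, 0, 2], [15, 31, 18]),
  (0x5e94682d047c8ca6717b60a1e874e236522771106ea086dd2a2f971580e075176778cd8955451616355b967d691010950d26075e84501b7d916561401b1fb4817d3062349cb13c144715ac7245b791fe75d96785e978d8f795153320d5be192d4ea081ae79dd67060f35dd2340a3624da14149448947ad7e71cfc7b5bf24057754477103e5a9914fa17819b1854f13a4d3505256e092699d8601ec55daa180a0591af3f59a68d833b82f8159e2962166da43fc53629e63004e3b0726f0d1788de6347c0519773ce71c1862204468a1f031ad51dc87d0f88822726c5c5de0e5211f3ccfb84929774354b84c3d5bd81102599674d1a73b562162113755e03c0406108491f96ad5555a0a54d174a1363908e0714b53007731755fe26825ee804276cdf81fdbb2693c46c30134f612150439651d9034c5303496d4612c4ae145c1517c6006c95908a1a229f55d0ab4750f4ecc74652d549fa781fd08dcb4461847135434662590a8095a2d87527a244c96812cf4664b2695c65c86e38d7c2bd385ad005ccc26d9ef3bda158d933a1da6d4eb6206b3954f3e61c3861037d8e57c3f361ce86cdb74c1181cd46d12f641d133c7d831df31a22324a1468cb314bd2e0f27cd952fe13310212a4ba07cc32dd0776c952ccfe7c09f3dc5102833478aa2eca8168a6674a474052321a82c105274495e53d21c7e1750b2d1ca119b00c5c323d4e23405039210ed85264862143720c012040b4fc983398c1ec561a87817d33418321a59212987194fa1b5f7398791cc4319d0c1bc64108620d1a91dc5e25d787a8a713d617087a15454660a22b9cd165944e56c404712713770093095841a0630f603371be10417224190e438210365b8612b0742453a6802e0b4130ac080a426508281140d44d232f1d92e41a7fd4d7f01e0e95b0f0160558b0b012358105748b09181200ad00c2a528062315c0240220800,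 [2, 1, 2, 0, 0], [29, 28, 21]),
  (0x5846f2b1c67d102671b76b948574e24290d140024003f5ec00744133edc72c5b15a58a8950949e206858466dde101547c5a6075fb4503807037470977bde85c1a46141f515d46d4263b21f4a016731d77f8947b5133684d15d15149324d968598fc011825348a760ff6048c788a3311e3771245dd966d079380ea785a265de57b03956815804c95096781d7637130280c25053f25810499c1765d555daa1fce9035f35c8b905d921102f5897542da067d7d83d0733565300ae715081543d34211394f7038904dd995b8e1800ee6fdac0300b7f4a27c84885a2726cfe4499d878753cd60848740d5dd2c11b3d609108ca2d617390d63b605160de3755e2982004472524996acc72847d700067256f4d0bb7d8c32e03b7919e5fc656f58b5a8276cc5d181bb1d93c130c863c033e18712de6268631ecf15e56d8083a86c6d480f250c881f8230891d758615d0cb8684a5b155484ce1e1fa48d475651172cbf561354895f6e0d9461c46611f2784383619439db39d78639043f46e24cbd1194a5adba13cd32cc6c6f8d558dc2068683c0eb7c036635ca630016182b2e9a519a081dc834ac5f74c18818647ad2f640be7f20a0846a651cd645564e8ab2917c531516bd95861396260c2a4df88d4b2dc533d0456d85c6209f1f11e02833145ea239b01680f838c5020cc0c1f74ba030f09c349331c5b27e0a52d14f2bca8048bc3994e234670511901cc17e4862151673a1c205ad495a94b4f94c45677d5236d3d418341cd8343d50898fa851a823d7e1a6240150c518d4810190c8983605e500b22a9ff5cd7a64cad6f0912d9c813a22164c684d3b40487125cf54ce3095b97690334505854ef105a30246211c1b2106b1c1f582d291511a8842e0b571841d00a5444f88b255647a5e070d80668e829de733c1e4b0242745b0f9ee0b03169c928742856cd75707a3d82a4e11774880225102092a,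 [2, 1, 2, 1, 0], [28, 29, 20]),
  (0x50940604aa5f48214179761753b9dc1a1b038972100b04b9e61b217009cc28d9d3d95374d894712f03c8354a0d6e9185a855714f379ce413ded265462f97f185f2324d6825154e5eb075d56d04319dfd5cdfc7fc2b684e97e8b1295692cda02792b60170451217d5232b1596a1d455207670052f000511b1491ea4595a4445a6b0216b58e50c88585712997e26c3563d8b6cd9042e1a0f182080346ac8147c4d7d1bc3bc1f800728750245d4833222018247405f72d2a654f9211836bc7e7de183b4c67b9c03102a4c0f5645ce200740cdc4070795912d5b5bb8554b830a2678607a1be598324b0f16dc76619f95282f84a031b4116347809c1557cb7355922e5d971dbd55c4b3acce336050a01906d4e51c5c30d383821e7ed6c49c1421c58505330f62725c291bd0e281de5f1b60c0cf130421ec700fe20425dd3a94f6b8c2129a31d5d266492465c14fcaf2a0714f4e8228f867de5621fe8418a240de514a10410c1aa244ddbf361b22d50a0261c55505088b82fe1b440fa650482ac073842c75d51541d13f5e3394a731c1684d567803658e14139685ac232e83e374d22d84471877895a73686472616495ef594bd5dc521f221305354058c2907d2c80e274c0695b573c472ecdf6694c5799804c255bd78020dc478931e80c3dd042a51d15e065d8c53fddf068d0820f47cc2d5ed3b804d1195b8114382b922048393988e179493c9d618c17560691cdc26e5cd6a95c5d106828cb4c4ad2596214df826129218047c4621746e4d1e223dc82145b7906646cd440d877b04136c8d268fe3f1937d93e0dc0a4989141e0e11801534e33c2264690f0ba0265c512555d3643b1fd6727cfb6a58500d3670dca3b06b0e92035e1f1501e8649c125db7a5f04f08b5e9282d15b2320f44908060c8784596593a5b80d699da844d34003188d0d610266920b68856224e78119b44c0b4c96032894,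 [2, 1, 0], [24, 20, 27]),
  (0x4f91b35e1b5902f1412e5c19e611dc89010671600b0d25e4947bddb6f9244557e835cb74d188256d78d5d018f66e9891283c7157f79dca51dc25149a744f36b82405d9a470a384c8b210740a1da381737f4004588c81ca0168b177c090661c849ea649d816519609d082d137ddd473da1389c7831fc725c87312b7fc80701fa0d1c36fe1121cc15ea033699d27c70135516cd741a90d155f5421ac6ac810f58f56c9d4401861404739021e21e6e219549f248d9854ccf65446075d94987f6a01558d1e3c911808220e96b68e1d569d50cd5c7fa0e5f57c4bdbb855782f1765d5b27a00259a1f3c52c8206f6192740c822797106e236351709e1857cb78198069d830155855ce84d4bd65d9b6d0b31b4a913d4c2c86319d487ec5d7e4d350c585046547e27130291d81a3a4894b4625552a25c3b4c4355ee204dd6e719341840e5a99134610664a8485204fd8c249f18984b75a0a589e583c1c74890629a5264a16c0dd42c68425ad41c602d45b5a5a00c0130a8fe0f8aa3bcfa1447d2ba04384407d98b5bcbe3ec0f39437320d94e5560206b3b43832dcd3d5e937cbf430b036db93a853894b9298d4512164946c658ce11c9638c01220eb078af3144830cc26f0c0378f0551772ecba3585c5785f414b45414b780dc318f71e80c24cfc5392215cd5288a47c0a5439e26dd676982e0fdf843c754cccc116142ad1d0c51223c8e179e47b88a4e0c96f4691cded111686a9c4640413e04e1ecad1499f1dd3b261ec214721c5b65b06e53cd0399b12190a5246650064529364a5062d88d518b8411e175d4229c566bc54360793e6215347c6d53d46a010b4c43359425483058421f8f426cfd6a6004c987084e43b0364c1c160432245018889c1261708cff4f1eb58426095f40ad880e42007cc764d145953a775a47cc4363814400120461a3b928034ac02c0a778e701e05565a200d72329e6,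 [2, 0, 0], [25, 21, 26]),
  (0x585462b1da669dc0bc3f7559e2988286e1a32a182d5b78221463c136961039d0b18dc30cd2d80615611a181503278ce824c11694d5fdfc75c371c5403a5e70c81f499a45a9996a00e15dd8309ea5641c7d8e464d2420cbe3b0225f8421c2226ea2402dec7ed1987d88604674e42a3e1ce4091372d343c8cc0ac4370872831c5609c0649be49dbc509db3b8a5859b61b128505a9675b0615ac571ae55daa6c9ef06088845f22755a8199c67e1e6c5a058a237c0532f14f300ab795bf6443d84d7263493098215f1d45bd866be07421c174c047f5df2e589370584bc5c444965d4751658e0b06161d502c04c3d5f14c850400f42515b3b59b89cfd4315e575ad591a27a44a6ac304e9180e55234d6e658bb7f94b5300308d484522650c8b515bb6cdf81f8272693c46d557443b3103512dca1d9694c4b35e49f828624292a0d1b46f5f3181e445522484744184e434994ecc87595445c8448d47731125dd1021d014755f8392b1f5832d91f100ea811cd439672c4b2580683786e3ddcf3e4895ad6613dc93c4a0055b958de1069047dc1e83ce6395e62bc01384e037cfb1997b360da364db0300d110d45449b1044d0e202241c8146191551a284ae315372e1eb80195009e212197538ba5f4c32dd0785c454c0fe3fd6d38cc615a2565016238100761d6e0a40207931cf04ba0368c493493d4707f175760956563092244cd0d8a92348c5108a3d9a643c862151678e1c204202613f424461ec0a2880617d335d1201a5c47e5dd194fa001b51ac521ccfc748dd1bc648352c5c1251dc5e25d7816dff5cd7a7b4ad324126606a32d683cd1e3416c4d558270bd11c7c2d0d5719de345058803e6403c4e03a54ccf7e88f4d92982df50c5568842e0b57171dd00a4144f98b25411525e0628807d0e829de806ceb065a705caa3bc2884854090a803dee358d77647a01ca30247801580528bf3886d,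 [2, 1, 2], [18, 19, 15]),
  (0x5e86f82c682e4500be087b17503c824ad1d408bf5997b0fc6d135716382b664a540cbc0ccce5a8dc6e4d5588632792d6f585169e75fccf7f91621c972814d0d2236997d804e77dc14795c134caa08df60713470949739d1714221e6045b9cd400436b5d57a1216b1f035c0584c2a12083329e9444e4544528422464d08084ec6b95360cef514554f8f41110b880b37bdc950498838a83061f2018255daa1f86c04600379f40f1c481d9c66d485da218141f6210770dca300cb15da2324d14e4fd394e35120c2f4b14d8e17ce061c9d874c2051c6a668c4854584bcfe72db86791f165a50b1f5541874b91b3d543835dc6e9db658243b59f89d724315e8740b035bf44d0f6acc846a0211c78308702508e75cc32e0f65661e450657c42849dbb6cc5d6c8271d93c130c72f807625dd4394f269de1edb63489f1f419364000c9eb825af1fdcc4550d46529418ae489f95b0302290901884781fd79177448021c501868666761b8299266075100fc10a2212e17751783edda8446e1f137630095acb55cd284c0e90f98458ded3a1c66a01e3fc8f6356511a1c619c72e96057db71dde34285f031643b8643c89b1058f06d1865ca2479686f13a5584e291cf531b422195440d03e090538df6914b2dc5359c953c45c83d6d24d9415a253185b2ec920755d258c57417e555b52c10505c9c5e533560607e1b1095e63e4101518a1aca9235d2099d600d26128862143736801204046a525550af4c40a7211736d3d5d1701cd5a26435898fa4a8f00d8cc1a4ea230dd518d44c83a4813f3605e500b2058a713d617847a644312d9df2ae193cc517893b4d51c1257c0e4f72d1a1411690f603858156409d5292c701fc7e8e65bc742b061048a16802e0b413380080a40e509ee11418491233355c7c81a7fdfb0e0eb188d668dea6f88b8489156db02998b69d81600ad0eca32255219dd94e21838a14,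 [2, 1, 2, 0, 1], [19, 18, 14]),
  (0x5084c6052b0342f770b0481756e45010c92670fb0b179349961b0f43bd49454794c91174e026f56d36a1d45c03400c443c9d3b17f5354f7f59349c762f8f36095b68cb9560a34e4282112922c6871c4f51d2a0ddd2818e9169d41a88918801848aa60dc1165216b8082b1e96a0b14dcd5388e0084cf4a0a27921b29d5c54dfa0c8bc688de1c5855850578e0e27d6e63cf26cd7477d226f0611ca1f6ac813444d0903c008113042020cca54948259681e1f4780b6701fc654af07580698607dc3e58c51545cb460224b16b05d5d711ec0cc8075d9d690bd4bdbb370b270db16787e7ed102d5ac4c03a0fd463854518c82278130e01f3940609cbf198b781dd93599219d1c55c1a4d57c2419f7adb6850a95ccb85e1030161e7a1f8264c27c458506261d62746c29268e8280093381931c00500071eddd6de1673c70410e47d414804c90f42b39db046570494f9041431950e2287d814573fdf6231973358e7e5562a0dd295da5500b14c7f5981677a21321710a85c055ea6f8fa47a0a1384261840071ee4d9d1580a6635160c10a84ca1740363b41b2ae223d5132ea184312e17d843f1078959a03c6409a204fdef2512d0e5b824e1c800eb07846290f852cd3154c0845b542512238df69cfe578db80cb461cc348e156507c2b40c38cea5390d795a1720c56210b12cd05ee174982e8205d1291f4f4522546d32e1a04977398bb179cc62dd652991824731a5e13ba196a95a64041120ae4c47a3319b3616c6a5d52150821cb34ec6e729e223d76218d94915f25cd44e16f1d1066608d1bd4c719ed7f93e7fc567cc911dd7e631a079cf73c1334e96a0b589628c6115ce16e046c9db26d722608883550831347146b3c5d835c341510173449271675660f4f1b45e944095f2841f011c0488d55709147991a0d57d6be246940e6e8310611d111c95920b6b40a5a5990ed6208dbf3d8fd40965,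 [1, 2, 0], [21, 25, 29]),
  (0x4f89735dea69082770d27059e11050768a8388fd1012e2c1657bd67441e428e0e00dc074cc45612f299ce1e13240202805bc3b0f3535345cde17e46f7457f7d5f4645a76f51584db4075ec7ae240154713ccf29e10354a07e9d442dde6da2127a1b7652045119185e082c237dcb1426066706770d2a09976524aa0ddc472c5a87e0c02da57c6005e81303c7926ddd135ee6cd902951d275ae010326ac811d58f7c8556fa2322108574ca01a1e149cd45d5b020db444006558c211927cdb26a0bf3b59462d536242a3c4f532483571290cd5a7d97e034ce5b5bb370c3085c85d47f7ecef2d4340e9305ec9a384994e02f84905850183955209c3e198b768583669803820955d0e3ad2d6296222c620e14e7f4fe52d4a71d487a13b5140e1c4585053d34627500295184b3a5692f4b3321fc46e044c56e82216550353f1ca608d343c1747c8c39c10485d8494466c0874cc1a7584866c577c1d70accd65e1149d562490c77c4373da21dc7e598d92240131e030894c8612b008fa318f832c3b6182c7f8f261cbe5c8da635ff5545b4e4a148c6b58c6d2ba195ad5937c1537579660ee410d8894d678cd44a2204fc6c7997c448cc3dda061535404f93160a5e0140f0c0638f04dc39238ba2e4b8578b65c4254d8b274215144e32b40c1f1c62a61a796076c4a483c6a3a1e20fddb6bc2d6dd6c5a83d898962541b1390d0c44723cbb179245448a40da3470731a593612226a8805d1061f4ab1ec7a6e20541c5d6a4742182050c197e06e390d0398a2214167315f1306418d507544117c8d1d85c3a9c2071424580a6985414d9d2be1c79c936d4654e84a0b9182411e1161d428071821727d60260c13d96f2f14f714364b170605ac2441e5a049270f444d884f028585c92d024748ff5dc72044307b4592511a1c16449868378c26e81207d226e5445f4ac6fc56025991099f7a5ad834fb40996,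 [1, 2, 1, 0, 0], [20, 24, 28]),
  (0x9d6c0312b091a08649f7d548819cd1a1b08857204c9b4bde67dd003bdcc7806a40d1135d095a92e73a1d548093d0bd4709d64d47070e4450ec7c53384d7387c1868c1f7e5d0134260dd700384371c595fe14211d26e5b529e0f1e43b188825c4aa689d513c8a7602a0cde4281f012207872102f0cf544527a4d91680454d161d02160d8e128881609e78d762c035788c25051f3321a644346498255c816413903417008d67cdd920e2245d7542d021e17d4550711c1b300f77fdad6bda91b1be3b4ae4a1124b5234b0f50f00f6fdac2b00b79ca5668c43493e0fcfe241b8678987da1876dec4c0193722638609108014142c0e0b939406508bf430b7354200447219d0f6ac1e438f870e05724f14a8bb3ccc3171322321e7f94021cf249d616cd464197a4ec294f4eb6a0031f43a468007e14a1ed6f85608625878914f4818b50cc91042b62092465296c8e3042011bd35484ce67dc2665fb0158a830de561552a15f674ea828806613f59c168359c28612021780545b0f86e2ad546506361a0353544540d0844a6635fa4e90a2f8c828c3658dfc478ca5ac232e9101996d1dc44718b682da4574640a17b1fcf0729180e5b1118e2498e8068932917c531b415595580e9809cb538df590b2578d8100951c0b8089b71398c029813e5da2390d784ee5f8c539c96405d1881ba8002e858971c574268a22d06d31922049771aca917949051d601dbc514691cde5685dc6a9083443d4dc514c45677d9b36c4c181c12155a264b346cfa2518f23e0e21a1b564dd174d43d9dd0c87514c8d1954b3f1c57a1bb0747a3043117dc81f02f75caf7bc760c1bd0b5cf65ccb094da7a969494b55e4fb1f98577936335657b4e66d9ae74c611504b1409c12566491d44f0d389dee11623380b17015c7c95615dfd658c75b9f4699043f48b85c9156d1d611eb69e25600ad810ff2256244dc44e1a55a134,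 [1, 2, 0, 1], [13, 22, 11]),
  (0x6ec5d74c5b668018652f7559e611cd3a8a8871a580d6d27d343c166861e9741760244735cbd7e4d2298da1e1033d10950d9164d73071653cde556065341474817d6f1645a9e02f8d37fdac725042317f164cf168e081da845a0f25a0d3c59c414d9081f57f5190d115895131b1f0809b988467242140a20e730aa211bf448a7608cd200fd49d2689c2c5746a5e56f4e544504d16751d275d85707455c81419e288c550f9f26155a03e2201a1e28850548180a8d8444003007c0dc7230525280bf58c4e0515373c086d96b32483011702b1087edc80907d4b93e0fcb82f17e5213f7d8ef76c61065308813d384873d9a05c49e4a95b39517509be430b73b9a2691ad841456ad353a11865d62038620e08e450b25300771d757f91b8248b129616cc9a6417a7e029899016d604310b32841b4ed694c43585a088296e7189487db44703c5d00562010229ae6c893248991d81e7593766dc22c5e70ae0c629607c5556c066330686258317c9859e1b0ec824684048d4b4412b0086e32d7c31889618137a0c21c2133edce6341d559ea134c8088e63b46d145dc3d52437c1557c9b14da1890db82c1178cd45457b1fdf7658f872ddf2bc2f2210e12ce3315541718b05d95379ef12039538ba07cc35790784845540fe28db72b8f902981630fc2ed22784d56e0a4750793ad8f370b56982d8544c6f4415190b2d1fc6510d245c023ca9179594a1214c9a343c691ccec110ca6a80b47c753391e1ec566c59f2d89718032219d98043a500fa53dd11ac5221416524dd5b064109367043d1dc8d4cd7876857534277e8ad6bc54660a53dce275c463a46f0c0710b92d70cab0961d4294a6a5ba2c2111f9f34e1dd084e47b4364b129031ec0c41a4089c1250008ce74f026161eb2540d749995dd923593a7144f728c761da780043638f285c122e61a819ee7d0337107a00cff18e0579180779725a1e6,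 [1, 2], [12, 23, 10]),
  (0x5e89a82c43359dc2097b1d1753682f2a90d328152d6086dc3813505379d239c6a4e0210cd7c43e153ba0766d4a848bd470887e94d3cc007d8a77c51b281e787c186bc0d129997dcc215d700392b44dfe75dca785cc575d13b02a6743b0d6196e868689297ed210ca0f35ce084c2282a1d4095954d4f7b9b8231da7b4042f1c57d511600027e49d4fa17611df858627bc26505a95f810800347106155daa1806c07cc1638246f080354e2589487221c67c113fc7783134300ae795ad68d1f4e560634f74a1c34b5d454186499a10812074c725cca569d18370585b54c70052678d145211101ae4d96f348975ac7100c5040167799f458e0589cfb3755e20dbf5f40b08d6a6ad554e98944806051dd594bb07178171327a61e1653d21deb265bb6cd3b1fc275193c500302f842808703a0e41bc091ec194b89b3e1b616ccf6b028561a66c94928d1d465d5104cb869457e0c7229cf1e01d7404f4903911cef50c1e4895f1e5ea121d936c3d0b1c601d68068f42c4c35ca246946e24d54119de3d56651d444b0e9860443b593438fc6a1016208f3949463221384672e8fd1983f41ca6058b6031a46e46462c9f4198f850c4629b1652220f11a284ab291093f88b615956f8d01f4cd2a4df590b22dcd876c450e8b87c12f1f11e02a25144d9239b0211ce330c57820e321b55e571644492c2268247e5b0a22d1962bca8151971ad4e2342b725d6835f380485219ff03da0205082613f4dcf94c4565d95266065641c11a55c49d6e4ccfa7f0f00d8961cd048410c1d8d43d8f17612514c5e1314b429167f561708ad05c3117d0b139cd5fcc67885d3adbd270ce5dce3096063a8891d413880bf5d05518d3072d2a168e661dec2b182049560042d0ba03015230a4d35095125623790082415a56c4b0dde81b5352ccb93261b441b4278917c89278cf26698160c7a811155a51771d9240c3e6701b,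 [0, 0, 0], [0, 1, 31]),
  (0x584762b22469c50209b74a59e78c2f7a9224083e5983f5ec1b63e038448c665df52a0c0ccbd128dc1120667d388497c562007e9e73cd2a071ff50c4c3a54d6b0117cd6443ce76a0d3795200521b7a5d77f94f7b5e4874be7142a8380777568401da6fc747a1190d0ff605c74e4221f55d32823701ca62c96748687842070cec185cb765102643c509676e46a880191b144504981e49222032569f555daa1fdef88d856955b1555c684e28161e2880166c1883cd8084e43004e15c0b05c7584cfb3947c724bc338b161ce1698d50117074d0813d0b35a02854585b4b854ccc5d43d450de101825bd365e5405ac873d9dc6ea17595f258d6289d603755e739a2691ad566016acc7468c45dd17038357988e7d8b23fa0d44d48165331c5b47e5bb6cd6c180271bd3c25cc8746044616e06934518894c4622c09b120b3059fc87c8b471261f92428e1a485ec104ab4752717555759375481d02173524470e5be7c41e434665f8aa3e18017cd10b1040ee193a1db7514b3f4436386e38d092bd693d4b57f4260e8a02fcee3b5c212cea7dd017c0e6635963e5a06180537d7257e0814c0f16d980317d610d47b89f4184d1b58933576319cd2753a558cb3155417028305953bde28298a2a4ba035782dc773d0954b14c6212f3dc5102a254790a2eca821083148a448d9d0c0f0348133249c4b8656f5b24edc82d094119b0244900d94e236104a08a4c9af5a885218a729a21204726a52573d8c1ec566c4782da26641d81cc80514704f4fa33db51adb81a5c60ad0c2686400d307053f41c5e46cc33643751d7a64c7a68c1236ca52ba225fd94341f83ae091252d44893096073f00947d7185a185d1bc40cf1444001688f541d582dae0c4a18702d0b90519de00a4c24f8f21141f731d065dc40910e459fb851356d99a6452b009eb278547d010369512e4d7648ad10915778063818318c1567038,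 [1], [1, 0, 30]),
  (0x1613d0cdc603622870dc4817536a210591d864ef85e15858cf340403ec6783c520ed8a82d8921e086e5845880304c48265a60ddfe13c6d79c1d5a93b3c1f6755a7614d6561f03a5eb7b4617b90a7314d7ed343b11357539785d06c5384d8ca76cfc5683475d217d4e7030e063de04b4a6735e90e596038a52322415d8065dc20c977010bf1c5a309cb581d7e6dd2c6a18b6cdb277ca8305291c9706adaa495b57d2005c8116f0201100166d483308267c242c45f70dca654c664d5c27506744fd634f96d20c829885b9867ce0620074605c4165b8061545ed7a2c14b7006a8784151da5415ac0d58726c5d3d5f95296859d003901f3b605584de1995e78d922e5d9525f155d3a5557c448780a0702514e7a05c5e1695659e5cc9a43cc2471425051b2613e8993c7e156789de339dd079e6194071ec1927cd273db616c386b814128886a4230210d75a1f3445186943500a1228f8018a70a8f37915311c15514e84890c289ea2f40b361905c443024503ad663fcb8639da844fa631181f0425acf44508b189f7860d558de5404687bd0e750363956524c2f385d22e960376202da1d2a90735df23b8640992e47e13851370859d2addc0f0c831d942907d2c9446bcc06f84d42490238df56cfe2dcdb6e8b40e8c3665791184e1e8ac32cd92a5b0459ce720c50890b4686c4bc2c6449c5b5468053f130791154f38c10048bc1acbb235c73c91918d26824852185a03d9c205831fc7e310f74c4ad2595214c6f0f5821cdad6f5501d86e7f0a023d761a4ea8415f4ccd4224f17b0606605e5b14c4ac845fe277145605c311de0e479027f4ae2f8970692712602444af255a1410f65d2120fc021d4c9834b372d2a7fce65bdd8895c1150303882d0b89e015150a5516ecd30959a490a3335a2591357e81c0004b4c17d1561b4412880c916909220dc988dd34200a40d234c9170adbf8103e6801b,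 [2, 1, 0, 2], [6, 11, 5]),
  (0x89d33895da06168872160d21e20e217a9227343e3d2203701b84c9e6948c7c17e00dc382c485617b355a167c3b04d89128c10ddf613d2a7a05a5156c7ddfe6b8244995b21e0f7bd5164c740a21b565fb5359615d24299e2709d042c091c05059e2464920071d64a4b174c2b745e04255d86549701340997619cfc3b080831e15c1cb02d104703c6ed003b8520fc196d48b6cc7f28892699f5688326adaa261a8669af84564325ad818018159e1e4e2589a739cdb629e66551e7b5d905d7463cde394463c997808ff5bce12204460061605833ce0e034ce8217a2c0c30e5c85d59051cfb415c161c354bdf83d50f2262276cb5251a43b59b584fd1995e7395a7c95c7a60955ca132137445177b936390a979cfe2c863731485cc767e5281c5425044c4953e1953c1751a4e503551503adca898f64c52c5b4d22f5302a9fc75544265f34fde40221a485d834594435bd25d3a464c4548a728c5908c4754dbe5a8e8474dd77c1673c041dc415c4ea4e0ca079ba6214c581c65c8fa2bc7d38d325ae175fd8b0e8f0009b958dc54d5043a50e664e66354f3dd9c6180537d8e432156600f16c5335cb981cd40392e47cd00017c240962b90268d550c051315185e014800c0054be4b421238ba3585c2dc5f598251894b751793e4cb1e8ac1392b53810459e31a8a4455b1558a026e121544927c6f49da946ccc115651f1b0244cd23cbb236106d08a5a5857c4852181d8742f205c46c8603e0931ecad6740641d460f5ec1a42050ddd2686e0e06c1aca51cc4371d5f4f464528b36087e2d85e4ecb8365fa450587940a27454361b8319dc7f4ab1354006a012720a4498c255841a0074182c6de181d5bc810f15dc6d7fc365ba1f0cdac0c4c72082d0b840748220a5eb09dc92d1f444c2a2f07204501211d78504b6da236450a2fcc280c1207ca8368d35f40c6fc56779231087838108834ef680cf,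 [2, 1, 2, 1], [7, 10, 4]),
  (0x6ed6c74d0a35a218896d1d1753b96871892680de5c52f26d4f6d5660542348ca25a577604ce49cb0368a645d4a59d3721da3785fd7f9965fde56f5337884f705642757d128087441445834510fc0acf34512a7e867685f77fd88148f64b0e204c16421825cd216b0a3895597bcff31044004e0628386d0794921b075ad0e4377d597568fb7e5af89c4020d0b4b95084dc9504755f9226f170711d555c81104d00443c2fc248008078e19549485d8500181f08907701fc300e329c04221253a43e3b4cb34dcb551e0188f505d5d1c9d882c207edb17c8485e5425ecfe8319d8793f75d1085dae2cc3a88226385438361c80e1233df4394784f802374b76100b035bf748996aceb12d893359f309b68508e164c3172040159e07140471eb5a97a6cd465d1614ec294f41e3c007808192846d7e0091ec70859b73e1dd3a9e60c82882455641c783db075861180f72a1451bd0122909815ed2c5e7230bc241721c430040666e224461d9660983d0aa1082f4682c741783bdea6f86e1392d479de619057a00e0d5393f61d634845592b63cc70a88f58c1b651dc5adcc2ea1857c9f1de071a0b62b22303c6462c3f1f9a85960a54ca5630823041a3a07c291cf53151325956946c1f5122a4df060b2578d8278455bcb8456082ac46158d72bd042ed1d64e06330c57520e4d44d370b57cc2e85497561062686a094001461a151113994e179130991900d91804691ccec6e4ca6a9a20f4d12f4c64c40a7216236c4c6ca1f2158343d3046cfa4d0be0d896218d97910c174d40ed874811f14c8d1954b10c5753427168ad4989117ddf24d9c7d8f928076555f10b57c084ae2d1ce16d036a5ba3498e1fda618d6e70dca7086b3c5ec031290490e4089c125007a4e74f1281608b255a48419911d806693a71547390c84d8b9615da845ee76c3169d0d354f256c335707a4c9f04e19b525922256073494,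 [1, 2, 1, 0], [4, 8, 7]),
  (0x9c5d031ea7ca1c8889b60a1e3556889010005604149f5b4946a100441240210b529c06053712979875ce0196959cce825bc7844f7f9ca164ec1c4654e5fd0c81f6441849d2363d2829dd8309da015143cc3807610110f00dd88838426d82f80e1b02c7451dd65c0220cd493a4ff1f5a1681d28312a62c9608c167e87272dff755c3766115a8c11621203ca2348703400e5043d6e10d68dac601f555c815d213690c96f99a69983576191e19e1a90245d6428cd85dc6d30093459bf499a97bc0258cab098395f1d03c56b155e36b43482da279ddf35a022c1425ecb8628cc5d49875c1585d290e8b33713d3851c0ee2104c40851a7395524f83e374b78190888c04382016ad0106a0a0859b5112c33cbb5fcb2530030ad480711b50dee7e57a6cc9a105617e029899357dd3212130469fc4ed034c550855b7461361a1347055121c174188c83ca8485ec1807c6c10f1d8eb464bd589ed665fb71c902f1a56f4302495f5f9c63e15a17d3f3d0d93d8e22849e7814b8610a2fc6e2b9cf1453861971535c95bde2638da6345a4e85b744c74546b3b400318ca3d5e937cef1992f14db93a8db2b00d20cd46d03f1f9b539189449c83e59c6bc4b438f73152d170280f1955c8a0311532a4ba5f4c3579070b0950d4fe0aa0832caf158d71184323a1a64d84674a439c52078be881ba6142d8584c7c590519760941b4791d0c4470d94e179e434c8a8109d264691cde581ddc6a8201d51f425941ec0a296052d8976c9202188051419500fa7984d39879214aa44d0c5b0648356e87cd11dc8d4cd78411c57a1bb2107a22012661b138c827d98c1b06f555580b9543344e2d0a64ac09494b54b8fd1fe002258765d967088f1886174dae244e81409c12566731d44f01489cf21141119cb1445c40915615d73594c87755b7ccfc3edeb76c547d1223b88b2e625648ad01df07799f5655c18cde7354f,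 [1, 2, 0, 0], [5, 9, 6]),
  (0x4f94035c1607ce2408d26b148818ca71892208de2792e2c14f3a5db2fc230a9b80ec39030f821c9b575e345c422d60a49cc915c597ed965cdc243d4663d144a59a1542450c22340f216982544fc7494713c1b29dc76e46c211996c5034c2211010a570345fc8a1d1e082de43c0e74b4440bc8c6286d038a57a45b0dd835dc1d76197010fb825af5e813874cc4bd502f8286cc415d92205dd502d706ac811d5d12e5910557d7cdbf29850549755fa191e0d60205f44a14654af7e95a2207f6d5103b45122c47120a32ccf56f0da765f5895927f8520615427c278594b2406a879b25343e40120189b6820766184a0259c0b1050000d634066ecef198b7611c47d0800adf155d0e0790970d9f62c3a7f0a97f45c30c898419e79d6c5a82647227505333445825c291bc4b7bc6373cf1554381320d1ed6f5ecdc33987891e67b1c97e49d47c672c5b075a1f260f9041584f41a48589814ec83c1c380bc831728051a2a0dd288ea2f472360606e92b528010c203454b8008d9860fa478c413803386127d9b40d44d84483395ff320aa7893a48c8f58d2a2adcd5adcc2e9be431792da071a0770cd5b7386430a156a4a0729374447924da0499014d446292022c94468cc0581f75f1c0238df7c94c579985c4b41c178742206507c2b5d338dda5390d714ee42cc57c1c83a1396dd678002d0fd3b5143d1959d254cf32e1a151531acbb179137ad197783c1c4691cded685686a98041974460ae4c47a8399b14df84fc61219ad6f52c1746e252130d9df215ea5655f46cd45a5dd6b99036c8d268fe10de175d42458563043141c966321c7a0f76a226284990b87d084c61140f86cf61f8f45b58e495a601d6e33565794e606432605c1048eb8889c12617490ff4f1ee584d3095a70158872da2590c764cf3391564d811615043f528598916911d3541488cac4200a4e1d44c96252420811a577134,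 [2, 0, 1], [30, 14, 1]),
  (0x5091b604d90619c408b00d21e354ca3a8a80bda58497934934282170f9e9088cc109120320a50c9f20c0f1e03b2d4f87e41715d147ed657f5ed8049a134597b0d60f1f221c2a789ee7e9f562d048404f51c6d0dc05111ef075997214a0e8010b05b711ac3cdd6754082b1496d4e75f1b92082b2401b309df08d0a29dd911c845c0cd1c8fd4712658505739b85b56f745b46cd062891d32474689d86ac81344be69da386164699ad368500199e6762245d9a781980e4386558c168803047e3c0ef58d947ad771f5150656b274a660d82895800709607dcf26c27859786290b52060534bf401c16d8626dc6f6196a5a4e2100137f1a4635526ed10198b73b95c56d5a2307155c1a4053708562545300014e5cd4c2c9de7497579c5d1292882627504651d458130291d8e81b1385512c0c21425cf64c5500fcdc2f5361a0944a54449dbc0f4e02c41022832260466c1bd8990e4651866cec621fe19e0c2f16043d1a2490c5d9c63380441db26e9ea40e215557128cfe6f816054fa31a0232d323849e75c281c18f6395d3951631e1b3413a740e63b4cf2b9683d52437c023752e36da1890530cdf4874d403a156a4e9391097020e3de1c6bc1e3acf9314c430dc9644c05c9a84b511238ba0905c5785f80c250d54b48e20144e32b5d31f0432a61a715841a8a43fdb112e13820f46142e5edf82651f4cd7e2552a1390d245cb0d8bb1795922d21224557c4691cdc281dcd6a99210590624ab1ec7a1e6051dd3b4fdae215bf560f15b06e799391aca52192b44d5f500640256e185742d88d518b8769937d93e7fc0a22012360522bda07a0937dd3d285450b44870d1e115e32aa0d1fd674be11495f3811dd65d967948f2ce1f35d200c5358649c125db731f04f0f25e8142d0b971e0f54c0b5f4c87857f7295661e23800fc3ec265985403522818d30460b0805618dd400d9f7910801cde7714f,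 [2], [31, 15, 0]),
  (0x9d3b0321b56e215a09f1861e81e22768a8680fd5c49b4bd656a1ba6f9e448ddf18dcb60554804b020d5d1e08976d7c5603c709fd7d934451c550d3d4e44f6b01105e232640863d444592005224380595fc6d2108c610f07fcff5f8070648204dea6fdec5cdd67042a0cdcc3a5883e2060042b70dfc3c8cc44d0a16820700374a60c649a543e001609e369b14b9dd340d3504751491d3243260dae55c8164213591a3441a76bd80739cd0199e294ca549a4454530e4383007c29c0b7cc987bcef3b44e72577339e00e8f5274a668a1f82dad5350b2e5895e5428205c65c965d5a9070bf3d1d53c46285465619bd8121c80c2c06d9a635174fa18430b768404061080144a6ac1e12c482f1624a1300008e3cd4b3fa0d7494875c971c5515157a6cc6f419615b0294cceb7dcf68292c4e92a175384c5363703f3115010dca5c1ee7c591106107c010484741f8932496a519354652d66d9339de819ccd08611470c76c066838fc1f55c2d92585c5b4c99c55a12740b20f8160546e32d09319033850579c2661de23780f395fa468d97443028c6b58ccf145025ad5937c0257d6d360ee411982b17d874d422db7181b553e0211d762bce26981a3a0e3314bd2e1eb6f1953eca046111538ba0357857877100455b94c0897b2b8f9028d7630682ed227b4441e4a4665b8404be859002202e8814021d741d9c82d2146510d0c5120d8a9179240388a0ec5549c731a457354506a8720f4d173d1e1ec561a99f17d1b1fdd8215c47e5b6130fa6584d3999d2192b08cdd7e06400c350d11f41c8d898c33a8ec7edbb074ad6141236ca23dc2f7f8461b09a322090b537240ab095e32a9de4fd66349606c8c15a56f629e67848f2cd8274df52450e77049270b5524b14f0c289d8b2541f71dd454c807d0a179547251551c1f2499c65c82859c540921a6e5b435a257647a10a0f026057a55a5298e864e4,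 [2, 1, 0, 0], [22, 13, 2]),
  (0x6edf874c162e61c5a12f7b1756e6223f1b00058e4156d27ce46d4b52fd13021b1224396057c2657903de35486376d547c4c97084f7d9e63cc5747226789fd5c1a41540d80523744c229e1f4a1c67497f165fc169c7819f70dcff6e1324c19c80d0a0106151d210c915895e97bd88461846800565c6d22d9d791ea211a25ddff6b98a57172515a689c2c875df3493684c265043d83a1a0f1c12012955c81418d007dbc055f4305c4299cd45d48721dc1e0110a87772d2a300f7459086153f3a61858cae039c04ddd02cd6b645ce0812082c727a0a256e0a2c1428214c70c7987925071be3d1f5188f1859336187100e2104c9e00024634064f8ef430b7111bf5f40b0ad276ad3506a02242050501906cbb451782e03b3819e75c4c6f42843d7a6cc766416117429195013c042625b6558385b1de1eddd8803f1f470411966b1eb5609d5d0677c092759821f8e3041f92681e229cf67d937514d84021334fb50cc72a15f149da3119236da985d2b01c824e840780c300a1b4406e2acbd65009385717ecd35b939580833941d284aa63c300888f3b614478503d5492e83e1989b41cd510c5f2b018368643c9b7181a8250484446a1182f8004b43893291093f9ee68d958446c3e047538df88d4b578538489561c5c28d7b1398c028d73e4ea2390d7b5a1258c52c57e3ac4d855664982d3711b824411bca52d0cf3192215153398a9178237251983417128731a5c53b9026a9ad1d51f4b4514c4565d99b661401fc34219805a92c25cfa728be0d8cc2145b490dd4ecd48116f760d13608d4f4b21a1e579c277e87a7cc912d90b1f0e27f8af28146320870b8ce2f0cb0955d36538261004b8de6c9af52835831347846b0e874031d5048e832849271ba565994f144161b411564230e74498369d1a3b17353d55540d6222246955159c316691d81d8b7c833568ad3da0f40d62731d95a4fd86565,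 [2, 0], [23, 12, 3]),
  (0x162260ccea69219680dc7059e29801365228891076e158592a7882c3f4e062096108902b11850db7110ee67d324147d515f329c1c51c1b79c84129f86d5d71d0b98019a6f4ff2808b709ae3c85b4914d7ed4f3b15920e1364d237206361cca85d04201ac7d919608e703067134085f0da5a02344965309df0ac6815d92335ed87c471c83e7c59109cb56859d820f17dd516cc6029492221ec011d86adaa494f056d8558223275086e6218161e6e02f589f22c598084e46551e785c46f0412f8fb634460a0bc3e20f77586698d5569d535d5c450cc07dcf0fd61349784450b5210613cde04c341c13627d6c5ad2740dcd3d1007281858d9b5e9a51995e03d8069d837907155d3a0c12d0e5176d035798a97a14c52c0944d757f5468040e8253e50540261424f53c4ed56340892f56e404944ce044c4b326cb05506242a14184d35a8c16a5e97821a228321d5944348746ca175a0a548370897f525cb5de182644b474dd5d92b339a241d7480dda5a4504d5667c0fe84443638fa2bd8938c3b3d567165eb6d9a8056063b5e507a241b01a7506b395963dc823861037d724322036dce86cd860424610d44a1790f5390e10970d7e2b9dc154c7320513144830dc9498c00098f4dd8a238ba7d0b82dcb66e8254c0b26652e3e4cb1ea0b13816538107fe1d6c4a40a86a469ef5b44068c9c4bc9a43d3f25e0e115341f1b00c60c0d8bb234057b9214e1af47086215fa78ce2205d91f87f808931ecad148061dc7647df51cdbf5616f1bc6e000e9398a21a5c67495f194647792c4a5b217c5e1745c7a81d3ce277140a3241214c79319025ccab7444c439f9124c47018c256073f20d6409e5edbe344173d81954ccf4588f5417089520245556702e0b61271ca30a58b6ec142d0d67311565c0b5f4eb169fe7f0e80e9640f0aa3bc265c454034a857544045d308056529d000c78231ad01cbf8706d,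 [0, 0], [16, 2, 9]),
  (0x89c658944307dcd682166b148574014ad1d5a0bf59e203706d4e6123782b3fd9d4c8212b07d6f43f81a0758842415185a88829dd751ccf7a1fa2645d6a01c185f26bdf450d881b18b785d56d0aa44dfb5356515dcc368d07b5231a9690d4503d068601c17f88a7b0b174c8c2f8084dc83889e44454f4a0a2381043b15a2f19376153688ef824556ed00610965ecb33c1eb6cc7e5d8a87cd8202e1f6adaa261f7359266397d05dbf3562166d758399c67cb939cb624094654c67098332590135a5394f97b8cd311f0540e1305b9649ae35dd95fc79690bd6dd61348b2449b16797413cfd04d204d8705b53b5ae0177a1985cb57980d58e055e8fb1995e87480091c408d1c55ca131d09700783c9877294e79cb830d384921e7f46f49c267c53e50497495424cd3c5b11a84d4a73d6f4d4e44f60d1ecf14bcb03383a86c001d1c9515a64fd497810d465701d451869581313a4860201837455147a57772c021284b4890c294d95507214d0680dc618cca405ba83c5c5c8ea580fa630481f0033d5db3cd514c1b56f8443b5c53acfc2801a6648f6353424ce2619c72ea113761517de342877605a768464309790f5e27f12d628522ad0264430555942918952cd3614c0861d15f1c3238df6694c2dd98598b46d9787512e1184e1ea0b32dea2a5b07fc0f42cc528dc8558e927c9e0f04926c767e5a9501b81159638c1015197398bb235d20a1d6026001c48621484738822055c181b2828f74c4ad5f9523609a47d291a50821d6e5186e851ef0d9df1cdda0155f898d440c197d47f36c5e7e0fe0585a16458794566f09141ccc479dc5ccae63d1b4390f270f80e4af254ee8920410440820153449d01d2c11c1b4586b774320cc34048c80bc2e0b42c8402a0a48b09d440955b564228300488c1e075f60e0e81881168c5b0f80e5c43106092298145900c6b40a225d00ed1719c203d9108712a,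 [1, 0], [17, 3, 8]),
  (0x161330cd04591cd006155c19e78da016e1a5a1be59cdc881fc78840580053fccc01ccd2b0c41c43f611b9814f65c4f87e526459d75ce145341d8056c6d41c7b0d6305a747188281b4785f562cd9791e77a0e4715e9876137b4085d94a5bd023d0ea710327f91918599031c7135233380f8891311c940510b74843795d9241930d1120821821c1709d66818795ec3a7ddee6cc7e1a9b061474421206adaa4fcf07c8883f418154043ba1c67e1e1488266d5b750db2f14f65594708800f1062f9723958c7ac211f5f01c0e16be075712935d5a16496045096dd614b8c354ddf520417f58e80e1f7755026df83d4994e21985dba4d2233b5625ea1157d5e36983669804914355d1a31cbd5dd5222d6e6594e7ecfe2c9de08d7513c76128d35613e5044c6a5421953c174a1341694b435079658983b4c46227d794dcb30581b6080e43e002615974122229ac0f51e475f125d567584845dff0a8f3731c00e43e49c1a4350c720aa5f1ad1dd9004e24225dc3acb583d4c69468378fa3e6023de045addb45028065a82fda158c57405da1b04b2c46b635e638c2f6188c37cfb376166615d7a853605f4110d4510b01d5391b5cf8320e32c5027430554c63160a5e0267ccc03bd8f551972ecba0905c2dc5f400b44b14b39cd22bcae2b60b2ad0a2a4a80dc83288a4088a54e9ef4bc2c324495b46f5a92546d7e255ca24c920c5c30d88e234e05452140da66f4852185a2999c20592181b26247c1ec7a6e07841d46345ae1a40b825872686e33ce9399b11ccfc0ac664f464025307547f2d85e4ecb886c845fe273b05668c123619d144ca51c4e745403a1452711872c46114d5718035d2128211047d914c9b64440029c8f4d9c1895d8244c83882d0b89e19d150a4f26ecc2094b9524a3629bf035357e9f64a90e3c5a46f12b009c9414545f4107392807dd31c80a18de083406841a21081588438,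 [2, 1, 2, 1, 0, 0], [11, 6, 13]),
  (0x89d3d8946804619006200c948739a02a90d8881576e16854384e49e639d2620793d8bc2b0f8471b7684d566c075c4c443d854581c5cc007ec5a49d3b6a1d76095b698241c4ff1b0f27092922d2b08de879c947954903cd064c08294895b9dc85c4360d707d88a1d1d474e102f9235521d5a12454ce4511b1014ea7155c085ed481116b4025609d6edba110cc820623c0286cc6072010498616fc346adaa6a5f72e5f33780d6440b81e1c589755f8e2814d66645f33565654517858068d7413611634af544904620f4d986800ee765f535d923cd9d5912d0fd614b94b11ca2679907f56080dd8541dd4bc5d3d44a025cd3d1666597d3b59f5e97257d5e20dc47d08044dbd55d560c1cf72c0662d6f4d0a95345c5e1037921e13c9a265c921d3e5051b4fd428993c7e13a84c63425873ad4f194031ec3a5b5795f0f17a8cf7b0267e5af495cc7411d465c10f4c648a095011a485891e1ff28c5956439700ef8041a868dd1a85b4dc203604104cfc52902079007c0b83ed043f4fa11a0a24e0d5ad675fdee4b1b54418458cec4d5c62804b39c8f395ca1f19c384672e9a5430dc2d8a6059076059a81864050b01d5e24a8bd65db8138ca05cc73211e292022c80e220c00f9d133a0c2ecdf69cfe2dcdb2d425064c32c4d2630ab2b60b2ba1b538920dcda77cc545576284e926e126f09c27d465149813052255e63dca81518a3988e2342b7add6778c150c852181d5742f2055a1f87f120e34c47a8391714c6f345d51cc047c4351d86e06def0d90b1a624380664ccd44e1b66b9b26605e5b14c429fa4505815c0a0f0911dc966505051ccb63c973a16a1247d5dcf9115b97683b4182c5ecbf47c551093044a1429c6b1c1ac0ce1f049552082d0b840230220a5b409d282d1f27a42a70d0806101211fe1b50e2cc1f324d9860d34143188db078cc26900c688565a5e08115271c724c9be885fc,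 [2, 1, 2, 0], [10, 7, 12]),
  (0x6ed3b74cd969da07356d4a59e11219410108861104d2f26dca3c0b50f959781c87791235d2d5152e78c0f0193885dcf1c4177b54775c945fc578253d341737600d0f1a443dd02f80e0dc32098ea840f3450007e805355a829df0330030e8e25c45b1c9ae13d1987ca3894231b20f624ee871c73341b7ad7e5252b0740b11d161849071160265f389c40738a52c1874e5285051f1e50d15520569ec55c81105e20609d8615b2215c369681e21e6c5dc45e230885354ccf300937fc208013f280153b4ab3091142523064f568e1d421c12b0047a1767d0f83493e6dc5c0860e521257f80259d826d92c85865619f14c801416127f1f26355250910374b76e5ad591a2231f96aceb438c46299b34cb31b4bb1654b3f84219d757d897561b4805616cc6f5d17a5b0294cc1e6d43b4606255a14174894c56e8817b120353f1650d08b6f5bc640e03fca8229f51fc7c6c1275190175954589e17514d749c365cfd21cc82495f25843809802d9a976dea8102f4e82c020b26f8aa3bc6e2b8ce14569386037ec14776135c95d394842861b135550a8e658c38318505ade437cbf1989f362067699882c1f298d47ba086c9f77987d7010b3e482614e8068f7315372e0f264595639ef829772a4ba0457857877278954d94c4543f32caf15981119c623a1a70a07148a42c59d4d58f855666bc2e37140471061d9df0952a4791d245cb23d4e179e9511213d8c95a8731a5c5611026a9bf3443d5f1941ec0a28a0517d1b1f9ac21592128f1130fa391d11adb82190a7310c7e06401d505c07541c8d898c3891e579c271687a6985436c6a38d9c0718c3a49a31d430b4bd8304e2d08305863261005e5a51812640c702f14f64c364c1d5030740c44b32849271ba44d994f1c9160281157d0ace70e5d92e51a3b1fd4d0305bd9a304683798b3d012359226855109033200ad835885299f49183024fb88996,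 [2, 1], [8, 4, 17]),
  (0x9df8030aa7d0017349b6b9486861910c92870fb80c9f5b5967ddba00949740a54e15335dcf43cd25748345dde85d2d6f4557b57375d4f165c521e2684d470d22332411515e0135c97fdc134c6819d143cc1b0742b3b9b5459f0676042cc2f4152b6b5297f48a480220cd242820f828d58848c084007b9b85645b7e908444a77b0bc600de8058516212299c85e56e78814504d12592205e1f7646155c815d1395f5913bcb949992875685497577cca0180d28c7744a14300e30dda2698981b11058ccb510472f4084c16b6f0da02c322b1bf5346a69d184b93e6dd4c33452679a97f83e59c744b1b6855336195801da05c4401b4d66347850815374b781c7207c2071d6a6ad013a07d8319f0983a7f08e5fd782e0f68421e7d84c7c58b265616cc761057a17429195356a20d3e0f14e8cf5b0631ed873717b8096f768e4760f21c5a3419d23fdb0465d51fcf72a04a268eb4857c815e139de83819770d8e824c8040661e504121c436d2576d0a00ce25589e48cc32fcd98606e139374794a3841379d284d8d0695e33945a468162f955454363b52a651023d5132e9be57d2f41d843f05f82d64738647ae086c8f04d0c45dca26319c7cd0e12c7c290ce3f88b275953f4e9625c02a4df6914b578530b0457745c0a83f2ac46159812be242ed1d709b9838c5664cc079d1859003042d8811b50d901bdb1094381461a048391ad4e179cc309d61083c7e4731a457818506a80447c75550c64c40a42d62661401f9702195c49c6225cfa5958f23d7e215ea7a50c4ecd44c8706b03d3608d4f4b2718ec7edbb210ad800312d97624c82070f97bd4631d1c0b909628ae2d00f86c894fd662c17218088025502409464ce6065f574d821501a77049270b5790b14f00e89d5125418015d472d5a56ca17944f798300d4246bcea581b43d0917c90d1102866a2560c7a0ed885a59b08c8040e11889ca,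 [0, 2], [9, 5, 16])]

/-- the group W2 -/
noncomputable def LW2 : List (ℕ × List ℕ × List ℕ) := [(0x89e268962488e228862087e1e8761c86e1a8661885e168561484e128461083e0e8360c82e0a8260881e068160480e02806007fdfe7f5fc7edfa7e5f87ddf67d5f47cdf27c5f07bdee7b5ec7adea7a5e879de6795e478de2785e077dde775dc76dda765d875dd6755d474dd2745d073dce735cc72dca725c871dc6715c470dc2705c06fdbe6f5bc6edba6e5b86ddb66d5b46cdb26c5b06bdae6b5ac6adaa6a5a869da6695a468da2685a067d9e6759c66d9a6659865d966559464d926459063d8e6358c62d8a6258861d866158460d82605805fd7e5f57c5ed7a5e5785dd765d5745cd725c5705bd6e5b56c5ad6a5a56859d665956458d625856057d5e5755c56d5a5655855d565555454d525455053d4e5354c52d4a5254851d465154450d42505404fd3e4f53c4ed3a4e5384dd364d5344cd324c5304bd2e4b52c4ad2a4a52849d264952448d224852047d1e4751c46d1a4651845d164551444d124451043d0e4350c42d0a4250841d064150440d02405003fcfe3f4fc3ecfa3e4f83dcf63d4f43ccf23c4f03bcee3b4ec3acea3a4e839ce6394e438ce2384e037cde374dc36cda364d835cd6354d434cd2344d033cce334cc32cca324c831cc6314c430cc2304c02fcbe2f4bc2ecba2e4b82dcb62d4b42ccb22c4b02bcae2b4ac2acaa2a4a829ca6294a428ca2284a027c9e2749c26c9a2649825c962549424c922449023c8e2348c22c8a2248821c862148420c82204801fc7e1f47c1ec7a1e4781dc761d4741cc721c4701bc6e1b46c1ac6a1a46819c661946418c621846017c5e1745c16c5a1645815c561545414c521445013c4e1344c12c4a1244811c461144410c42104400fc3e0f43c0ec3a0e4380dc360d4340cc320c4300bc2e0b42c0ac2a0a42809c260942408c220842007c1e0741c06c1a0641805c160541404c120441003c0e0340c02c0a0240801c060140400c0200400,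 [], [5, 2]),
  (0x7c8715a50383003059260f4af1d05f86c2985d12328a0304d95540034cf17b45d2019a4e0a24ce001192520624660651da153f9d14b9ea13402898326c9dd7e19988161069f43702739c4c715fc3216f1c0fa62d566b0a13fc394b10279d4a712043d16c3404e640d65684a534b84f591778ae72d080913b50d57309ba88deb43dbe025c04a43a6d0721fd373c0174fd42084e913cdf24de3250837185e7dd7b1610c54627625d318107290e33ccb63f1c307c9e47406638f50980773a1f4e8c0485af64db32740d7a1486307c728876880c27c620a1a37bda75cd1528d303841e4bd9536106070cb551ec650eb2b1005a1d96b4903e4686908b698923816533581469d210d2463cb0780d4844511e0234e51621222539861a9f971d600ad28629f51b1ee3e0b7332137f833294a91058380625488961657f1e57e0052a49dbb0d03f684305e1316361d5c1d62f101721e94796d2354b1705231a18021106091c65c8825ce232534670610e0f676842264503b05a51162040e43b49a58cea2ac0b6c4118421629c983dcb17c4896a57415ce62286e8792b5d55d6c0a8111a85c48c8502c6018837552694bd4d5fb4146f5911b540b51f559789cc191b8741c2821727e8c726d0d5247b0502a4f1a0864125d9ff785186791323d325ae210d4fb055203119f4452d2f9b77f4535f00a121cf439b9838b31a55c6155e2455b1593645cda3f4e54115f704862154c6b877814633b9b5156072e89c82996872093a0a6255db519f6809e68487e1ad140959b560d5338c5081df47e06209aa42d2316cb25e41883c36424b480d475b9676751975dd8344671e8d211d84150666adcd12ccf7cc3e7540f82dbc088402fcad239bd0ed400c5e42a82e0b4db514c3868b9039e51ccf22ed535060d7c0753bd8706d6a0157a6d82f0757d1b445724de0f13e7500459849649776fd4f064d77703742813,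 [1, 0], [8, 4]),
  (0x56060e0f63355738a1557caf31d3416c291407b59da842cc56b93822c052c4cc649642b0341c60e3acee2050436cf87e45d530551d5aa4e5a7181e4516020c0de8001d238105d928785f52f05e5b1e733872301594813a15ca32814f195ab58889798327444e431410587e425a57a00f0199011d5c2e620560424346856d1d310b718d3c1e4e10e59b4cc877bd8d6a4227c1c72edb03cca641e1d40a140ac9669106510a775e216e47767ce35385f598902a17162d4a709946560d0f0886b1eb2319d5c81f341b37741713c1a251372a9a25d0f03c84d2cd6112dd04f92c3817f344c2890ae1c0b0111405aca9102192d46e680fe58cf43bd155c092228b62c82f1306c7351a78c665dd525816d00c5232623669c6451b66bda119d7874953665247dd425be18498831f532705014bdad519054c57e4d4e84a5b70301b829e0288c1261e930d22368be731d664c467cdd8478dd2360c2e1850f4ba09c3e6e20779461720d768d658711384a033a8786121783d1648dd9359db3e41c3dd983d4fa08d7d064dc2fc763b5ed0d49e50d2e3fc6b0e9c487980574e537c0d1213081186191036058a26cd43f5505cd4d1b5cf7fc3f46168625ec63dd57f18234d9725dc55e955144261a9c072551448824004577c8439cd567a1f158cf2ad0a265d47e8a143ca47b9bd84d7b078d87ec7a5b9871f2094ec621cd9c6c55e0c45a0d91c45d48171bc14d1f29485245c31d1ca81407804e92756a6f84949ddc422267f5e2094fc4946f4f5ba82db20b8932540b4fcbd269ea6fe163187f60cd946c2a86d4b106273b0ad5f0120b18c550ca525197f9f85e5b5028cb72df12d0d2779961641382110699ce5a575444000608f4392d89556218c80042d399da12a11868116ed8e1a41451c087d0093ec9f0ddf64a936841f24852b008240ec540a188645b4085d33909c0800e202223c55a10c5801033,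 [1], [1, 15]),
  (0x160760cd7153006689c82b8e36b10716c295a13c40062881aa285050a8193fe08649161b5292603f43a26204db411f61fdf33344d1d4c5274a78044c4fc1c7b02146c18119b36dca33b0c863864491cf7a1d9435f8554747b5282cc4361c783e82c3f11a68d1e318a80314375d783383c55d1f11c822e50b6c94a300e4211954dcba18c7b2888a09c6e6850f4b1481280e6206c24db051e134d18f771fc6d6167e83d741a7425805196567caf630946e94b504f63084264d944760d03dcc31c266d85265cd632410268da4510117cc435ce25d1303c855280bf12d4454def0e97f3458b6615f4f49b541e95ac7c0ecca85d9b4220c58ddb5e95187c92385ca70c04791c7888322f851509522e0d27799d341ff1699613c8c08d337dda53a53e7516c19d771bdbe25de27ee126081a4be1c6e5384c4dc4d4e80d1760581b4b5ee1e53b1c5403f52205de3221197088e17556138cb234fe58149418b70e43e29435715d5854aa744776b5a64ca04361ab4d8b539d6434c7207cf43e6023de243d5626bd7d0157e586063b45781d031f92e2c42d3800b67a216f17537df4460f080d211789e428fb2c0d430c445cd892b1e788e0e120505343087461851c148d72499e53bd20199eb6c512725157015c59c455ed5b83d6e8797015a0b2ad815a999691ae21ca478127299df078ea1f40a354652a525305a81a5831a95e2159a0d9f145d8d8455d769906e031218b24e8b681407181d24e4998609c6f502680ee7f483255e68256f1c16633d58398bb095c451554774d96fc96431f9671ea8008b86c9010402784ad7f8122254e2f619615d65f1595e42b1e8dd72d1c2d16d00dc6165693311044d9104ce56ee250748f3ae0a001d8245f55686b0b8536a45c86811444bc1cc143cdb4034096289f7c8f84a9843c437619d389c24100540a1f0738083792b1a04908022201cd8400153c150bc38,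 [1, 1, 1], [12, 0]),
  (0x7525100ea590434acc16999e7898316e1a59cba5a17b25c6478c333f4197851b01c904c9bd5185d7c498814f65c49a8990b459093a05e7f8588195671c65790a8854ef4d8de4c1bb3fdf8435aa7b0701bddb5c91a8761383d116dc78339c61a1043e940535192218a0bdb5325515bc3c53e1f11d6505126749cd65d9b334bc6e13c080b782975088fc805c1371217dd537d143524df6c52067074108d9514b389c6158015340161fe1c2921e08c827655b3ecd864e227acf56388003d5f20dc5368f3655f07ec2179db66756a570a5885d307a16045d75d9a4344b87b97e5749f4d5c240d137d918199f56503533e17865e641c5a3e40b29c5c4195e395a07fcaa7607e779e96b0d528cd422d54771471f60c70d571481724c6056115129e007c306c928071120fdae1562543c99164947e438488621057449cf00101b288394b6086e4c874131230c72b84e099848816c7584445d9a0a98c7547b0383e4dc4662d1f4ed80625ad17cc600198225961f0ca7b54b5e0f4621c43b58758c9e2ace42ec28015a87ea093dce7238530ad7f3b06b6f1ba2bc0c3808a6c1d43489689148315da689b312152510514bd398493d3f9f35b5002744c4e9907a8876951d838c269d8f5b9e5451be0921186077140544b14c15cdd38c3d0d9055ace2438d6008be6099f09d29555ef1d42c1349c32de881d33331df254b613c920c4b22b5012358648c3a80d70310852462329908205bf1d9a95f0eb7007a0d14a4d0714b8a11cd62686023e0724e0e90b9851a5661b09b73dfc024a0730ee72a14720c386c8412df22c48f68c4536daf2c0b55391e744325cd3f1255072c1a048bd408065e46d80110431912b0e1020135e856470795a524219594282d39a0419cd30a5c96d0c00957d1a97766592041fd2fddd4a8a93c561634010dcf282cb42e40d739425055a1b80a8353e18c03841816ac1835c3b,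 [1, 1, 0], [6, 12]),
  (0x62090ecd84594f74d3b44e1e20d9c16e1a400b7141df4985e2f83830c053b20001d4b849276e5f347071815713d9dd3ba20591d73a0645f0151d9d81b187131417217a610213c1112c559300c50c13d5bcf465c3263ca639dbb5d9ab7a196390db589e9625d6730fb0102b341151bc0f10d7011c77050973a6225c86e5318e2947b080ba4b4e5039e6181825f98619d3e0347e614df1a95560d3a529ea4fca0009d52e0583240c7e5ad2919e6bd5c1c884628ea709cd098f52f0800f0ae789e505d47475881f4de73c8c14899209b86012b07896045096ddfa34560780dc6f09f4d593279a63e048144c86520782cb5328fc4d19a3e5c469e110f55e5d50888cd75594300d4031d6e4a0d40a8bd408f37ecfe2c806674da2ee016c9516a5ee359ec560a3809c0838a11340021d6a1645f1fc33489a8105746f5300bc1b1e427828cc519f5511316d9ac57d1e7ad3642d244655045c5a22d4e1853c0883e3108e30990306215361c2510c896240b1c62a61915c90695db7c00b3b46558d032ac6824c2806462691253de0f119da6d57f7842d5756638c160e8e16c1995b6166618d6a8533881046152740664bc9d4c8708305d349674e5e41d11f3650f5e1950fd8b29e1d355c513e180905c6f9655a0547bccd7b4cb2bd060d9385ada23ac1f89de37059f0e4344812c1d48915449374ce0d5a18217b095ca45092215c32b41a2352134ce08121f4dc31219ff84da0205bf8184a7f90e4480a4a44241c984b9ae1a4fa4cc1c7d9d9415d2399491cdba71cb079e14024b3222262d9fc854fd86d5b12c373fc8f744454102326e176304e68d1a5cd452704472d0104954771575e4ac46d10319ce1b48a6d1693bc567c4a204d6c245f86046b0ba037dd230a5c90210d2557d6c542751926cdfd5849a4a87c840bf5215a7c8f233cb42e5f4645772a00166c7a8355318dde3c50a1e01d2a840,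 [0], [7, 1]),
  (0x585462b1da669dc0bc3f7559e2988286e1a32a182d5b78221463c136961039d0b18dc30cd2d80615611a181503278ce824c11694d5fdfc75c371c5403a5e70c81f499a45a9996a00e15dd8309ea5641c7d8e464d2420cbe3b0225f8421c2226ea2402dec7ed1987d88604674e42a3e1ce4091372d343c8cc0ac4370872831c5609c0649be49dbc509db3b8a5859b61b128505a9675b0615ac571ae55daa6c9ef06088845f22755a8199c67e1e6c5a058a237c0532f14f300ab795bf6443d84d7263493098215f1d45bd866be07421c174c047f5df2e589370584bc5c444965d4751658e0b06161d502c04c3d5f14c850400f42515b3b59b89cfd4315e575ad591a27a44a6ac304e9180e55234d6e658bb7f94b5300308d484522650c8b515bb6cdf81f8272693c46d557443b3103512dca1d9694c4b35e49f828624292a0d1b46f5f3181e445522484744184e434994ecc87595445c8448d47731125dd1021d014755f8392b1f5832d91f100ea811cd439672c4b2580683786e3ddcf3e4895ad6613dc93c4a0055b958de1069047dc1e83ce6395e62bc01384e037cfb1997b360da364db0300d110d45449b1044d0e202241c8146191551a284ae315372e1eb80195009e212197538ba5f4c32dd0785c454c0fe3fd6d38cc615a2565016238100761d6e0a40207931cf04ba0368c493493d4707f175760956563092244cd0d8a92348c5108a3d9a643c862151678e1c204202613f424461ec0a2880617d335d1201a5c47e5dd194fa001b51ac521ccfc748dd1bc648352c5c1251dc5e25d7816dff5cd7a7b4ad324126606a32d683cd1e3416c4d558270bd11c7c2d0d5719de345058803e6403c4e03a54ccf7e88f4d92982df50c5568842e0b57171dd00a4144f98b25411525e0628807d0e829de806ceb065a705caa3bc2884854090a803dee358d77647a01ca30247801580528bf3886d,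 [1, 1, 0, 0], [9, 13]),
  (0x2fdb91b453169020120e1861e84d5c86e1a865be85d76331fc875695e0f183e2018cb20e20a181c84d9338149e40de84953b669895fe14425f2261e9749cf468d625dfa265d4188227b55662cd97e2023e0687096c789e37840e3714a4f5cd59998710301f5d65c1f0429f72748b7d991771a672d073ca086d54f64dd93f9e57051264a186f55d5dcf4899b82588c71ca32a04a149b0524c7208a1018c55612c075cc170374e4011d98367d9e1a9083e9ff621da63843434ab715bf7390629997520bb7acde7f9991bd2108c35681824ac2f7f57b2e54d5f8154be116ee1639475164bc225d51944426de43d51c8496859ddb17c843b46e008c33195e6f21c458e2501a91e1ec1d04809d5248cd5718935f090335de6bd8d13cee1f82a4fd110415950c397747b8012068c404de0712cb6818134c4a05e49f4b5a86052a4a40849c5d8044c545226193a0f51e3016a305f5464bd45d5b34cf3221c05091043c1a654ae0fdd37ed9c729900ecd880e223ad003fdc32e0e40859b3dde73e42c5adba451c9840b31614658cec404db19c1e39c2e5d4fc38d5a2283a37d8a145df3a8177a904059f4540d4454b0104550cc1c52e15198ca134326b95f6a8c45802646d1d89c8346172630b75f4fd2e9342d4453c20c2c4d22bd0c158006500c119b30618f294a46d0a26b1304ba047449c5b4707c5f97cdb725477538922194c0d87c235b6740e15c51321c910c5642f9ad204201c54575c8e4f07a1e557251a15d1551cc0b1fc9a61d628942b0b59d1a5e63a4cb5bc5e835ef87e0959464499a516e235ccef15cad34012891b13745051c4e325244d5b21255411ca92d16e658033453842c3e47c0f414e04fa0b6908f6103433cc8215d8600e61acf61b1440a41454cc209411615ee3ec80034e869cce06d0e014a7368d75e8284c854091410f1e007caa1c80a01d28025ab0662110961688ac,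 [0, 0], [11, 8]),
  (0x5e93382c2c52c78568cc318af6b8b616c291413c59d2c0fdaa31c40740192c6156fc84000341fe2040546204d83a9e726126240d05d0c568c1d8256c1f9e87618a4eda71f141858087851a5c864790f80700b475404e92015db44c1c65bc061b9711a0c82744e2b81035d457ec5c8083c6ad0611e1c5f60e6a403655e6458c0310ba8347b1e48a4f8fa8188718948561ee751b5631b04518f72a13889fc1b1b70dd900a8181f4048989467ce324d6576d4c6cc897adde794ab4346303d132858b6d86a2f00d154a84f4da51d0e1dd37030011d4b3724c93c0024d48b0e5a80e9fd1042614d0c268d25b9593d4464e2192d56260dc33b5ba160d37549238534831804902b771f5788cb6ed5230c9b109b11345a7fd4f3cc8c524763a6117dc276204c74911195be174be75c13704eb5e4823b83b4c57b12c1e4a4962a81b8280e2891b7e5f85812205c83699d6714a925c3047851234b23f42347cb754c3e6e13670a1f820164e45f570885a50336d570d61783d5b545c47d1663dcce3e5da5ad9b614b9015df89da158ded612044fc9f3fc2d381d98782f6f17537c1f550a02792117a034acde5b4d42e0d51657c895f66690b2f5687f95629970851824558e7cd9305474374c2675123c923701ad400b43716439d50678612b433651d37c5f07c9ac43ca4089bd8757e3a1044247a1106f23860801ef1cd081495e2162323d6a45d8d6955d8903d29431218fe5550781409494677451c8604949dcd671b95fde3094e480587774f40e04a3994e2547250d181c0d96497657c71681ea3054486ccd344bf3b056534543d8bb120ca6bd19625e94bdc70286672c99114b0528435cd327211073191848e5508ac29c360692d1b5ec244326886b0b9986c978868245dd971a42813d28358070852e691cf4aa073c5fa61981584114141205199738a33ed0a3f09c201e008102840e2658ef884cf,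 [1, 0, 0], [10, 6]),
  (0x69e014e0db211966051b7319e78da016e1a59cb75a17e7cc5e788cf2e005784c10254c04dbd3b926265f98142c224706e43f56dfb07864624ef4cdec6d56f5b1b33305881d8a281773fde9654c55589a61d662f1f584e1d83d42259570714f798d866d595f11944cde601c7135231940f7186111c5f0a05d7dddc638fa52d726e07b200ba828e57b8e4495c177d86748273593f6bcdf1493a4215500dea1f8f02fe1f30d7a154d71c55c2921e615ad71116085047150262d6b65c200f0c62f99305d14435d4424fb3e08c1a91c870a50110a3a1760907d85837104fd0897b6f12e12de580c8873cbd32d1a2ad840ce178646872a233dc72061a56415e5d5836680c0c145529f8285506d0d4740487344f75cb23f8786c4da53a096a4d36c80e035d812808339c042cc73406d43df15cc772620b489ef3447549cb38841b2893e4b5c88983222d316d9ae4304e30835839e47596e45dff510bb5c13c7803e4dca97ac3d8002f7f8825955f2b1da5c443238ca7b4cd845ba665d958c6f3b604650fc630140652c7c8603e4e71f2241b1fd3b02d574f42bcaa0e8e16c1f02c1b714d8d6a998004a8551520a8dd5e5a35a5dd70c9726d00745244810636487170c088026074a6111c23ce18045786f894140126a09015c5138d1f23c3b3d55a069f4584836099f54d291d0625d0f63249c19a024da06854dc2553451c922160c158eb23521544e040dd5310312185a63d9c2059268558535014487a0d1de2d87f27dac1cc6e1d9e879c0b10067398231a5db0ad6d7da1401d306994641dfc8216086d644d5fa2c4364e4b43a949348b524d1e274c816543124d572d0e15118889ab4be254ed102b9ce0008a4a132054ad5a8798484c2454074c6b0b89e3a5150a4f228d1d094b9675bb621bf5057f89d3d4a84684002521a2691c90e0455f41f64511040e25880a18c39834423c52b018a705905,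 [1, 1, 0, 0, 0], [15, 14]),
  (0x7e87f84a032c84235c5d47caf5556586c2985dc03293046dea1d0ac456107b526081ff100a28193b2a601204537696f684cc70c9d27cd9325616e4c81293d7a58883802438d677d5339d2464e140c8652699b7adec285ac3fd3e6a2223e1de7649e6e9e41544e419f4389b25f0fd775ce5290c72d9c046004fc78098f41698b43e1801d124a4e028c0b1c5372ccda50d113ec6751cdf539e21dcbe53c647497e3bcae48cbf7f90a825ca290e345134390fe03604301ab65d6b30809644614811d61949714a87441f8098d2ec8e41c87004aa4b9ef051391881d164d36d0a0228e85e50d4119033866121562ad01001005a1c42094c3dde60ddd0730920e85f52d2b7d5f76584c298d2038d45e0dd55d8568d5b5910224d21674986d4c31b0083791a0ac2279cba8561d624cf29446345a04946d489b75cdfd1e57b6892a49d770d10b1d9d88453152213755d65c8eb821f84789b234cd695b157dbe4a1106096a639137cd5a134b64221f82c2c660037c4503b2230a86e504fc58c703b4db65072148243c576061f93e4b1265715607515c2e3856287981395bc6c1b35b92c225b67f0f60bd99145521711812d090ed87210c1354b575d4078da6179b822de5720bc7c9ae5b5956bd3c0a1441ed83864548599a784bd678880d8133d404610215e93a3119f5092d20c965fe245340a551f606a26880f01a61c08d5e219162b60745c172e175360c6704910c49031c948160d519c7341362dc9c82843570600798f255663b9cf7a0685a5450b4f3094fa6a550071aa200dc0f5336b4c50fd5116e0c4bca783c8f7ec4540c4f111671a9191f430104e91e8b011c35048cb019dc4d43325c3e5c03c0e15d7b93889c561f1bd415592156c030e61acea1f9608697d781c21cdc96302704063751741606f06d1c064152318069cb9894b43c98a03c397c22176c496fdbb649c601416735a474d32,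 [1, 0, 0, 0], [2, 9]),
  (0x29c604150456dc642a002221e2f90816e1a400ba140dc1746420e0b580193b13b024cd5a527898975a87f814890b13d51a0e2107d0785e5357a684300ac6f49010820150d4fb2cd422c540475aa761dd195ba638c82998f39d7785806808433f0ea1b9f87f9d6698218846c154d361c3c659d511c940a1f319d022f162241972953c200b74b57578068825825ed213a43907d4508cdf6747468120778d950d30585703f4ef134aa260822919e5261c02d64378db795dc3096b5c82003d0c78dc23684f3019975d8a7d9b66c5f16b5b80bd813a1b7091fb259f2104c3039df5752e12dc5811cc79d54374322ad360e0b5328e42d9ff3ddd90757847d5e3959c168167b13f109596b844020d45111888914425c3831ab1a8176312512923560227d1566a5b47a112881ac324ac21d1c5cd651c4cf4892c344756f4a06001b1e55382a153b91a0a931230a13191e62e070fc4c464d545e237409387c7b7b83e3107c0990646c045f15c1dcae1b4533d94f11a1915d4c171667507258d6f3b603651e653814015ef0de013e60f2a59871dfd7846b6f1db38cd73808a6c18826d767694831624569412f55222ccb5e5d104c9a2c9262c16768d6c5543d7a90f8450d42deb062135419351dbe045a58605f5a0121894b7b4662bd9023c403d4014040d2fde27059f4f8344e9a85d171340491441c610767217e095073cc920c4fe1590e235864543a278614dc852459a87583205924cdb26241a7000a4a403729f927cc71a59b818ce73dc40edf70b9af1ccf46d4d23e1fc01cf044db94d214330b886d164d5a43fc36274b4361855b6172ec4e4e5f51647e2716e72ceb15048734784bc003051057d91894e128e12160ad264a24c9e4219e94ac2d39903749510a4f24a195254b9149117c1bf2a17f008704a88e3c627634e27e9c90cc455f4d6739bb6cda23e87a18c278354a841d355da703138,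 [0, 0, 0], [0, 10]),
  (0xdc9804c9e3f9de03097418e34e89486c292d5c0864b34edea4822548e1015df32005a414796851b23a092059889187819c8831a34b8d9156273b91a5609a565d442cbf4040d5f83983de4796147d46f4f562309d831dae2c4277bddc73c4202e0376d243251e47c1f005a9625601c1ce00d5f72da0090c11f80662d667fc2621e18025120d0e0021d97e4c44c0da51577379d2450df2ecbe17de26586419ddf054c6454025352b80534290af51dca798b235903655572f0f57ac07645701d10d61823708104e5f43398d538a92d90f3881627da80a1d14b0a75cd514a0f02281e4bd1d3a83d808dd2f4306510e1b567140728714b3e4e47e82a44c920e8775310a0c8e953d6c8749b7b8d4170666adaf2756456dcd631216c47f1b0b86d4a33ecc871de07d8ba820a65f0386e07c1059c1800048a161657f288dc5692a6f5114a60e4cdec695315218f87d196381a85540138d2234908459d431be6d110705f15c9cc499a23410760dd50cd7114d4a5a9687859a740fa6cc683b5dd58cd82adc41a8113c49669c713dcff4702c129747b42e3859b679d3395bc6c141540623d9b67f089885f032d525e1544d47d4e16f45a00112177edf820c88178a55119333197691ac2c0c06153c0508b1ed08328126de233b048879a623e125ad8081d8a161554dd9f6ee0a78d767f5da7f87a461e73ad460fca01cc825255e218841598445c1730d7536cae608910c4cd28565814638982b134352dc494b5c66b5253a213094f46e4f8070fc4c9430b44f2546e6c96e7a1aa0817b64076570c5880d316dc35e41d39c3675cb4810f335500149d642556345f70296d11d36150511e22212e0b1743e1843c33d5d0383b584ad11927101e92144c35ce61ad044fcfd868b9089c51a4f224d3e2a20d620755e86506c99064ef230040617d2b0457242103d536642f6e89c649426fc43014aa409f260569,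 [1, 1, 1, 0], [13, 5]),
  (0x3bda133c89241ab00608430e3285ca16c295a07b401ef838c56b03b510053fdc86fd5b895297e50b069b9204ea361cf1c49752cc95d1aa744184952450cce558fb304a72a4a8259b43b03265c5e131f6809c4655e91d1557b4083c1961bd5766cf6391f54e51e57db32a93f1f6110700f1e03d11dad5f43f129de474fc5910d4dcb78353c288e154d621d90f6a18d6c9e06642b539b013e1d2d8a67361471d767c91f22c1d7ec2f3b85f67caf2ec773d0cd0402c09803714ab300630f1a66b8c2231b1639f4135411c0173cceb594c40595a1d4a0724d04c2274d42a09c62381fd105eb768c67756d355f83d48e414ca85cfa670b23b5660552318492229073fa215b1b5408c820cdd445523f4b05286a1559a88c4351db6616067485c19c397c1e43a5bb61e187cde3425696090e5e55c898404c5df12c1e0d21635c1b4b4221e6001fd592e122369e244d197947c499ec13866235c330daf640ba4f83e2958464d703300c27494209cc04c9e4100681cb539c844540b035ba3dde83e4535ac6e524b90657b0093358c574da035149f2c46b0e87267804574e537cd62f4b340d861920474c21348d45816e165fe000f816a20550505f1d884e1f7f1c1544bc175c21613a32d8b149c03c8d344a1c59cb45f91683c44879d52b4386512b471880dcc721ca40392763cdc3a0db75c0a5416f11a0146d2c1a5a06755e0c5ff23c9945d485e1bc661066e0852460c4813481409825f768df16f89c6f62260d465fcbe2546818065269db0cda90b98c095d91f8484f5ea649b72b898420d94edd086d4c3456178456624545c4934621908dd6535404bc6c1e85172d6a1149b1094f5ce1285510221ce4c9755dc6d69c364060a2b0302191a3882d39a24561a586824509721cc28450a307c073792e7e9e74a835841a44850a2fc114e012051d4645286298179849201ee081dc3c5a27197a6020b,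 [1, 1, 1, 0, 0], [14, 7]),
  (0x691f94ca0470d4a2a9f3640e34807786c292d512864f0800d94e86d544f115c97082230ec791d8c11f060205da14c6f4ce082c93927dea340bf519f56a470501f00fe273ac1f5ed3e83d6c709fc469877746e098306b8c72c553189cd7d8031c9035984c1351e0f40d689587f8c326991108c672d830451b515ab7addb668c221dbe01dc00d03a4a1c4260c4280171f9bb629f73ccdf63083595e310c5e3a4dc5e95f34d615f181494b6290af13d071a20c7d203434785c96b62c09739d555595485857954168cd60714824c464d10f568d74b92c0509d6a01816523020b3384e85e4c036d1f7a051461d82ac1a895671400b570cd3dcfc7c9442209238094241d332067719e484d6d088d4694cb0194974484459dc2ed86148710acfd71db4084326d40e73cb77218f5360b6e08e34508824ac489765cdfd289df3892a6f5424a6208195617131634a61851965d0e33159138b02354c5e06a2ba1828d10704992f1a617401155ca6817033c89891de47168785ff22d9b2a1e658d3d3b504651d967424841b70747f3e4ff5a8f66c8757b4e6228fa6790a5d55d6c010355ef0b08c85171011d4199528444812dd71006556d3b5ba17425e92f913190a50a9c58558e0dca13491d08c7b0a1d04f19c328542585a3b154879cc0d9693d42f4d8de3bc744dd9f5de0a78a165fd986247a2f4f8404ee42d301cdad6bd5e245642b43545cda580e53a90c608862154b6b05f8160d6e46c325842e8494b54f20a0107a1d095ba899e7338e404d3f1ad472556212844808c52017e419a1871aa8391516cfe4bda739c8f1f44527914541006c5d67edec105d20289b11e07048dd55d024d4384983e87c0f0cdbc78105008562a5274e1f80c5240582e0b4d850cb88697d7b9931a5c9538396cc63665740556f06df1014586da2129cb9000b43c8fb0f027621803d09c6fd11649960640c889fa4ae12,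 [1, 1, 1, 0, 0, 0], [3, 11]),
  (0x8ee001987fdcd6010b5c19e63dad86e1a329be2d496721fc29932170f139c3f834fe33d2d494cc0d476816038101c1811b88d7c7f6141f5a41fd5919cf83200d17437471884b1e015c30098d9500ce73cfc7144c2f8833b1ee5ec03269023d0531c95642519185994ace968d4479d918888872cb6726151b1967940b2c993609126fe1849d5d44566518a55d88c0ac08041581a9b008ca1870c71e0c51286229d135e1fa744e24cd0867e1e149831b85a752245c9c647594709927391f874bc5214e308fb535f01952152536671c142a215fcdc5f5fe77cef5e5a5509b7395745cd973da1f1bcd5349245ac9904c50401ba1dd1658cfa2fcb82b95e6f082210017e1b2019d8480bd4f9524544410d8c624cd240426158d3cdb94fdd01f9772a1e9515531c07b3047427505311844d507686124c4f04bd2e829ef74d2a0d0a36f4978256c34d22619556404e655f1800327584845d645444f699c06ed1021ceb300c68818175da04d03d4e0db279dc069672c60c30de6629623e5f63dd713d5db51cf2841305ea263b5e1438d8748e883c2e5d4682bda22283a37c2132d7e410177a8ea2a81f5b8d448d6d344c982de85320837619341f56b10c6a9373f58b4ed0d585e35518e24cb72e5602e9ca85cb4281c33fc9b38d5f2b46d2acd71f14169e136e0a44a0796b8b327d034e4492c1dd5a87149a160945f2ec922194b23c46235b60a8e10b1cc43c910c55b7895c204807e5437eca94f00a289ab596061d53a1a5d92613d5bd9b2b1c70b5b11cce47dc5161c5e18da875601250647ce1116d9a164157b456134547699d199684511e155e412da92711811c8e1155053d4a1043b8383e4180f100e009c337c83681d290e11a215ec010e61ac896d48b0a4280e5eb254246bc0e378203581e0620206d010141d3680c160145a412045b30f0227d0167107a025b401d570642f77a2756a25,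 [1, 1], [4, 3])]

end Cfsg.Agent.H895.CoIF
end

private theorem dce_3a3c8a4d6ee4 : _root_.True := by
  try have : _root_.True := by simp only [_root_.Cfsg.Agent.H895.IFT.cu.eq_1]
  try have : _root_.True := by simp only [_root_.Cfsg.Agent.H895.IFT.cu.eq_def]
  try have : _root_.True := by simp only [_root_.Cfsg.Agent.H895.IFT.cu.eq_2]
  try have : _root_.True := by simp only [_root_.Cfsg.Agent.H895.IFT.wd.eq_1]
  exact _root_.True.intro
end

-- part: H411/L4/LR
section
prune_inst 0x4d15075445d2212000800059471001c67fe000592006bc800d0200f46078bdf6a09460f60bcb01d1818eeba04603d0068131000c0424000000e000c00011f058100880600a048a188a20008000004400000000000000000000000000000041004200000000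
set_option linter.all false
open scoped Cfsg.Agent.FastGrp

/-!
# S5719, `PSL_4(q)`, `q` odd, piece (LR) of helper358: two opposite transvections generate an element `y` with `y² = -1`
(helper411)
-/

set_option autoImplicit false

namespace Cfsg.Agent.H411.L4

open Matrix
open scoped MatrixGroups
open Cfsg.Agent.H17.IFSp (closure_coe_top sl2_invol dcj)

variable {F : Type*} [Field F]

/-- a subgroup of `SL₂` of order divisible by `8` contains `y` with `y² = -1` -/
theorem exists_sq_of_dvd (h2 : (2 : F) ≠ 0) [Finite F] (C : Subgroup SL(2, F)) (h8 : 8 ∣ Nat.card C) :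
    ∃ y ∈ C, y * y = -1 := by
  have : Fact (Nat.Prime 2) := ⟨Nat.prime_two⟩
  obtain ⟨P, hP⟩ := Sylow.exists_subgroup_card_pow_prime (G := C) 2 (n := 3) (by
    norm_num only []
    exact h8)
  have hex : ∃ g ∈ P, g.1 ≠ 1 ∧ g.1 ≠ -1 := by
    by_contra hcon
    push Not at hcon
    have h3 : Nat.card P ≤ Nat.card Bool := by
      classical
      refine Nat.card_le_card_of_injective (fun g : P => decide (g.1.1 = 1)) ?_
      intro g g' hgg
      have hgg' : decide (g.1.1 = 1) = decide (g'.1.1 = 1) := hgg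
      have h4 : g.1.1 = 1 ↔ g'.1.1 = 1 := by simpa using hgg'
      apply Subtype.ext
      apply Subtype.ext
      by_cases h5 : g.1.1 = 1
      · rw [h5, h4.1 h5]
      · rw [hcon g.1 g.2 h5, hcon g'.1 g'.2 fun h6 => h5 (h4.2 h6)]
    rw [hP, Nat.card_eq_fintype_card, Fintype.card_bool] at h3
    norm_num at h3
  obtain ⟨g, hgP, hg1, hg2⟩ := hex
  have h8' : g ^ 8 = 1 := by
    have h3 : (⟨g, hgP⟩ : P) ^ Nat.card P = 1 := pow_card_eq_one'
    rw [hP] at h3
    exact congrArg Subtype.val h3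
  have h8g : (g.1 ^ 4) * (g.1 ^ 4) = 1 := by
    rw [← pow_add]
    exact congrArg Subtype.val h8'
  have hsq : g.1 * g.1 ≠ 1 := fun h => hg2 (sl2_invol h2 h hg1)
  by_cases h4 : g.1 ^ 4 = 1
  · refine ⟨g.1, g.2, ?_⟩
    apply sl2_invol h2 _ hsq
    rw [← h4, ← pow_two, ← pow_two, ← pow_mul]
  · refine ⟨g.1 ^ 2, C.pow_mem g.2 2, ?_⟩
    rw [← pow_add]
    exact sl2_invol h2 h8g h4

theorem lr_one [Finite F] (h2 : (2 : F) ≠ 0) {a : F} (ha : a ≠ 0) (H : Subgroup SL(2, F))
    (hl : ∀ g : SL(2, F), g.1 = !![1, 0; 1, 1] → g ∈ H) (hu : ∀ g : SL(2, F), g.1 = !![1, a; 0, 1] → g ∈ H) :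
    ∃ y ∈ H, y * y = (-1 : SL(2, F)) := by
  classical
  set K : Subfield F := Subfield.closure ({a} : Set F) with hK
  let a' : K := ⟨a, Subfield.subset_closure rfl⟩
  let _ : Fintype K := Fintype.ofFinite K
  have hgen : Subfield.closure ({a'} : Set K) = ⊤ := closure_coe_top a
  have h2K : (2 : K) ≠ 0 := by
    intro h0
    apply h2
    have := congrArg K.subtype h0
    rwa [map_ofNat, map_zero] at this
  have ha'0 : a' ≠ 0 := fun h0 => ha (congrArg (fun x : K => (x : F)) h0)
  let Psi : SL(2, K) →* SL(2, F) := Matrix.SpecialLinearGroup.map K.subtype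
  have hPsi : Psi (-1) = -1 := by
    apply Subtype.ext
    ext i j
    (revert i j; simp only [Psi, _root_.Fin.forall_fin_succ, _root_.Matrix.SpecialLinearGroup.map_apply_coe, _root_.Matrix.SpecialLinearGroup.coe_neg, _root_.Matrix.SpecialLinearGroup.coe_one, _root_.RingHom.mapMatrix_apply, _root_.Subfield.coe_subtype, _root_.Matrix.map_apply, _root_.Matrix.neg_apply, _root_.NegMemClass.coe_neg, _root_.neg_inj, _root_.IsEmpty.forall_iff, _root_.and_true, _root_.Matrix.one_apply_eq, _root_.OneMemClass.coe_one, Nat.reduceAdd, Fin.isValue, _root_.Fin.succ_zero_eq_one, _root_.ne_eq, _root_.zero_ne_one, _root_.not_false_eq_true, _root_.Matrix.one_apply_ne, _root_.ZeroMemClass.coe_zero, _root_.and_self, _root_.Fin.succ_ne_zero, _root_.true_and])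
  have hle : Subgroup.closure {g : SL(2, K) | (g : Matrix (Fin 2) (Fin 2) K) = !![1, 0; 1, 1] ∨
      (g : Matrix (Fin 2) (Fin 2) K) = !![1, a'; 0, 1]} ≤ H.comap Psi := by
    rw [Subgroup.closure_le]
    rintro g (hg | hg)
    · apply hl
      rw [Matrix.SpecialLinearGroup.map_apply_coe, RingHom.mapMatrix_apply, hg]
      ext i j
      (revert i j; simp only [_root_.Fin.forall_fin_succ, _root_.Subfield.coe_subtype, _root_.Matrix.map_apply, _root_.Matrix.of_apply, _root_.Matrix.cons_val', _root_.Matrix.cons_val_fin_one, Fin.isValue, _root_.Matrix.cons_val_zero, _root_.Matrix.cons_val_succ, _root_.forall_const, _root_.OneMemClass.coe_one, _root_.ZeroMemClass.coe_zero, _root_.and_self, _root_.implies_true])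
    · apply hu
      rw [Matrix.SpecialLinearGroup.map_apply_coe, RingHom.mapMatrix_apply, hg]
      ext i j
      (revert i j; simp only [a', _root_.Fin.forall_fin_succ, _root_.Subfield.coe_subtype, _root_.Matrix.map_apply, _root_.Matrix.of_apply, _root_.Matrix.cons_val', _root_.Matrix.cons_val_fin_one, Fin.isValue, _root_.Matrix.cons_val_zero, _root_.Matrix.cons_val_succ, _root_.forall_const, _root_.OneMemClass.coe_one, _root_.and_self, _root_.ZeroMemClass.coe_zero, _root_.implies_true])
  have key : ∃ y ∈ Subgroup.closure {g : SL(2, K) | (g : Matrix (Fin 2) (Fin 2) K) = !![1, 0; 1, 1] ∨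
      (g : Matrix (Fin 2) (Fin 2) K) = !![1, a'; 0, 1]}, y * y = (-1 : SL(2, K)) := by
    rcases Cfsg.Agent.S0801.result (F := K) h2K a' ha'0 hgen with ⟨htop, -⟩ | ⟨-, -, h120⟩
    · rw [htop]
      refine ⟨⟨!![0, 1; -1, 0], by rw [det_fin_two_of]; ring⟩, Subgroup.mem_top _, ?_⟩
      apply Subtype.ext
      show !![(0 : K), 1; -1, 0] * !![(0 : K), 1; -1, 0] = (-1 : Matrix (Fin 2) (Fin 2) K)
      rw [Matrix.mul_fin_two]
      ext i j
      (revert i j; simp only [_root_.Fin.forall_fin_succ, _root_.MulZeroClass.mul_zero, _root_.mul_neg, _root_.mul_one, _root_.zero_add, _root_.add_zero, _root_.neg_zero, _root_.Matrix.of_apply, _root_.Matrix.cons_val', _root_.Matrix.cons_val_fin_one, _root_.Matrix.neg_apply, _root_.NegMemClass.coe_neg, Fin.isValue, _root_.Matrix.cons_val_zero, _root_.Matrix.cons_val_succ, _root_.IsEmpty.forall_iff, _root_.and_true, _root_.OneMemClass.coe_one, _root_.Matrix.one_apply_eq, _root_.ZeroMemClass.coe_zero, Nat.reduceAdd, _root_.Fin.succ_zero_eq_one, _root_.ne_eq,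 _root_.zero_ne_one, _root_.not_false_eq_true, _root_.Matrix.one_apply_ne, _root_.and_self, _root_.Fin.succ_ne_zero, _root_.neg_inj, _root_.true_and])
    · exact exists_sq_of_dvd h2K _ (by rw [h120]; norm_num)
  obtain ⟨y, hy, hyy⟩ := key
  exact ⟨Psi y, hle hy, by rw [← map_mul, hyy, hPsi]⟩

/-- **(LR)** two opposite transvections of `SL₂(q)`, `q` odd, generate a group containing `y` with `y² = -1` -/
theorem lr_sl2 [Finite F] (h2 : (2 : F) ≠ 0) {a b : F} (ha : a ≠ 0) (hb : b ≠ 0) (H : Subgroup SL(2, F))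
    (hl : ∀ g : SL(2, F), g.1 = !![1, 0; b, 1] → g ∈ H) (hu : ∀ g : SL(2, F), g.1 = !![1, a; 0, 1] → g ∈ H) :
    ∃ y ∈ H, y * y = (-1 : SL(2, F)) := by
  obtain ⟨y, hy, hyy⟩ := lr_one h2 (a := a * b) (mul_ne_zero ha hb) (H.comap (dcj hb)) (by
    intro g hg
    apply hl
    show !![g.1 0 0, b⁻¹ * g.1 0 1; b * g.1 1 0, g.1 1 1] = _
    rw [hg]
    ext i j
    (revert i j; simp [_root_.Fin.forall_fin_succ])) (by
    intro g hg
    apply hu
    show !![g.1 0 0, b⁻¹ * g.1 0 1; b * g.1 1 0, g.1 1 1] = _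
    rw [hg]
    have e1 : b⁻¹ * (a * b) = a := by rw [mul_comm a b, inv_mul_cancel_left₀ hb]
    ext i j
    (revert i j; simp [e1, _root_.Fin.forall_fin_succ]))
  have h3 : dcj hb (-1 : SL(2, F)) = -1 := by
    apply Subtype.ext
    show !![(-1 : Matrix (Fin 2) (Fin 2) F) 0 0, b⁻¹ * (-1 : Matrix (Fin 2) (Fin 2) F) 0 1;
      b * (-1 : Matrix (Fin 2) (Fin 2) F) 1 0, (-1 : Matrix (Fin 2) (Fin 2) F) 1 1] = (-1 : Matrix (Fin 2) (Fin 2) F)
    ext i j
    (revert i j; simp only [_root_.Fin.forall_fin_succ, Fin.isValue, _root_.Matrix.neg_apply, _root_.Matrix.one_apply_eq, _root_.ne_eq, _root_.zero_ne_one, _root_.not_false_eq_true, _root_.Matrix.one_apply_ne, _root_.neg_zero, _root_.MulZeroClass.mul_zero, _root_.one_ne_zero, _root_.Matrix.of_apply, _root_.Matrix.cons_val', _root_.Matrix.cons_val_fin_one, _root_.Matrix.cons_val_zero, _root_.Matrix.cons_val_succ, _root_.IsEmpty.forall_iff, _root_.and_true, Nat.reduceAdd, _root_.Fin.succ_zero_eq_one, _root_.and_self, _root_.Fin.succ_ne_zero,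 _root_.neg_inj, _root_.true_and])
  exact ⟨dcj hb y, hy, by rw [← map_mul, hyy, h3]⟩

/-- **P2 (LR)** in the form of helper358 -/
theorem exists_sq [Finite F] (h2 : (2 : F) ≠ 0) {a c : F} (ha : a ≠ 0) (hc : c ≠ 0)
    (H : Subgroup (Matrix.SpecialLinearGroup (Fin 2) F)) {x x' : Matrix.SpecialLinearGroup (Fin 2) F} (hx : x ∈ H)
    (hx' : x' ∈ H) (hxm : (x : Matrix (Fin 2) (Fin 2) F) = !![1, a; 0, 1])
    (hxm' : (x' : Matrix (Fin 2) (Fin 2) F) = !![1, 0; c, 1]) :
    ∃ y ∈ H, (y : Matrix (Fin 2) (Fin 2) F) * y = -1 := by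
  obtain ⟨y, hy, hyy⟩ := lr_sl2 h2 ha hc H (fun g hg => by
    have : g = x' := Subtype.ext (hg.trans hxm'.symm)
    rw [this]; exact hx') (fun g hg => by
    have : g = x := Subtype.ext (hg.trans hxm.symm)
    rw [this]; exact hx)
  refine ⟨y, hy, ?_⟩
  have h3 := congrArg Subtype.val hyy
  exact h3

end Cfsg.Agent.H411.L4
end
end
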